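import Groth.Agent.Sga3C.GrpIrr
import Mathlib.AlgebraicGeometry.Group.Smooth
import Mathlib.AlgebraicGeometry.Geometrically.Integral
import Mathlib.AlgebraicGeometry.Geometrically.Connected
import Mathlib.AlgebraicGeometry.Geometrically.Reduced

/-!
# Group schemes with connected fibres have geometrically connected fibres
-/

universe u

open CategoryTheory CategoryTheory.Limits MonoidalCategory CartesianMonoidalCategory MonObj AlgebraicGeometry

namespace K454

theorem geometricallyIrreducible_of_fibres {S : Scheme.{u}} (X : Over S) [GrpObj X] [LocallyOfFiniteType X.hom]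
    (hX : ∀ s : S, ConnectedSpace ↥(X.hom.fiber s)) : GeometricallyIrreducible X.hom := by
  have h0 : GrpObj (Over.mk X.hom) := inferInstanceAs (GrpObj X)
  refine Groth.Agent.Sga3C.GrpIrr.geometricallyIrreducible_of_connected_fibres X.hom fun s => ?_
  have := hX s
  exact isConnected_iff_connectedSpace.mpr ((X.hom.fiberHomeo s).surjective.connectedSpace (X.hom.fiberHomeo s).continuous)

theorem geometricallyConnected_of_fibres {S : Scheme.{u}} (X : Over S) [GrpObj X] [LocallyOfFiniteType X.hom]
    (hX : ∀ s : S, ConnectedSpace ↥(X.hom.fiber s)) : GeometricallyConnected X.hom := by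
  have h := geometricallyIrreducible_of_fibres X hX
  refine ⟨?_⟩
  intro K _ y Z a b hZ
  have := h.1 y a b hZ
  infer_instance

end K454
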