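import Groth.Agent.AbSch.K448.MulFibre
import Groth.Agent.AbSch.K454.AbConn
import Groth.Agent.AbSch.K448.SmoothConn
import Groth.Agent.Grpsch.MulFinFlat
import Groth.Agent.CGrpSh.K731.Basic
import Groth.Agent.Flat2D.LfpComp
import Groth.Prelude.Def_CGrpSh2
import Mathlib.AlgebraicGeometry.Sites.Fpqc

/-!
# Multiplication by `n ≠ 0` on an abelian scheme is finite, flat, surjective, hence an fppf epimorphism
-/

universe u

open CategoryTheory CategoryTheory.Limits MonoidalCategory CartesianMonoidalCategory MonObj Opposite AlgebraicGeometry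

namespace K454.MulEpi

variable {S : Scheme.{u}}

section

attribute [local instance] Functor.grpObjObj

open K448.MulFibre

/-- `[n]`, `n ≠ 0`, is finite flat surjective on an abelian scheme -/
theorem isFinite_flat_surjective_zpow (X : Over S) [GrpObj X] [IsProper X.hom] [Flat X.hom]
    [LocallyOfFinitePresentation X.hom] [GeometricallyReduced X.hom] [GeometricallyConnected X.hom]
    (n : ℤ) (hn : n ≠ 0) :
    IsFinite (𝟙 X ^ n).left ∧ Flat (𝟙 X ^ n).left ∧ Surjective (𝟙 X ^ n).left := by
  have hgi : GeometricallyIntegral X.hom := K449.Basic.geometricallyIntegral X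
  have key : ∀ s : S, IsFinite ((Over.pullback (S.fromSpecResidueField s)).map (𝟙 X ^ n)).left ∧
      Flat ((Over.pullback (S.fromSpecResidueField s)).map (𝟙 X ^ n)).left ∧
      Surjective ((Over.pullback (S.fromSpecResidueField s)).map (𝟙 X ^ n)).left := by
    intro s
    rw [Groth.Agent.Grpsch.AbBC.map_zpow_one]
    have h1 : IsProper ((Over.pullback (S.fromSpecResidueField s)).obj X).hom :=
      inferInstanceAs (IsProper (pullback.snd X.hom (S.fromSpecResidueField s)))
    have h2 : GeometricallyIntegral ((Over.pullback (S.fromSpecResidueField s)).obj X).hom :=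
      inferInstanceAs (GeometricallyIntegral (pullback.snd X.hom (S.fromSpecResidueField s)))
    exact Groth.Agent.Grpsch.MulFinFlat.isFinite_flat_surjective_zpow (S.residueField s)
      ((Over.pullback (S.fromSpecResidueField s)).obj X) n hn
  refine ⟨isFinite_of_fibres _ fun s => ?_, flat_of_fibres (𝟙 X ^ n) fun s => fibre_of_map @Flat (𝟙 X ^ n) s (key s).2.1,
    surjective_of_fibres (𝟙 X ^ n) fun s => fibre_of_map @Surjective (𝟙 X ^ n) s (key s).2.2⟩
  have h := fibre_of_map @IsFinite (𝟙 X ^ n) s (key s).1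
  infer_instance

end

theorem zsmul_apply {K : Precoverage Scheme.{u}} [(QuotSh.J K S).Subcanonical] (A : Over S) [GrpObj A] [IsCommMonObj A]
    (n : ℤ) (T : Over S) (x : T ⟶ A) :
    (n • 𝟙 (CGrpSh.pts K A) : CGrpSh.pts K A ⟶ CGrpSh.pts K A).hom.app (op T) (ULift.up (Additive.ofMul x)) =
      ULift.up (Additive.ofMul (x ≫ (𝟙 A ^ n))) := by
  let e : (CGrpSh.pts K A ⟶ CGrpSh.pts K A) →+ ((CGrpSh.pts K A).obj.obj (op T) →+ (CGrpSh.pts K A).obj.obj (op T)) :=
    { toFun := fun φ => (φ.hom.app (op T)).hom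
      map_zero' := rfl
      map_add' := fun _ _ => rfl }
  have h : e (n • 𝟙 _) = n • e (𝟙 _) := map_zsmul e n _
  have h2 := DFunLike.congr_fun h (ULift.up (Additive.ofMul x))
  refine Eq.trans h2 ?_
  rw [GrpObj.comp_zpow, Category.comp_id]
  rfl

theorem epi_zsmul_of_fppf (A : Over S) [GrpObj A] [IsCommMonObj A] (n : ℤ) [Flat (𝟙 A ^ n).left]
    [Surjective (𝟙 A ^ n).left] [LocallyOfFinitePresentation (𝟙 A ^ n).left] :
    Epi (n • 𝟙 (CGrpSh.pts Scheme.fppfPrecoverage A)) := by
  refine K731.Basic.epi_of_exists_cover _ fun T b => ?_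
  let x : T ⟶ A := b.down.toMul
  refine ⟨_, Scheme.Hom.singleton_mem_fppfPrecoverage (pullback.fst x.left (𝟙 A ^ n).left), ?_⟩
  rintro _ _ ⟨⟩
  let y : Over.mk (pullback.fst x.left (𝟙 A ^ n).left ≫ T.hom) ⟶ A :=
    Over.homMk (pullback.snd x.left (𝟙 A ^ n).left) (by
      have h1 : (𝟙 A ^ n).left ≫ A.hom = A.hom := Over.w _
      have h2 : x.left ≫ A.hom = T.hom := Over.w _
      rw [← h1, ← pullback.condition_assoc, h2]
      rfl)
  refine ⟨ULift.up (Additive.ofMul y), ?_⟩
  rw [zsmul_apply]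
  refine ULift.ext _ _ ?_
  change Additive.ofMul (y ≫ (𝟙 A ^ n)) = Additive.ofMul (Over.homMk (pullback.fst x.left (𝟙 A ^ n).left) ≫ x)
  congr 1
  ext1
  exact pullback.condition.symm

/-- On an abelian scheme multiplication by `n ≠ 0` is an epimorphism of sheaves of points for the fppf topology. -/
theorem epi_zsmul (A : Over S) [GrpObj A] [IsCommMonObj A] [Smooth A.hom] [IsProper A.hom]
    (hA : ∀ s : S, ConnectedSpace ↥(A.hom.fiber s)) (n : ℤ) (hn : n ≠ 0) :
    Epi (n • 𝟙 (CGrpSh.pts Scheme.fppfPrecoverage A)) := by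
  have := K454.geometricallyConnected_of_fibres A hA
  have := K448.SmoothConn.geometricallyReduced A.hom
  obtain ⟨h1, h2, h3⟩ := isFinite_flat_surjective_zpow A n hn
  have h4 : LocallyOfFinitePresentation (𝟙 A ^ n).left := by
    have : LocallyOfFinitePresentation ((𝟙 A ^ n).left ≫ A.hom) := by rw [Over.w]; infer_instance
    exact Groth.Agent.Flat2D.LfpComp.lfp_of_comp _ A.hom
  exact epi_zsmul_of_fppf A n

end K454.MulEpi
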