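import Groth.Agent.AbSch.K454.QaffRep
import Groth.Agent.AbSch.K453.ExtTors

/-!
# Extensions by affine group schemes are representable, with the kernel
-/

set_option autoImplicit false
universe u
open CategoryTheory CategoryTheory.Limits MonoidalCategory CartesianMonoidalCategory MonObj AlgebraicGeometry
open CGrpSh Opposite

namespace K454.AffGrp

open K452.TorsRep Groth.Agent.Ega2.QuasiAffine

theorem qAff_of_isAffineHom {X Y : Scheme.{u}} (f : X ⟶ Y) (hf : IsAffineHom f) : QAff f :=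
  ⟨inferInstance, fun V hV => by
    have : IsAffine (f ⁻¹ᵁ V : Scheme.{u}) := hV.preimage f
    infer_instance⟩

variable {S : Scheme.{u}}

section Ker

variable {N G H : Over S} [GrpObj N] [IsCommMonObj N] [GrpObj G] [IsCommMonObj G] [GrpObj H] [IsCommMonObj H]

theorem ptsMap_up (v : G ⟶ H) [IsMonHom v] {X : Over S} (g : X ⟶ G) :
    (ptsMap Scheme.fppfPrecoverage v).hom.app (op X) (up g) = up (g ≫ v) := rfl

theorem up_down {X : Over S} (s : (pts Scheme.fppfPrecoverage G).obj.obj (op X)) : up s.down.toMul = s := rfl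

theorem up_one {X : Over S} : up (1 : X ⟶ G) = 0 := rfl

/-- The kernel of an extension of group schemes, from the exact sequence of sheaves of points. -/
theorem ker_of_exact (j : N ⟶ G) [IsMonHom j] (v : G ⟶ H) [IsMonHom v]
    (w : ptsMap Scheme.fppfPrecoverage j ≫ ptsMap Scheme.fppfPrecoverage v = 0)
    (hex : (ShortComplex.mk _ _ w).Exact) (hm : Mono (ptsMap Scheme.fppfPrecoverage j)) :
    Mono j ∧ j ≫ v = 1 ∧ ∀ (X : Over S) (g : X ⟶ G), g ≫ v = 1 → ∃ n : X ⟶ N, n ≫ j = g := by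
  refine ⟨⟨fun {X} a b hab => ?_⟩, ?_, fun X g hg => ?_⟩
  · have h1 := K453.SheafEx.mono_app (ptsMap Scheme.fppfPrecoverage j) (op X)
    apply up_inj
    apply h1
    change up (a ≫ j) = up (b ≫ j)
    rw [hab]
  · have h1 : (ptsMap Scheme.fppfPrecoverage j ≫ ptsMap Scheme.fppfPrecoverage v).hom.app (op N) (up (𝟙 N)) =
        (0 : pts Scheme.fppfPrecoverage N ⟶ pts Scheme.fppfPrecoverage H).hom.app (op N) (up (𝟙 N)) := by rw [w]
    have h2 : up ((𝟙 N ≫ j) ≫ v) = up (1 : N ⟶ H) := h1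
    have h3 := up_inj h2
    rwa [Category.id_comp] at h3
  · have h1 : (ptsMap Scheme.fppfPrecoverage v).hom.app (op X) (up g) = 0 := by
      rw [ptsMap_up, hg, up_one]
    obtain ⟨t, ht⟩ := K453.SheafEx.exists_section hex (up g) h1
    refine ⟨t.down.toMul, ?_⟩
    apply up_inj
    exact ht

end Ker

variable {N H : Over S} [GrpObj N] [IsCommMonObj N] [GrpObj H] [IsCommMonObj H]

/-- **Extensions by affine group schemes are representable.** -/
theorem exists_grp_affine {E : BigSite.Ab Scheme.fppfPrecoverage S} (i : pts Scheme.fppfPrecoverage N ⟶ E)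
    (q : E ⟶ pts Scheme.fppfPrecoverage H) (w : i ≫ q = 0) (hex : (ShortComplex.mk i q w).ShortExact)
    (hN : IsAffineHom N.hom) :
    ∃ (G : Over S) (_ : GrpObj G) (_ : IsCommMonObj G) (v : G ⟶ H) (_ : IsMonHom v) (j : N ⟶ G) (_ : IsMonHom j)
    (e : pts Scheme.fppfPrecoverage G ≅ E), e.hom ≫ q = ptsMap Scheme.fppfPrecoverage v ∧
      i = ptsMap Scheme.fppfPrecoverage j ≫ e.hom ∧ Mono j ∧ j ≫ v = 1 ∧
      (∀ (X : Over S) (g : X ⟶ G), g ≫ v = 1 → ∃ n : X ⟶ N, n ≫ j = g) ∧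
      ∀ (P : MorphismProperty Scheme.{u}) [P.IsStableUnderBaseChange] [P.IsLocalAtTarget Scheme.fppfPrecoverage],
        P N.hom → P v.left := by
  obtain ⟨G, g1, g2, v, g3, e, he, hP⟩ := QaffRep.exists_grp_qaff i q w hex (qAff_of_isAffineHom _ hN)
  have hj : ptsMap Scheme.fppfPrecoverage (K731.Full.hom (i ≫ e.inv)) = i ≫ e.inv := K731.Full.ptsMap_hom _
  have w' : ptsMap Scheme.fppfPrecoverage (K731.Full.hom (i ≫ e.inv)) ≫ ptsMap Scheme.fppfPrecoverage v = 0 := by
    rw [hj, ← he, Category.assoc, Iso.inv_hom_id_assoc, w]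
  have hex' : (ShortComplex.mk _ _ w').ShortExact := by
    refine ShortComplex.shortExact_of_iso (ShortComplex.isoMk (S₁ := ShortComplex.mk i q w)
      (S₂ := ShortComplex.mk _ _ w') (Iso.refl _) e.symm (Iso.refl _) ?_ ?_) hex
    · change 𝟙 _ ≫ ptsMap _ _ = i ≫ e.inv
      rw [Category.id_comp, hj]
    · change e.inv ≫ ptsMap _ _ = q ≫ 𝟙 _
      rw [Category.comp_id, ← he, Iso.inv_hom_id_assoc]
  obtain ⟨k1, k2, k3⟩ := ker_of_exact _ _ w' hex'.exact hex'.mono_f
  refine ⟨G, g1, g2, v, g3, K731.Full.hom (i ≫ e.inv), inferInstance, e, he, ?_, k1, k2, k3, ?_⟩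
  · rw [hj, Category.assoc, Iso.inv_hom_id, Category.comp_id]
  · exact hP

end K454.AffGrp
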