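import Groth.Agent.AbSch.K454.ToriField
import Groth.Agent.AbSch.K454.AffGrp
import Groth.Agent.AlgSp.K594.Local
import Groth.Agent.Sga3B.PinTransport

/-!
# Extensions of tori by tori over an algebraically closed field split

* `AllSplit F G`: every extension of `F` by `G` splits; `AllSplit.of_sum_left`, `AllSplit.of_sum_right`, `AllSplit.of_iso`;
* `allSplit_gm`, `allSplit_torus`.
-/

set_option autoImplicit false
universe w v u
open CategoryTheory CategoryTheory.Limits MonoidalCategory CartesianMonoidalCategory MonObj AlgebraicGeometry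
open CategoryTheory.Abelian CGrpSh Opposite

namespace K454.ToriExt

section Abs

variable {A : Type u} [Category.{v} A] [Abelian A]

/-- every extension of `F` by `G` splits -/
def AllSplit (F G : A) : Prop :=
  ∀ (E : A) (i : G ⟶ E) (p : E ⟶ F) (w : i ≫ p = 0), (ShortComplex.mk i p w).ShortExact → ∃ s : F ⟶ E, s ≫ p = 𝟙 F

variable [HasExt.{w} A] [EnoughInjectives A]

theorem allSplit_iff (F G : A) : AllSplit F G ↔ ∀ x : Ext.{w} F G 1, x = 0 := by
  constructor
  · intro h x
    obtain ⟨E, i, p, w, hE, rfl⟩ := K453.ExtLift.exists_extension x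
    exact (K453.ExtLift.extClass_eq_zero_iff hE).mpr (h E i p w hE)
  · intro h E i p w hE
    exact (K453.ExtLift.extClass_eq_zero_iff hE).mp (h _)

theorem AllSplit.of_sum_left {F G : A} {J : Type*} [Fintype J] (F' : J → A) (π : ∀ j, F ⟶ F' j) (κ : ∀ j, F' j ⟶ F)
    (hsum : ∑ j, π j ≫ κ j = 𝟙 F) (h : ∀ j, AllSplit (F' j) G) : AllSplit F G := by
  rw [allSplit_iff.{w}]
  intro x
  have h1 : ∀ s : Finset J, (Ext.mk₀ (∑ j ∈ s, π j ≫ κ j)).comp x (zero_add 1) = 0 := by
    classical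
    intro s
    induction s using Finset.induction_on with
    | empty => simp
    | insert a s ha ih =>
      have h3 : (Ext.mk₀ (κ a)).comp x (zero_add 1) = 0 := (allSplit_iff.{w} _ _).mp (h a) _
      rw [Finset.sum_insert ha, Ext.mk₀_add, Ext.add_comp, ih, add_zero, ← Ext.mk₀_comp_mk₀,
        Ext.comp_assoc_of_second_deg_zero, h3, Ext.comp_zero]
  have h2 := h1 Finset.univ
  rwa [hsum, Ext.mk₀_id_comp] at h2

theorem AllSplit.of_sum_right {F G : A} {J : Type*} [Fintype J] (G' : J → A) (π : ∀ j, G ⟶ G' j) (κ : ∀ j, G' j ⟶ G)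
    (hsum : ∑ j, π j ≫ κ j = 𝟙 G) (h : ∀ j, AllSplit F (G' j)) : AllSplit F G := by
  rw [allSplit_iff.{w}]
  intro x
  have h1 : ∀ s : Finset J, x.comp (Ext.mk₀ (∑ j ∈ s, π j ≫ κ j)) (add_zero 1) = 0 := by
    classical
    intro s
    induction s using Finset.induction_on with
    | empty => simp
    | insert a s ha ih =>
      have h3 : x.comp (Ext.mk₀ (π a)) (add_zero 1) = 0 := (allSplit_iff.{w} _ _).mp (h a) _
      rw [Finset.sum_insert ha, Ext.mk₀_add, Ext.comp_add, ih, add_zero, ← Ext.mk₀_comp_mk₀,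
        ← Ext.comp_assoc_of_second_deg_zero, h3, Ext.zero_comp]
  have h2 := h1 Finset.univ
  rwa [hsum, Ext.comp_mk₀_id] at h2

end Abs

section DS

open Groth.Agent.Sga3B Groth.Agent.Sga3B.DSPts Groth.Agent.Sga3B.PinTransport

variable {S : Scheme.{u}} (K : Precoverage Scheme.{u}) [(QuotSh.J K S).Subcanonical]

theorem pts_hom_ext {G H : Over S} [GrpObj G] [IsCommMonObj G] [GrpObj H] [IsCommMonObj H] {f g : pts K G ⟶ pts K H}
    (h : K731.Full.hom f = K731.Full.hom g) : f = g := by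
  have : ∀ (a b : G ⟶ H) [IsMonHom a] [IsMonHom b], a = b → ptsMap K a = ptsMap K b := by
    intro a b _ _ h
    subst h
    rfl
  rw [← K731.Full.ptsMap_hom f, ← K731.Full.ptsMap_hom g]
  exact this _ _ h

theorem DSmap_add {M N : Type} [AddCommGroup M] [AddCommGroup N] (φ ψ : M →+ N) :
    Red.DSmap S (φ + ψ) = Red.DSmap S φ * Red.DSmap S ψ := by
  apply (dsEquiv _ M).symm.injective
  change dsChar _ = dsChar _
  have h1 := dsChar_DSmap (S := S) (φ + ψ) (𝟙 (Red.DS S N))
  have h2 := dsChar_DSmap (S := S) φ (𝟙 (Red.DS S N))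
  have h3 := dsChar_DSmap (S := S) ψ (𝟙 (Red.DS S N))
  rw [Category.id_comp] at h1 h2 h3
  rw [dsChar_mul, h1, h2, h3]
  refine MonoidHom.ext fun m => ?_
  exact map_mul (dsChar (𝟙 (Red.DS S N))) _ _

/-- `DSmap` as an additive map to homomorphisms of sheaves of points -/
noncomputable def dsHom (M N : Type) [AddCommGroup M] [AddCommGroup N] :
    (M →+ N) →+ (pts K (Red.DS S N) ⟶ pts K (Red.DS S M)) :=
  AddMonoidHom.mk' (fun φ => ptsMap K (Red.DSmap S φ)) fun φ ψ => by
    apply Sheaf.hom_ext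
    ext T x
    apply ULift.ext
    change Additive.ofMul (x.down.toMul ≫ Red.DSmap S (φ + ψ)) =
      Additive.ofMul ((x.down.toMul ≫ Red.DSmap S φ) * (x.down.toMul ≫ Red.DSmap S ψ))
    rw [DSmap_add, MonObj.comp_mul]

theorem sum_dsHom (r : ℕ) : ∑ i : Fin r, ptsMap K (Red.DSmap S (AddMonoidHom.single (fun _ : Fin r => ℤ) i)) ≫
    ptsMap K (Red.DSmap S (Pi.evalAddMonoidHom (fun _ : Fin r => ℤ) i)) = 𝟙 (pts K (Red.DS S (Fin r → ℤ))) := by
  have h1 : ∀ i : Fin r, ptsMap K (Red.DSmap S (AddMonoidHom.single (fun _ : Fin r => ℤ) i)) ≫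
      ptsMap K (Red.DSmap S (Pi.evalAddMonoidHom (fun _ : Fin r => ℤ) i)) =
      dsHom K (Fin r → ℤ) (Fin r → ℤ) ((AddMonoidHom.single (fun _ : Fin r => ℤ) i).comp
        (Pi.evalAddMonoidHom (fun _ : Fin r => ℤ) i)) := by
    intro i
    rw [← ptsMap_comp]
    apply pts_hom_ext
    rw [K731.Full.hom_ptsMap]
    change _ = K731.Full.hom (ptsMap K _)
    rw [K731.Full.hom_ptsMap]
    exact DSmap_comp _ _
  rw [Finset.sum_congr rfl fun i _ => h1 i, ← map_sum]
  have h2 : ∑ i : Fin r, (AddMonoidHom.single (fun _ : Fin r => ℤ) i).comp (Pi.evalAddMonoidHom (fun _ : Fin r => ℤ) i) =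
      AddMonoidHom.id (Fin r → ℤ) := by
    refine AddMonoidHom.ext fun x => ?_
    rw [AddMonoidHom.finsetSum_apply]
    exact Finset.univ_sum_single x
  rw [h2]
  apply pts_hom_ext
  change K731.Full.hom (ptsMap K _) = _
  rw [K731.Full.hom_ptsMap, K731.Full.hom_id]
  exact DSmap_id

/-- isomorphic group schemes have isomorphic sheaves of points -/
noncomputable def ptsIsoOf {G H : Over S} [GrpObj G] [IsCommMonObj G] [GrpObj H] [IsCommMonObj H]
    (e : Grp.mk G ≅ Grp.mk H) : pts K G ≅ pts K H where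
  hom := ptsMap K e.hom.hom.hom
  inv := ptsMap K e.inv.hom.hom
  hom_inv_id := by
    rw [← ptsMap_comp]
    apply pts_hom_ext
    rw [K731.Full.hom_ptsMap, K731.Full.hom_id]
    exact congrArg (fun k => k.hom.hom) e.hom_inv_id
  inv_hom_id := by
    rw [← ptsMap_comp]
    apply pts_hom_ext
    rw [K731.Full.hom_ptsMap, K731.Full.hom_id]
    exact congrArg (fun k => k.hom.hom) e.inv_hom_id

end DS

section Tori

open ToriField AffGrp Groth.Agent.Sga3B

variable {k : Type u} [Field k] [IsAlgClosed k]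

theorem allSplit_gm : AllSplit (pts Scheme.fppfPrecoverage (Red.Gm (Spec (CommRingCat.of k))))
    (pts Scheme.fppfPrecoverage (Red.Gm (Spec (CommRingCat.of k)))) := by
  intro E i q w hE
  have ha : IsAffineHom (Red.Gm (Spec (CommRingCat.of k))).hom := K151.GmGa.isAffineHom_gm
  have hs := smooth_gm (Spec (CommRingCat.of k))
  have hu : Surjective (Red.Gm (Spec (CommRingCat.of k))).hom := TorusAlgClosed.surjective_of_grpObj _
  obtain ⟨G, _, _, v, _, j, _, e, he, hj, h1, h2, h3, hP⟩ := exists_grp_affine i q w hE ha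
  have l1 := K594.Local.isAffineHom.{u}
  have l2 := K594.Local.smooth.{u}
  have l3 := K594.Local.surjective.{u}
  have a1 : IsAffineHom v.left := hP @IsAffineHom ha
  have a2 : Smooth v.left := hP @Smooth hs
  have a3 : Surjective v.left := hP @Surjective hu
  obtain ⟨σ, _, hσ⟩ := exists_section_gm v j h2 h3
  refine ⟨ptsMap _ σ ≫ e.hom, ?_⟩
  rw [Category.assoc, he, ← ptsMap_comp]
  apply pts_hom_ext
  rw [K731.Full.hom_ptsMap, K731.Full.hom_id, hσ]

attribute [local instance] K453.OverEx.hasExt K453.OverEx.enoughInjectives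

/-- **Extensions of tori by tori over an algebraically closed field split.** -/
theorem allSplit_torus (T₁ T₂ : Over (Spec (CommRingCat.of k))) [GrpObj T₁] [IsCommMonObj T₁] [GrpObj T₂]
    [IsCommMonObj T₂] (h₁ : Red.IsTorus T₁) (h₂ : Red.IsTorus T₂) :
    AllSplit (pts Scheme.fppfPrecoverage T₁) (pts Scheme.fppfPrecoverage T₂) := by
  obtain ⟨r₁, ⟨e₁⟩⟩ := TorusAlgClosed.exists_isSplitTorusWith h₁
  obtain ⟨r₂, ⟨e₂⟩⟩ := TorusAlgClosed.exists_isSplitTorusWith h₂
  have key : AllSplit (pts Scheme.fppfPrecoverage (Red.DS (Spec (CommRingCat.of k)) (Fin r₁ → ℤ)))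
      (pts Scheme.fppfPrecoverage (Red.DS (Spec (CommRingCat.of k)) (Fin r₂ → ℤ))) := by
    refine AllSplit.of_sum_left.{u + 1} (fun _ => pts Scheme.fppfPrecoverage (Red.Gm (Spec (CommRingCat.of k)))) _ _
      (sum_dsHom Scheme.fppfPrecoverage r₁) fun _ => ?_
    exact AllSplit.of_sum_right.{u + 1} (fun _ => pts Scheme.fppfPrecoverage (Red.Gm (Spec (CommRingCat.of k)))) _ _
      (sum_dsHom Scheme.fppfPrecoverage r₂) fun _ => allSplit_gm
  let i₁ := ptsIsoOf Scheme.fppfPrecoverage e₁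
  let i₂ := ptsIsoOf Scheme.fppfPrecoverage e₂
  refine AllSplit.of_sum_left.{u + 1} (J := Unit) (fun _ => _) (fun _ => i₁.hom) (fun _ => i₁.inv) (by simp)
    fun _ => ?_
  exact AllSplit.of_sum_right.{u + 1} (J := Unit) (fun _ => _) (fun _ => i₂.hom) (fun _ => i₂.inv) (by simp)
    fun _ => key

end Tori

end K454.ToriExt
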