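import Groth.Agent.AbSch.K454.PSplit
import Mathlib.Algebra.Homology.ShortComplex.Ab
import Groth.Prelude.Def_CGrpSh2

/-!
# Exactness in the category of abelian sheaves on a site, in terms of sections
-/

universe u

open CategoryTheory CategoryTheory.Limits Opposite
open K454.Glue

namespace K454.BX

variable {C : Type (u + 1)} [Category.{u} C] {J : GrothendieckTopology C}

theorem injective_of_mono {A B : Sheaf J AddCommGrpCat.{u + 1}} (φ : A ⟶ B) [Mono φ] (T : C) :
    Function.Injective (φ.hom.app (op T)) := by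
  have : Mono ((sheafToPresheaf _ _).map φ) := inferInstance
  have h2 : Mono (((sheafToPresheaf _ _).map φ).app (op T)) := inferInstance
  exact (AddCommGrpCat.mono_iff_injective _).mp h2

theorem mono_of_injective {A B : Sheaf J AddCommGrpCat.{u + 1}} (φ : A ⟶ B)
    (h : ∀ T : C, Function.Injective (φ.hom.app (op T))) : Mono φ := by
  have : ∀ T, Mono (φ.hom.app T) := fun T => (AddCommGrpCat.mono_iff_injective _).mpr (h T.unop)
  have : Mono φ.hom := NatTrans.mono_of_mono_app _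
  exact (sheafToPresheaf _ _).mono_of_mono_map this

theorem epi_of_locSurj {A B : Sheaf J AddCommGrpCat.{u + 1}} (φ : A ⟶ B) (h : LocSurj φ) : Epi φ := by
  apply (Sheaf.isLocallySurjective_iff_epi' _ φ).mp
  constructor
  intro T s
  obtain ⟨R, hR, hex⟩ := h T s
  exact J.superset_covering (fun Y f hf => hex f hf) hR

theorem locSurj_iff_epi {A B : Sheaf J AddCommGrpCat.{u + 1}} (φ : A ⟶ B) : LocSurj φ ↔ Epi φ :=
  ⟨epi_of_locSurj φ, fun _ => locSurj_of_epi φ⟩

/-- A complex of abelian sheaves whose sections are locally exact in the middle is exact. -/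
theorem exact_of_local (S : ShortComplex (Sheaf J AddCommGrpCat.{u + 1}))
    (hex : ∀ (T : C) (x : S.X₂.obj.obj (op T)), S.g.hom.app _ x = 0 →
      ∃ R ∈ J T, ∀ ⦃T' : C⦄ (f : T' ⟶ T), R f → ∃ a, S.f.hom.app (op T') a = S.X₂.obj.map f.op x) :
    S.Exact := by
  rw [S.exact_iff_epi_toCycles]
  apply epi_of_locSurj
  intro T b
  have h0 : S.g.hom.app _ (S.iCycles.hom.app _ b) = 0 := by
    have := S.iCycles_g
    have h1 : (S.iCycles ≫ S.g).hom.app (op T) b = 0 := by
      rw [this]; rfl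
    exact h1
  obtain ⟨R, hR, h⟩ := hex T _ h0
  refine ⟨R, hR, fun T' f hf => ?_⟩
  obtain ⟨a, ha⟩ := h f hf
  refine ⟨a, injective_of_mono S.iCycles _ ?_⟩
  have h2 : (S.toCycles ≫ S.iCycles).hom.app (op T') a = S.f.hom.app (op T') a := by
    rw [S.toCycles_i]
  refine Eq.trans (h2.trans ha) (nat_apply S.iCycles f b)

theorem exact_of_sections (S : ShortComplex (Sheaf J AddCommGrpCat.{u + 1}))
    (hex : ∀ (T : C) (x : S.X₂.obj.obj (op T)), S.g.hom.app _ x = 0 → ∃ a, S.f.hom.app (op T) a = x) :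
    S.Exact := exact_of_local S fun T x hx => by
  obtain ⟨a, ha⟩ := hex T x hx
  exact ⟨⊤, J.top_mem T, fun T' f _ => ⟨S.X₁.obj.map f.op a, by rw [← nat_apply, ha]⟩⟩

theorem exists_of_exact_of_mono (S : ShortComplex (Sheaf J AddCommGrpCat.{u + 1})) (hS : S.Exact) [Mono S.f]
    {T : C} (x : S.X₂.obj.obj (op T)) (hx : S.g.hom.app _ x = 0) : ∃ a, S.f.hom.app (op T) a = x := by
  let F := sheafToPresheaf J AddCommGrpCat.{u + 1} ⋙ (evaluation _ _).obj (op T)
  have h1 : (S.map F).Exact ∧ Mono (S.map F).f := by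
    rw [ShortComplex.exact_and_mono_f_iff_f_is_kernel]
    obtain ⟨h⟩ := (ShortComplex.exact_and_mono_f_iff_f_is_kernel S).mp ⟨hS, inferInstance⟩
    exact ⟨isLimitForkMapOfIsLimit' F _ h⟩
  have h2 := (ShortComplex.ab_exact_iff _).mp h1.1
  exact h2 x hx

theorem locally_of_exact (S : ShortComplex (Sheaf J AddCommGrpCat.{u + 1})) (hS : S.Exact)
    {T : C} (x : S.X₂.obj.obj (op T)) (hx : S.g.hom.app _ x = 0) :
    ∃ R ∈ J T, ∀ ⦃T' : C⦄ (f : T' ⟶ T), R f → ∃ a, S.f.hom.app (op T') a = S.X₂.obj.map f.op x := by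
  have he : Epi S.toCycles := (S.exact_iff_epi_toCycles).1 hS
  have hex : (ShortComplex.mk S.iCycles S.g S.iCycles_g).Exact :=
    ShortComplex.exact_of_f_is_kernel _ S.cyclesIsKernel
  have : Mono (ShortComplex.mk S.iCycles S.g S.iCycles_g).f := inferInstanceAs (Mono S.iCycles)
  obtain ⟨b, hb⟩ := exists_of_exact_of_mono _ hex x hx
  obtain ⟨R, hR, h⟩ := locSurj_of_epi S.toCycles T b
  refine ⟨R, hR, fun T' f hf => ?_⟩
  obtain ⟨a, ha⟩ := h f hf
  refine ⟨a, ?_⟩
  have h2 : (S.toCycles ≫ S.iCycles).hom.app (op T') a = S.f.hom.app (op T') a := by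
    rw [S.toCycles_i]
  rw [← h2]
  refine (congrArg (S.iCycles.hom.app (op T')) ha).trans ?_
  exact (nat_apply S.iCycles f b).symm.trans (congrArg _ hb)

theorem shortExact_of_sections {X Y Z : Sheaf J AddCommGrpCat.{u + 1}} (f : X ⟶ Y) (g : Y ⟶ Z) (w : f ≫ g = 0)
    (hinj : ∀ T : C, Function.Injective (f.hom.app (op T)))
    (hex : ∀ (T : C) (x : Y.obj.obj (op T)), g.hom.app _ x = 0 → ∃ a, f.hom.app (op T) a = x)
    (hsurj : LocSurj g) : (ShortComplex.mk f g w).ShortExact :=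
  { exact := exact_of_sections _ hex
    mono_f := mono_of_injective f hinj
    epi_g := epi_of_locSurj g hsurj }

end K454.BX
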