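import Groth.Agent.AbSch.K454.PSplit
import Groth.Prelude.Def_CGrpSh2

/-!
# Biadditive maps `P × Q → G`, the morphism `P ⟶ 𝓗om(Q, G)` they define, and rigidity of biextensions
-/

universe u

open CategoryTheory Opposite
open K454.Glue

namespace K454.BX

variable {C : Type (u + 1)} [Category.{u} C] {J : GrothendieckTopology C}
variable {P Q G P' Q' G' P'' Q'' G'' : Sheaf J AddCommGrpCat.{u + 1}}

/-- A biadditive map of sheaves `P × Q → G`, given on sections. -/
structure Biadd (P Q G : Sheaf J AddCommGrpCat.{u + 1}) where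
  b : ∀ T : C, P.obj.obj (op T) → Q.obj.obj (op T) → G.obj.obj (op T)
  b_map : ∀ {T T' : C} (f : T' ⟶ T) (p : P.obj.obj (op T)) (q : Q.obj.obj (op T)),
    G.obj.map f.op (b T p q) = b T' (P.obj.map f.op p) (Q.obj.map f.op q)
  b_add₁ : ∀ (T : C) (p p' : P.obj.obj (op T)) (q : Q.obj.obj (op T)), b T (p + p') q = b T p q + b T p' q
  b_add₂ : ∀ (T : C) (p : P.obj.obj (op T)) (q q' : Q.obj.obj (op T)), b T p (q + q') = b T p q + b T p q'

namespace Biadd

/-- exchange of the variables -/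
def swap (β : Biadd P Q G) : Biadd Q P G where
  b T q p := β.b T p q
  b_map f q p := β.b_map f p q
  b_add₁ T q q' p := β.b_add₂ T p q q'
  b_add₂ T q p p' := β.b_add₁ T p p' q

theorem b_zero₁ (β : Biadd P Q G) (T : C) (q : Q.obj.obj (op T)) : β.b T 0 q = 0 := by
  have := β.b_add₁ T 0 0 q
  rw [add_zero] at this
  exact left_eq_add.1 this

theorem b_zero₂ (β : Biadd P Q G) (T : C) (p : P.obj.obj (op T)) : β.b T p 0 = 0 := β.swap.b_zero₁ T p

/-- the section of `𝓗om(Q, G)` over `T` attached to `p ∈ P(T)` -/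
noncomputable def sec (β : Biadd P Q G) (T : C) (p : P.obj.obj (op T)) : Q.over T ⟶ G.over T :=
  ⟨{ app := fun U => AddCommGrpCat.ofHom
      { toFun := fun q : Q.obj.obj (op U.unop.left) => β.b U.unop.left (P.obj.map U.unop.hom.op p) q
        map_zero' := β.b_zero₂ _ _
        map_add' := fun q q' => β.b_add₂ _ _ q q' }
     naturality := fun U U' g => by
       refine AddCommGrpCat.ext fun q => ?_
       change β.b U'.unop.left (P.obj.map U'.unop.hom.op p) (Q.obj.map g.unop.left.op q) =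
         G.obj.map g.unop.left.op (β.b U.unop.left (P.obj.map U.unop.hom.op p) q)
       rw [β.b_map, ares_res, Over.w g.unop] }⟩

theorem sec_apply (β : Biadd P Q G) (T : C) (p : P.obj.obj (op T)) (U : Over T) (q : Q.obj.obj (op U.left)) :
    (β.sec T p).hom.app (op U) q = β.b U.left (P.obj.map U.hom.op p) q := rfl

/-- the morphism `P ⟶ 𝓗om(Q, G)` attached to a biadditive map -/
noncomputable def toHom (β : Biadd P Q G) : P ⟶ HomSh.homSh J Q G :=
  ⟨{ app := fun T => AddCommGrpCat.ofHom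
      { toFun := fun p => β.sec T.unop p
        map_zero' := Sheaf.hom_ext (NatTrans.ext (funext fun U => AddCommGrpCat.ext fun q => by
          change β.b U.unop.left (P.obj.map U.unop.hom.op 0) q = 0
          exact (congrArg (fun t => β.b U.unop.left t q) (map_zero (P.obj.map U.unop.hom.op).hom)).trans
            (β.b_zero₁ _ _)))
        map_add' := fun p p' => Sheaf.hom_ext (NatTrans.ext (funext fun U => AddCommGrpCat.ext fun q => by
          change β.b U.unop.left (P.obj.map U.unop.hom.op (p + p')) q =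
            β.b U.unop.left (P.obj.map U.unop.hom.op p) q + β.b U.unop.left (P.obj.map U.unop.hom.op p') q
          rw [← β.b_add₁]
          exact congrArg (fun t => β.b U.unop.left t q) (map_add (P.obj.map U.unop.hom.op).hom p p'))) }
     naturality := fun T T' f => by
       refine AddCommGrpCat.ext fun p => ?_
       refine Sheaf.hom_ext (NatTrans.ext (funext fun U => AddCommGrpCat.ext fun q => ?_))
       change β.b U.unop.left (P.obj.map U.unop.hom.op (P.obj.map f p)) q =
         β.b U.unop.left (P.obj.map (U.unop.hom ≫ f.unop).op p) q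
       rw [← ares_res]
       rfl }⟩

theorem toHom_app (β : Biadd P Q G) (T : C) (p : P.obj.obj (op T)) : β.toHom.hom.app (op T) p = β.sec T p := rfl

/-- a biadditive map whose morphism `P ⟶ 𝓗om(Q, G)` vanishes is zero -/
theorem b_eq_zero_of_toHom (β : Biadd P Q G) (h : β.toHom = 0) (T : C) (p : P.obj.obj (op T)) (q : Q.obj.obj (op T)) :
    β.b T p q = 0 := by
  have h1 : β.sec T p = (0 : Q.over T ⟶ G.over T) := by
    have h2 := congrArg (fun φ : P ⟶ HomSh.homSh J Q G => φ.hom.app (op T) p) h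
    exact h2
  have h3 := congrArg (fun φ : Q.over T ⟶ G.over T => φ.hom.app (op (Over.mk (𝟙 T))) q) h1
  have h4 : β.b T (P.obj.map (𝟙 T).op p) q = 0 := h3
  rwa [ares_id] at h4

/-- the biadditive map attached to a morphism `P ⟶ 𝓗om(Q, G)` -/
noncomputable def ofHom (φ : P ⟶ HomSh.homSh J Q G) : Biadd P Q G where
  b T p q := HomSh.ev J (F := Q) (M := G) (φ.hom.app (op T) p) q
  b_map {T T'} f p q := by
    let ψ : Q.over T ⟶ G.over T := φ.hom.app (op T) p
    have hn := congrFun (congrArg (fun k => (ConcreteCategory.hom k : _ → _))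
      (ψ.hom.naturality (Over.homMk f (by simp) : Over.mk f ⟶ Over.mk (𝟙 T)).op)) q
    have h1 : φ.hom.app (op T') (P.obj.map f.op p) = (HomSh.homSh J Q G).obj.map f.op (φ.hom.app (op T) p) :=
      NatTrans.naturality_apply φ.hom f.op p
    rw [h1]
    change G.obj.map f.op (ψ.hom.app (op (Over.mk (𝟙 T))) q) = ψ.hom.app (op (Over.mk (𝟙 T' ≫ f))) (Q.obj.map f.op q)
    refine Eq.trans ?_ (HomSh.app_over_mk_congr J ψ (Category.id_comp f) _).symm
    exact hn.symm
  b_add₁ T p p' q := by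
    have h1 : φ.hom.app (op T) (p + p') = φ.hom.app (op T) p + φ.hom.app (op T) p' := map_add _ _ _
    rw [h1]
    rfl
  b_add₂ T p q q' := map_add _ _ _

end Biadd

/-- A natural map from the sections of `E` to a sheaf of sets which only depends on the two projections comes from
`P × Q`. -/
theorem exists_descend (B : Biext J P Q G) (F : Sheaf J (Type (u + 1)))
    (δ : ∀ T : C, B.E.obj.obj (op T) → F.obj.obj (op T))
    (hδ : ∀ {T T' : C} (f : T' ⟶ T) (x : B.E.obj.obj (op T)), F.obj.map f.op (δ T x) = δ T' (B.E.obj.map f.op x))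
    (hinv : ∀ (T : C) (x y : B.E.obj.obj (op T)), B.πP T x = B.πP T y → B.πQ T x = B.πQ T y → δ T x = δ T y) :
    ∃ b : ∀ T : C, P.obj.obj (op T) → Q.obj.obj (op T) → F.obj.obj (op T),
      (∀ {T T' : C} (f : T' ⟶ T) (p : P.obj.obj (op T)) (q : Q.obj.obj (op T)),
        F.obj.map f.op (b T p q) = b T' (P.obj.map f.op p) (Q.obj.map f.op q)) ∧
      ∀ (T : C) (x : B.E.obj.obj (op T)), b T (B.πP T x) (B.πQ T x) = δ T x := by
  have key : ∀ (T : C) (p : P.obj.obj (op T)) (q : Q.obj.obj (op T)),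
      ∃ g : F.obj.obj (op T), ∀ ⦃T' : C⦄ (h : T' ⟶ T) (x : B.E.obj.obj (op T')), B.πP T' x = P.obj.map h.op p →
        B.πQ T' x = Q.obj.map h.op q → F.obj.map h.op g = δ T' x := by
    intro T p q
    obtain ⟨R, hR, hex⟩ := B.locallySurjective T p q
    obtain ⟨g, hg⟩ := glue F (T := T)
      (fun T' h g => ∃ x : B.E.obj.obj (op T'), B.πP T' x = P.obj.map h.op p ∧ B.πQ T' x = Q.obj.map h.op q ∧
        g = δ T' x)
      (by
        rintro T' T'' f g _ ⟨x, h1, h2, rfl⟩
        exact ⟨B.E.obj.map g.op x, by rw [B.πP_map, h1, ares_res], by rw [B.πQ_map, h2, ares_res], hδ g x⟩)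
      (by
        rintro T' f _ _ ⟨x, h1, h2, rfl⟩ ⟨y, h3, h4, rfl⟩
        exact hinv T' x y (h1.trans h3.symm) (h2.trans h4.symm)) R hR
      (by
        intro T' f hf
        obtain ⟨x, h1, h2⟩ := hex f hf
        exact ⟨_, x, h1, h2, rfl⟩)
    refine ⟨g, fun T' h x hx hx' => ?_⟩
    refine ext_local F (R.pullback h) (J.pullback_stable h hR) _ _ fun T'' k hk => ?_
    obtain ⟨y, h1, h2, h3⟩ := hg (k ≫ h) hk
    have h4 : F.obj.map k.op (F.obj.map h.op g) = F.obj.map (k ≫ h).op g := by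
      rw [op_comp, F.obj.map_comp]; rfl
    rw [h4, h3, hδ]
    exact hinv _ _ _ (by rw [h1, B.πP_map, hx, ares_res]) (by rw [h2, B.πQ_map, hx', ares_res])
  choose b hb using key
  refine ⟨b, ?_, fun T x => ?_⟩
  · intro T T' f p q
    obtain ⟨R, hR, hex⟩ := B.locallySurjective T' (P.obj.map f.op p) (Q.obj.map f.op q)
    refine ext_local F R hR _ _ fun T'' k hk => ?_
    obtain ⟨x, h1, h2⟩ := hex k hk
    have h4 : F.obj.map k.op (F.obj.map f.op (b T p q)) = F.obj.map (k ≫ f).op (b T p q) := by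
      rw [op_comp, F.obj.map_comp]; rfl
    rw [h4, hb T' _ _ k x h1 h2, hb T p q (k ≫ f) x (by rw [h1, ares_res]) (by rw [h2, ares_res])]
  · have h := hb T (B.πP T x) (B.πQ T x) (𝟙 T) x (by rw [ares_id]) (by rw [ares_id])
    rw [← h, op_id, F.obj.map_id]
    rfl

/-- A natural invariant additive map from the sections of `E` to an abelian sheaf comes from a biadditive map. -/
theorem exists_biadd (B : Biext J P Q G) (F : Sheaf J AddCommGrpCat.{u + 1})
    (δ : ∀ T : C, B.E.obj.obj (op T) → F.obj.obj (op T))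
    (hδ : ∀ {T T' : C} (f : T' ⟶ T) (x : B.E.obj.obj (op T)), F.obj.map f.op (δ T x) = δ T' (B.E.obj.map f.op x))
    (hinv : ∀ (T : C) (g : G.obj.obj (op T)) (x : B.E.obj.obj (op T)), δ T (B.act T g x) = δ T x)
    (hadd₁ : ∀ (T : C) (x z : B.E.obj.obj (op T)), B.πQ T x = B.πQ T z → δ T (ad₁ B T x z) = δ T x + δ T z)
    (hadd₂ : ∀ (T : C) (x z : B.E.obj.obj (op T)), B.πP T x = B.πP T z → δ T (ad₂ B T x z) = δ T x + δ T z) :
    ∃ β : Biadd P Q F, ∀ (T : C) (x : B.E.obj.obj (op T)), β.b T (B.πP T x) (B.πQ T x) = δ T x := by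
  obtain ⟨b, hb, hbδ⟩ : ∃ b : ∀ T : C, P.obj.obj (op T) → Q.obj.obj (op T) → F.obj.obj (op T),
      (∀ {T T' : C} (f : T' ⟶ T) (p : P.obj.obj (op T)) (q : Q.obj.obj (op T)),
        F.obj.map f.op (b T p q) = b T' (P.obj.map f.op p) (Q.obj.map f.op q)) ∧
      ∀ (T : C) (x : B.E.obj.obj (op T)), b T (B.πP T x) (B.πQ T x) = δ T x :=
    exists_descend B (Biext.uSh J F) δ hδ (fun T x y h h' => by
      obtain ⟨g, rfl⟩ := exists_act h h'
      exact (hinv T g x).symm)
  refine ⟨⟨b, hb, ?_, ?_⟩, hbδ⟩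
  · intro T p p' q
    obtain ⟨R, hR, hex⟩ := B.locallySurjective T p q
    obtain ⟨R', hR', hex'⟩ := B.locallySurjective T p' q
    refine aext_local F (R ⊓ R') (J.intersection_covering hR hR') _ _ fun T' f hf => ?_
    obtain ⟨x, h1, h2⟩ := hex f hf.1
    obtain ⟨z, h3, h4⟩ := hex' f hf.2
    have hxz := h2.trans h4.symm
    have e1 : F.obj.map f.op (b T p q + b T p' q) = F.obj.map f.op (b T p q) + F.obj.map f.op (b T p' q) := map_add _ _ _
    have e2 : P.obj.map f.op (p + p') = B.πP T' x + B.πP T' z := by rw [h1, h3]; exact map_add _ _ _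
    have e3 : b T' (B.πP T' z) (B.πQ T' x) = b T' (B.πP T' z) (B.πQ T' z) := by rw [hxz]
    rw [e1, hb, hb, hb, e2, ← h1, ← h3, ← h2, e3, hbδ, hbδ, ← hadd₁ T' x z hxz, ← hbδ, πP_ad₁ hxz, πQ_ad₁ hxz]
  · intro T p q q'
    obtain ⟨R, hR, hex⟩ := B.locallySurjective T p q
    obtain ⟨R', hR', hex'⟩ := B.locallySurjective T p q'
    refine aext_local F (R ⊓ R') (J.intersection_covering hR hR') _ _ fun T' f hf => ?_
    obtain ⟨x, h1, h2⟩ := hex f hf.1
    obtain ⟨z, h3, h4⟩ := hex' f hf.2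
    have hxz := h1.trans h3.symm
    have e1 : F.obj.map f.op (b T p q + b T p q') = F.obj.map f.op (b T p q) + F.obj.map f.op (b T p q') := map_add _ _ _
    have e2 : Q.obj.map f.op (q + q') = B.πQ T' x + B.πQ T' z := by rw [h2, h4]; exact map_add _ _ _
    have e3 : b T' (B.πP T' x) (B.πQ T' z) = b T' (B.πP T' z) (B.πQ T' z) := by rw [hxz]
    rw [e1, hb, hb, hb, e2, ← h1, ← h2, ← h4, e3, hbδ, hbδ, ← hadd₂ T' x z hxz, ← hbδ, πP_ad₂ hxz, πQ_ad₂ hxz]

/-- the biadditive map `(p, q) ↦ f(x) - x` attached to an endomorphism of a biextension -/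
theorem exists_biadd_of_hom {B : Biext J P Q G} (f : Biext.Hom J B B) :
    ∃ β : Biadd P Q G, ∀ (T : C) (x : B.E.obj.obj (op T)), f.map T x = B.act T (β.b T (B.πP T x) (B.πQ T x)) x := by
  have hP : ∀ (T : C) (x : B.E.obj.obj (op T)), B.πP T (f.map T x) = B.πP T x := fun T x => f.πP_map T x
  have hQ : ∀ (T : C) (x : B.E.obj.obj (op T)), B.πQ T (f.map T x) = B.πQ T x := fun T x => f.πQ_map T x
  have hact : ∀ (T : C) (g : G.obj.obj (op T)) (x : B.E.obj.obj (op T)), f.map T (B.act T g x) = B.act T g (f.map T x) :=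
    fun T g x => f.map_act T g x
  have hex : ∀ (T : C) (x : B.E.obj.obj (op T)), ∃ g : G.obj.obj (op T), B.act T g x = f.map T x :=
    fun T x => exists_act (hP T x).symm (hQ T x).symm
  choose δ hδ using hex
  obtain ⟨β, hβ⟩ := exists_biadd B G δ
    (by
      intro T T' k x
      refine act_inj (B := B) (x := B.E.obj.map k.op x) ?_
      rw [← B.act_map, hδ, hδ, f.map_res])
    (by
      intro T g x
      refine act_inj (B := B) (x := B.act T g x) ?_
      rw [hδ, hact, ← hδ T x, ← B.add_act, ← B.add_act, add_comm])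
    (by
      intro T x z h
      refine act_inj (B := B) (x := ad₁ B T x z) ?_
      rw [hδ, B.add_act, ← ad₁_act' _ h, hδ, ← ad₁_act _ (by rw [hQ, h]), hδ, ad₁_eq B h, f.map_add₁, ad₁_eq])
    (by
      intro T x z h
      refine act_inj (B := B) (x := ad₂ B T x z) ?_
      rw [hδ, B.add_act, ← ad₂_act' _ h, hδ, ← ad₂_act _ (by rw [hP, h]), hδ, ad₂_eq B h, f.map_add₂, ad₂_eq])
  exact ⟨β, fun T x => by rw [hβ, hδ]⟩

/-- The category of biextensions of `(P, Q)` by `G` is rigid when there is no non-zero morphism `P ⟶ 𝓗om(Q, G)`. -/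
theorem rigid (h : ∀ φ : P ⟶ HomSh.homSh J Q G, φ = 0) (B : Biext J P Q G) (f : Biext.Hom J B B) :
    f = Biext.HomOver.id J B := by
  obtain ⟨β, hβ⟩ := exists_biadd_of_hom f
  refine Biext.HomOver.ext' J fun T x => ?_
  rw [hβ, β.b_eq_zero_of_toHom (h _), B.zero_act]
  rfl

end K454.BX
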