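import Groth.Agent.AbSch.K454.Glue

/-!
# Calculus of sections of a biextension: the swap, total versions of the partial laws, differences, unit sections, opposites
-/

universe u

open CategoryTheory Opposite
open K454.Glue

namespace K454.BX

variable {C : Type (u + 1)} [Category.{u} C] {J : GrothendieckTopology C}
variable {P Q G : Sheaf J AddCommGrpCat.{u + 1}}

/-- Exchange the roles of `P` and `Q`. -/
def swap (B : Biext J P Q G) : Biext J Q P G where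
  E := B.E
  πP := B.πQ
  πQ := B.πP
  πP_map := B.πQ_map
  πQ_map := B.πP_map
  act := B.act
  act_map := B.act_map
  πP_act := B.πQ_act
  πQ_act := B.πP_act
  zero_act := B.zero_act
  add_act := B.add_act
  existsUnique_act T x y h h' := B.existsUnique_act T x y h' h
  locallySurjective T q p := by
    obtain ⟨R, hR, h⟩ := B.locallySurjective T p q
    exact ⟨R, hR, fun T' f hf => by obtain ⟨x, h1, h2⟩ := h f hf; exact ⟨x, h2, h1⟩⟩
  add₁ := B.add₂
  πP_add₁ := B.πQ_add₂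
  πQ_add₁ := B.πP_add₂
  add₁_map := B.add₂_map
  add₁_comm := B.add₂_comm
  add₁_assoc := B.add₂_assoc
  add₁_act := B.add₂_act
  add₂ := B.add₁
  πP_add₂ := B.πQ_add₁
  πQ_add₂ := B.πP_add₁
  add₂_map := B.add₁_map
  add₂_comm := B.add₁_comm
  add₂_assoc := B.add₁_assoc
  add₂_act := B.add₁_act
  compat T x y z t h1 h2 h3 h4 := (B.compat T x z y t h3 h4 h1 h2).symm

variable (B : Biext J P Q G)

theorem res_id {T : C} (x : B.E.obj.obj (op T)) : B.E.obj.map (𝟙 T).op x = x := by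
  rw [op_id, B.E.obj.map_id]; rfl

theorem res_res {T T' T'' : C} (f : T' ⟶ T) (g : T'' ⟶ T') (x : B.E.obj.obj (op T)) :
    B.E.obj.map g.op (B.E.obj.map f.op x) = B.E.obj.map (g ≫ f).op x := by
  rw [op_comp, B.E.obj.map_comp]; rfl

theorem ares_id (F : Sheaf J AddCommGrpCat.{u + 1}) {T : C} (x : F.obj.obj (op T)) : F.obj.map (𝟙 T).op x = x := by
  rw [op_id, F.obj.map_id]; rfl

theorem ares_res (F : Sheaf J AddCommGrpCat.{u + 1}) {T T' T'' : C} (f : T' ⟶ T) (g : T'' ⟶ T')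
    (x : F.obj.obj (op T)) : F.obj.map g.op (F.obj.map f.op x) = F.obj.map (g ≫ f).op x := by
  rw [op_comp, F.obj.map_comp]; rfl

theorem aext_local (F : Sheaf J AddCommGrpCat.{u + 1}) {T : C} (R : Sieve T) (hR : R ∈ J T) (x y : F.obj.obj (op T))
    (h : ∀ ⦃T' : C⦄ (f : T' ⟶ T), R f → F.obj.map f.op x = F.obj.map f.op y) : x = y :=
  ext_local (Biext.uSh J F) R hR x y h

theorem aglue (F : Sheaf J AddCommGrpCat.{u + 1}) {T : C}
    (Pr : ∀ ⦃T' : C⦄ (_ : T' ⟶ T), F.obj.obj (op T') → Prop)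
    (hres : ∀ ⦃T' T'' : C⦄ (f : T' ⟶ T) (g : T'' ⟶ T') (x : F.obj.obj (op T')), Pr f x → Pr (g ≫ f) (F.obj.map g.op x))
    (huniq : ∀ ⦃T' : C⦄ (f : T' ⟶ T) (x y : F.obj.obj (op T')), Pr f x → Pr f y → x = y)
    (R : Sieve T) (hR : R ∈ J T) (hex : ∀ ⦃T' : C⦄ (f : T' ⟶ T), R f → ∃ x, Pr f x) :
    ∃ x : F.obj.obj (op T), ∀ ⦃T' : C⦄ (f : T' ⟶ T), R f → Pr f (F.obj.map f.op x) :=
  glue (Biext.uSh J F) Pr hres huniq R hR hex

theorem aglue' (F : Sheaf J AddCommGrpCat.{u + 1}) {T : C}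
    (Pr : ∀ ⦃T' : C⦄ (_ : T' ⟶ T), F.obj.obj (op T') → Prop)
    (hres : ∀ ⦃T' T'' : C⦄ (f : T' ⟶ T) (g : T'' ⟶ T') (x : F.obj.obj (op T')), Pr f x → Pr (g ≫ f) (F.obj.map g.op x))
    (huniq : ∀ ⦃T' : C⦄ (f : T' ⟶ T) (x y : F.obj.obj (op T')), Pr f x → Pr f y → x = y)
    (hloc : ∀ (x : F.obj.obj (op T)) (R : Sieve T), R ∈ J T →
      (∀ ⦃T' : C⦄ (f : T' ⟶ T), R f → Pr f (F.obj.map f.op x)) → Pr (𝟙 T) x)
    (R : Sieve T) (hR : R ∈ J T) (hex : ∀ ⦃T' : C⦄ (f : T' ⟶ T), R f → ∃ x, Pr f x) :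
    ∃! x : F.obj.obj (op T), Pr (𝟙 T) x :=
  glue' (Biext.uSh J F) Pr hres huniq hloc R hR hex

/-! ### The action -/

section Act

variable {B}
variable {T : C}

theorem act_inj {g g' : G.obj.obj (op T)} {x : B.E.obj.obj (op T)} (h : B.act T g x = B.act T g' x) : g = g' := by
  obtain ⟨k, -, hu⟩ := B.existsUnique_act T x (B.act T g' x) (by rw [B.πP_act]) (by rw [B.πQ_act])
  exact (hu g h).trans (hu g' rfl).symm

theorem act_eq_self {g : G.obj.obj (op T)} {x : B.E.obj.obj (op T)} (h : B.act T g x = x) : g = 0 :=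
  act_inj (h.trans (B.zero_act T x).symm)

theorem act_neg_act (g : G.obj.obj (op T)) (x : B.E.obj.obj (op T)) : B.act T (-g) (B.act T g x) = x := by
  rw [← B.add_act, neg_add_cancel, B.zero_act]

theorem act_act_neg (g : G.obj.obj (op T)) (x : B.E.obj.obj (op T)) : B.act T g (B.act T (-g) x) = x := by
  rw [← B.add_act, add_neg_cancel, B.zero_act]

theorem act_cancel {g : G.obj.obj (op T)} {x y : B.E.obj.obj (op T)} (h : B.act T g x = B.act T g y) : x = y := by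
  rw [← act_neg_act g x, h, act_neg_act]

theorem exists_act {x y : B.E.obj.obj (op T)} (h₁ : B.πP T x = B.πP T y) (h₂ : B.πQ T x = B.πQ T y) :
    ∃ g : G.obj.obj (op T), B.act T g x = y := (B.existsUnique_act T x y h₁ h₂).exists

end Act

/-! ### Total versions of the partial laws -/

open Classical in
/-- The first law, extended by `x` when it is not defined. -/
noncomputable def ad₁ (T : C) (x z : B.E.obj.obj (op T)) : B.E.obj.obj (op T) :=
  if h : B.πQ T x = B.πQ T z then B.add₁ T x z h else x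

open Classical in
/-- The second law, extended by `x` when it is not defined. -/
noncomputable def ad₂ (T : C) (x y : B.E.obj.obj (op T)) : B.E.obj.obj (op T) :=
  if h : B.πP T x = B.πP T y then B.add₂ T x y h else x

theorem ad₁_eq {T : C} {x z : B.E.obj.obj (op T)} (h : B.πQ T x = B.πQ T z) : ad₁ B T x z = B.add₁ T x z h := dif_pos h

theorem ad₂_eq {T : C} {x z : B.E.obj.obj (op T)} (h : B.πP T x = B.πP T z) : ad₂ B T x z = B.add₂ T x z h := dif_pos h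

theorem swap_ad₁ {T : C} {x z : B.E.obj.obj (op T)} : ad₁ (swap B) T x z = ad₂ B T x z := rfl

theorem swap_ad₂ {T : C} {x z : B.E.obj.obj (op T)} : ad₂ (swap B) T x z = ad₁ B T x z := rfl

section Total

variable {B} {T : C} {x y z w t : B.E.obj.obj (op T)}

theorem πP_ad₁ (h : B.πQ T x = B.πQ T z) : B.πP T (ad₁ B T x z) = B.πP T x + B.πP T z := by
  rw [ad₁_eq B h, B.πP_add₁]

theorem πQ_ad₁ (h : B.πQ T x = B.πQ T z) : B.πQ T (ad₁ B T x z) = B.πQ T x := by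
  rw [ad₁_eq B h, B.πQ_add₁]

theorem πP_ad₂ (h : B.πP T x = B.πP T y) : B.πP T (ad₂ B T x y) = B.πP T x := by
  rw [ad₂_eq B h, B.πP_add₂]

theorem πQ_ad₂ (h : B.πP T x = B.πP T y) : B.πQ T (ad₂ B T x y) = B.πQ T x + B.πQ T y := by
  rw [ad₂_eq B h, B.πQ_add₂]

theorem ad₁_map {T' : C} (f : T' ⟶ T) (h : B.πQ T x = B.πQ T z) :
    B.E.obj.map f.op (ad₁ B T x z) = ad₁ B T' (B.E.obj.map f.op x) (B.E.obj.map f.op z) := by
  rw [ad₁_eq B h, ad₁_eq B (by rw [B.πQ_map, B.πQ_map, h]), B.add₁_map]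

theorem ad₂_map {T' : C} (f : T' ⟶ T) (h : B.πP T x = B.πP T y) :
    B.E.obj.map f.op (ad₂ B T x y) = ad₂ B T' (B.E.obj.map f.op x) (B.E.obj.map f.op y) := by
  rw [ad₂_eq B h, ad₂_eq B (by rw [B.πP_map, B.πP_map, h]), B.add₂_map]

theorem ad₁_comm (h : B.πQ T x = B.πQ T z) : ad₁ B T x z = ad₁ B T z x := by
  rw [ad₁_eq B h, ad₁_eq B h.symm, B.add₁_comm]

theorem ad₂_comm (h : B.πP T x = B.πP T y) : ad₂ B T x y = ad₂ B T y x := by
  rw [ad₂_eq B h, ad₂_eq B h.symm, B.add₂_comm]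

theorem ad₁_assoc (h : B.πQ T x = B.πQ T z) (h' : B.πQ T z = B.πQ T w) :
    ad₁ B T (ad₁ B T x z) w = ad₁ B T x (ad₁ B T z w) := by
  have h1 := B.add₁_assoc T x z w h h'
  simp only [ad₁_eq B h, ad₁_eq B h']
  rw [ad₁_eq B, ad₁_eq B]
  exact h1

theorem ad₂_assoc (h : B.πP T x = B.πP T y) (h' : B.πP T y = B.πP T w) :
    ad₂ B T (ad₂ B T x y) w = ad₂ B T x (ad₂ B T y w) := ad₁_assoc (B := swap B) h h'

theorem ad₁_act (g : G.obj.obj (op T)) (h : B.πQ T x = B.πQ T z) :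
    ad₁ B T (B.act T g x) z = B.act T g (ad₁ B T x z) := by
  rw [ad₁_eq B h, ad₁_eq B ((B.πQ_act T g x).trans h), B.add₁_act]

theorem ad₁_act' (g : G.obj.obj (op T)) (h : B.πQ T x = B.πQ T z) :
    ad₁ B T x (B.act T g z) = B.act T g (ad₁ B T x z) := by
  rw [ad₁_comm (by rw [B.πQ_act, h]), ad₁_act g h.symm, ad₁_comm h]

theorem ad₂_act (g : G.obj.obj (op T)) (h : B.πP T x = B.πP T y) :
    ad₂ B T (B.act T g x) y = B.act T g (ad₂ B T x y) := ad₁_act (B := swap B) g h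

theorem ad₂_act' (g : G.obj.obj (op T)) (h : B.πP T x = B.πP T y) :
    ad₂ B T x (B.act T g y) = B.act T g (ad₂ B T x y) := ad₁_act' (B := swap B) g h

theorem compat' (hxy : B.πP T x = B.πP T y) (hzt : B.πP T z = B.πP T t)
    (hxz : B.πQ T x = B.πQ T z) (hyt : B.πQ T y = B.πQ T t) :
    ad₁ B T (ad₂ B T x y) (ad₂ B T z t) = ad₂ B T (ad₁ B T x z) (ad₁ B T y t) := by
  have h := B.compat T x y z t hxy hzt hxz hyt
  rw [ad₁_eq B hxz, ad₁_eq B hyt, ad₂_eq B hxy, ad₂_eq B hzt]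
  exact (ad₁_eq B _).trans (h.trans (ad₂_eq B _).symm)

/-- cancellation for the first law -/
theorem ad₁_cancel (h : B.πQ T x = B.πQ T z) (h' : B.πQ T x = B.πQ T w) (e : ad₁ B T x z = ad₁ B T x w) : z = w := by
  have hP : B.πP T z = B.πP T w := by
    have := congrArg (B.πP T) e
    rw [πP_ad₁ h, πP_ad₁ h'] at this
    exact add_left_cancel this
  obtain ⟨g, rfl⟩ := exists_act hP (h.symm.trans h')
  rw [ad₁_act' g h] at e
  rw [act_eq_self e.symm, B.zero_act]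

theorem ad₁_cancel_right (h : B.πQ T z = B.πQ T x) (h' : B.πQ T w = B.πQ T x) (e : ad₁ B T z x = ad₁ B T w x) :
    z = w := by
  rw [ad₁_comm h, ad₁_comm h'] at e
  exact ad₁_cancel h.symm h'.symm e

theorem ad₂_cancel (h : B.πP T x = B.πP T z) (h' : B.πP T x = B.πP T w) (e : ad₂ B T x z = ad₂ B T x w) : z = w :=
  ad₁_cancel (B := swap B) h h' e

theorem ad₂_cancel_right (h : B.πP T z = B.πP T x) (h' : B.πP T w = B.πP T x) (e : ad₂ B T z x = ad₂ B T w x) :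
    z = w := ad₁_cancel_right (B := swap B) h h' e

end Total

/-! ### Unit sections -/

theorem existsUnique_unit₁ (T : C) (q : Q.obj.obj (op T)) :
    ∃! x : B.E.obj.obj (op T), B.πP T x = 0 ∧ B.πQ T x = q ∧ ad₁ B T x x = x := by
  obtain ⟨R, hR, hex⟩ := B.locallySurjective T 0 q
  have key := glue' B.E (T := T)
    (fun T' f x => B.πP T' x = 0 ∧ B.πQ T' x = Q.obj.map f.op q ∧ ad₁ B T' x x = x)
    (by
      rintro T' T'' f g x ⟨h1, h2, h3⟩
      refine ⟨by rw [B.πP_map, h1]; exact map_zero _, by rw [B.πQ_map, h2, ares_res], ?_⟩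
      rw [← ad₁_map g rfl, h3])
    (by
      rintro T' f x y ⟨h1, h2, h3⟩ ⟨h1', h2', h3'⟩
      obtain ⟨g, rfl⟩ := exists_act (B := B) (h1.trans h1'.symm) (h2.trans h2'.symm)
      rw [ad₁_act g (by rw [B.πQ_act]), ad₁_act' g rfl, h3] at h3'
      rw [act_eq_self (act_cancel h3'), B.zero_act])
    (by
      intro x R hR h
      refine ⟨aext_local P R hR _ _ fun T' f hf => ?_, aext_local Q R hR _ _ fun T' f hf => ?_,
        ext_local B.E R hR _ _ fun T' f hf => ?_⟩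
      · rw [← B.πP_map, (h f hf).1]; exact (map_zero _).symm
      · rw [← B.πQ_map, (h f hf).2.1, ares_res, Category.comp_id]
      · rw [ad₁_map f rfl, (h f hf).2.2])
    R hR
    (by
      intro T' f hf
      obtain ⟨x, h1, h2⟩ := hex f hf
      have h1 : B.πP T' x = 0 := h1.trans (map_zero _)
      obtain ⟨g, hg⟩ := exists_act (B := B) (T := T') (x := x) (y := ad₁ B T' x x)
        (by rw [πP_ad₁ rfl, h1, add_zero]) (by rw [πQ_ad₁ rfl])
      refine ⟨B.act T' (-g) x, by rw [B.πP_act, h1], by rw [B.πQ_act, h2], ?_⟩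
      rw [ad₁_act _ (by rw [B.πQ_act]), ad₁_act' _ rfl, ← hg, act_neg_act])
  simpa only [ares_id] using key

/-- The unit section of the first law above `q`. -/
noncomputable def e₁ (T : C) (q : Q.obj.obj (op T)) : B.E.obj.obj (op T) := (existsUnique_unit₁ B T q).choose

/-- The unit section of the second law above `p`. -/
noncomputable def e₂ (T : C) (p : P.obj.obj (op T)) : B.E.obj.obj (op T) := e₁ (swap B) T p

section Unit

variable {B} {T : C}

theorem πP_e₁ (q : Q.obj.obj (op T)) : B.πP T (e₁ B T q) = 0 := (existsUnique_unit₁ B T q).choose_spec.1.1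
theorem πQ_e₁ (q : Q.obj.obj (op T)) : B.πQ T (e₁ B T q) = q := (existsUnique_unit₁ B T q).choose_spec.1.2.1
theorem ad₁_e₁_self (q : Q.obj.obj (op T)) : ad₁ B T (e₁ B T q) (e₁ B T q) = e₁ B T q :=
  (existsUnique_unit₁ B T q).choose_spec.1.2.2
theorem eq_e₁ {x : B.E.obj.obj (op T)} {q : Q.obj.obj (op T)} (h1 : B.πP T x = 0) (h2 : B.πQ T x = q)
    (h3 : ad₁ B T x x = x) : x = e₁ B T q := (existsUnique_unit₁ B T q).unique ⟨h1, h2, h3⟩ ⟨πP_e₁ q, πQ_e₁ q, ad₁_e₁_self q⟩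

theorem e₁_map {T' : C} (f : T' ⟶ T) (q : Q.obj.obj (op T)) :
    B.E.obj.map f.op (e₁ B T q) = e₁ B T' (Q.obj.map f.op q) :=
  eq_e₁ (by rw [B.πP_map, πP_e₁]; exact map_zero _) (by rw [B.πQ_map, πQ_e₁]) (by rw [← ad₁_map f rfl, ad₁_e₁_self])

theorem ad₁_e₁_left {x : B.E.obj.obj (op T)} {q : Q.obj.obj (op T)} (h : B.πQ T x = q) :
    ad₁ B T (e₁ B T q) x = x := by
  have hq : B.πQ T (e₁ B T q) = B.πQ T x := (πQ_e₁ q).trans h.symm
  refine ad₁_cancel (x := e₁ B T q) (by rw [πQ_ad₁ hq]) hq ?_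
  rw [← ad₁_assoc rfl hq, ad₁_e₁_self]

theorem ad₁_e₁_right {x : B.E.obj.obj (op T)} {q : Q.obj.obj (op T)} (h : B.πQ T x = q) :
    ad₁ B T x (e₁ B T q) = x := by
  rw [ad₁_comm (h.trans (πQ_e₁ q).symm), ad₁_e₁_left h]

theorem πP_e₂ (p : P.obj.obj (op T)) : B.πP T (e₂ B T p) = p := πQ_e₁ (B := swap B) p
theorem πQ_e₂ (p : P.obj.obj (op T)) : B.πQ T (e₂ B T p) = 0 := πP_e₁ (B := swap B) p
theorem ad₂_e₂_self (p : P.obj.obj (op T)) : ad₂ B T (e₂ B T p) (e₂ B T p) = e₂ B T p := ad₁_e₁_self (B := swap B) p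
theorem eq_e₂ {x : B.E.obj.obj (op T)} {p : P.obj.obj (op T)} (h1 : B.πQ T x = 0) (h2 : B.πP T x = p)
    (h3 : ad₂ B T x x = x) : x = e₂ B T p := eq_e₁ (B := swap B) h1 h2 h3
theorem e₂_map {T' : C} (f : T' ⟶ T) (p : P.obj.obj (op T)) :
    B.E.obj.map f.op (e₂ B T p) = e₂ B T' (P.obj.map f.op p) := e₁_map (B := swap B) f p
theorem ad₂_e₂_left {x : B.E.obj.obj (op T)} {p : P.obj.obj (op T)} (h : B.πP T x = p) :
    ad₂ B T (e₂ B T p) x = x := ad₁_e₁_left (B := swap B) h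
theorem ad₂_e₂_right {x : B.E.obj.obj (op T)} {p : P.obj.obj (op T)} (h : B.πP T x = p) :
    ad₂ B T x (e₂ B T p) = x := ad₁_e₁_right (B := swap B) h

/-- the unit section of the first law is additive for the second law -/
theorem e₁_add (q q' : Q.obj.obj (op T)) : e₁ B T (q + q') = ad₂ B T (e₁ B T q) (e₁ B T q') := by
  have hp : B.πP T (e₁ B T q) = B.πP T (e₁ B T q') := by rw [πP_e₁, πP_e₁]
  refine (eq_e₁ (by rw [πP_ad₂ hp, πP_e₁]) (by rw [πQ_ad₂ hp, πQ_e₁, πQ_e₁]) ?_).symm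
  rw [compat' hp hp rfl rfl, ad₁_e₁_self, ad₁_e₁_self]

theorem e₂_add (p p' : P.obj.obj (op T)) : e₂ B T (p + p') = ad₁ B T (e₂ B T p) (e₂ B T p') :=
  e₁_add (B := swap B) p p'

theorem e₁_zero : e₁ B T (0 : Q.obj.obj (op T)) = e₂ B T 0 := by
  refine eq_e₂ (πQ_e₁ 0) (πP_e₁ 0) ?_
  rw [← e₁_add, add_zero]

/-- idempotent for the first law implies unit section -/
theorem eq_e₁' {x : B.E.obj.obj (op T)} (h3 : ad₁ B T x x = x) : x = e₁ B T (B.πQ T x) := by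
  refine eq_e₁ ?_ rfl h3
  have := congrArg (B.πP T) h3
  rw [πP_ad₁ rfl] at this
  exact left_eq_add.1 this.symm

end Unit

/-! ### Opposites -/

theorem existsUnique_neg₁ (T : C) (x : B.E.obj.obj (op T)) :
    ∃! z : B.E.obj.obj (op T), B.πQ T z = B.πQ T x ∧ ad₁ B T x z = e₁ B T (B.πQ T x) := by
  obtain ⟨R, hR, hex⟩ := B.locallySurjective T (- B.πP T x) (B.πQ T x)
  have key := glue' B.E (T := T)
    (fun T' f z => B.πQ T' z = Q.obj.map f.op (B.πQ T x) ∧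
      ad₁ B T' (B.E.obj.map f.op x) z = e₁ B T' (Q.obj.map f.op (B.πQ T x)))
    (by
      rintro T' T'' f g z ⟨h1, h2⟩
      refine ⟨by rw [B.πQ_map, h1, ares_res], ?_⟩
      rw [← res_res, ← ad₁_map g (by rw [h1, B.πQ_map]), h2, e₁_map, ares_res])
    (by
      rintro T' f z w ⟨h1, h2⟩ ⟨h1', h2'⟩
      exact ad₁_cancel (by rw [h1, B.πQ_map]) (by rw [h1', B.πQ_map]) (h2.trans h2'.symm))
    (by
      intro z R hR h
      have hq : B.πQ T z = Q.obj.map (𝟙 T).op (B.πQ T x) := by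
        refine aext_local Q R hR _ _ fun T' f hf => ?_
        rw [← B.πQ_map, (h f hf).1, ares_res, Category.comp_id]
      refine ⟨hq, ext_local B.E R hR _ _ fun T' f hf => ?_⟩
      rw [res_id, ares_id] at *
      rw [ad₁_map f hq.symm, (h f hf).2, e₁_map])
    R hR
    (by
      intro T' f hf
      obtain ⟨z, h1, h2⟩ := hex f hf
      have hQ : B.πQ T' (B.E.obj.map f.op x) = B.πQ T' z := by rw [h2, B.πQ_map]
      obtain ⟨g, hg⟩ := exists_act (B := B) (T := T') (x := ad₁ B T' (B.E.obj.map f.op x) z)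
        (y := e₁ B T' (Q.obj.map f.op (B.πQ T x)))
        (by rw [πP_ad₁ hQ, h1, B.πP_map, πP_e₁]; exact (congrArg _ (map_neg _ _)).trans (add_neg_cancel _))
        (by rw [πQ_ad₁ hQ, B.πQ_map, πQ_e₁])
      refine ⟨B.act T' g z, by rw [B.πQ_act, h2], ?_⟩
      rw [ad₁_act' g hQ, hg])
  simpa only [ares_id, res_id] using key

/-- The opposite of a section for the first law. -/
noncomputable def neg₁ (T : C) (x : B.E.obj.obj (op T)) : B.E.obj.obj (op T) := (existsUnique_neg₁ B T x).choose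

/-- The opposite of a section for the second law. -/
noncomputable def neg₂ (T : C) (x : B.E.obj.obj (op T)) : B.E.obj.obj (op T) := neg₁ (swap B) T x

section Neg

variable {B} {T : C}

theorem πQ_neg₁ (x : B.E.obj.obj (op T)) : B.πQ T (neg₁ B T x) = B.πQ T x := (existsUnique_neg₁ B T x).choose_spec.1.1
theorem ad₁_neg₁ (x : B.E.obj.obj (op T)) : ad₁ B T x (neg₁ B T x) = e₁ B T (B.πQ T x) :=
  (existsUnique_neg₁ B T x).choose_spec.1.2
theorem eq_neg₁ {x z : B.E.obj.obj (op T)} (h1 : B.πQ T z = B.πQ T x) (h2 : ad₁ B T x z = e₁ B T (B.πQ T x)) :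
    z = neg₁ B T x := (existsUnique_neg₁ B T x).unique ⟨h1, h2⟩ ⟨πQ_neg₁ x, ad₁_neg₁ x⟩
theorem ad₁_neg₁' (x : B.E.obj.obj (op T)) : ad₁ B T (neg₁ B T x) x = e₁ B T (B.πQ T x) := by
  rw [ad₁_comm (πQ_neg₁ x), ad₁_neg₁]
theorem πP_neg₁ (x : B.E.obj.obj (op T)) : B.πP T (neg₁ B T x) = - B.πP T x := by
  have := congrArg (B.πP T) (ad₁_neg₁ x)
  rw [πP_ad₁ (πQ_neg₁ x).symm, πP_e₁] at this
  exact (neg_eq_of_add_eq_zero_right this).symm
theorem neg₁_map {T' : C} (f : T' ⟶ T) (x : B.E.obj.obj (op T)) :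
    B.E.obj.map f.op (neg₁ B T x) = neg₁ B T' (B.E.obj.map f.op x) :=
  eq_neg₁ (by rw [B.πQ_map, πQ_neg₁, B.πQ_map]) (by rw [← ad₁_map f (πQ_neg₁ x).symm, ad₁_neg₁, e₁_map, B.πQ_map])
theorem neg₁_act (g : G.obj.obj (op T)) (x : B.E.obj.obj (op T)) :
    neg₁ B T (B.act T g x) = B.act T (-g) (neg₁ B T x) := by
  refine (eq_neg₁ (by rw [B.πQ_act, B.πQ_act, πQ_neg₁]) ?_).symm
  rw [ad₁_act _ (by rw [B.πQ_act, πQ_neg₁]), ad₁_act' _ (πQ_neg₁ x).symm, act_act_neg, ad₁_neg₁, B.πQ_act]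

theorem πP_neg₂ (x : B.E.obj.obj (op T)) : B.πP T (neg₂ B T x) = B.πP T x := πQ_neg₁ (B := swap B) x
theorem ad₂_neg₂ (x : B.E.obj.obj (op T)) : ad₂ B T x (neg₂ B T x) = e₂ B T (B.πP T x) := ad₁_neg₁ (B := swap B) x
theorem eq_neg₂ {x z : B.E.obj.obj (op T)} (h1 : B.πP T z = B.πP T x) (h2 : ad₂ B T x z = e₂ B T (B.πP T x)) :
    z = neg₂ B T x := eq_neg₁ (B := swap B) h1 h2
theorem ad₂_neg₂' (x : B.E.obj.obj (op T)) : ad₂ B T (neg₂ B T x) x = e₂ B T (B.πP T x) := ad₁_neg₁' (B := swap B) x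
theorem πQ_neg₂ (x : B.E.obj.obj (op T)) : B.πQ T (neg₂ B T x) = - B.πQ T x := πP_neg₁ (B := swap B) x
theorem neg₂_map {T' : C} (f : T' ⟶ T) (x : B.E.obj.obj (op T)) :
    B.E.obj.map f.op (neg₂ B T x) = neg₂ B T' (B.E.obj.map f.op x) := neg₁_map (B := swap B) f x
theorem neg₂_act (g : G.obj.obj (op T)) (x : B.E.obj.obj (op T)) :
    neg₂ B T (B.act T g x) = B.act T (-g) (neg₂ B T x) := neg₁_act (B := swap B) g x

/-- the opposite for the first law is additive for the second law -/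
theorem neg₁_ad₂ {x y : B.E.obj.obj (op T)} (h : B.πP T x = B.πP T y) :
    neg₁ B T (ad₂ B T x y) = ad₂ B T (neg₁ B T x) (neg₁ B T y) := by
  have h' : B.πP T (neg₁ B T x) = B.πP T (neg₁ B T y) := by rw [πP_neg₁, πP_neg₁, h]
  refine (eq_neg₁ (by rw [πQ_ad₂ h', πQ_ad₂ h, πQ_neg₁, πQ_neg₁]) ?_).symm
  rw [compat' h h' (πQ_neg₁ x).symm (πQ_neg₁ y).symm, ad₁_neg₁, ad₁_neg₁, ← e₁_add, πQ_ad₂ h]

theorem neg₂_ad₁ {x z : B.E.obj.obj (op T)} (h : B.πQ T x = B.πQ T z) :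
    neg₂ B T (ad₁ B T x z) = ad₁ B T (neg₂ B T x) (neg₂ B T z) := neg₁_ad₂ (B := swap B) h

end Neg

end K454.BX
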