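import Groth.Agent.AbSch.K454.QuotB

/-!
# Push-out of a biextension along an epimorphism `G ⟶ G''`, and descent of a biextension along `P ⟶ P''`
given a splitting of its restriction to the kernel
-/

universe u

open CategoryTheory Opposite
open K454.Glue

namespace K454.BX

variable {C : Type (u + 1)} [Category.{u} C] {J : GrothendieckTopology C}
variable {P Q G P' Q' P'' Q'' G'' : Sheaf J AddCommGrpCat.{u + 1}}

theorem PSplit.τ_zero {α : P' ⟶ P} {β : Q' ⟶ Q} {B : Biext J P Q G} (s : PSplit α β B) (T : C)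
    (q : Q'.obj.obj (op T)) : s.τ T 0 q = e₁ B T (β.hom.app (op T) q) := by
  have h : α.hom.app (op T) (0 : P'.obj.obj (op T)) = 0 := map_zero _
  rw [← s.act_dif T 0 q h, s.dif_zero₁, B.zero_act]

/-- rearrangement in the first law -/
theorem ad₁_ad₁_ad₁_comm {B : Biext J P Q G} {T : C} {x y z w : B.E.obj.obj (op T)} (hxy : B.πQ T x = B.πQ T y)
    (hyz : B.πQ T y = B.πQ T z) (hzw : B.πQ T z = B.πQ T w) :
    ad₁ B T (ad₁ B T x y) (ad₁ B T z w) = ad₁ B T (ad₁ B T x z) (ad₁ B T y w) := by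
  have hxz := hxy.trans hyz
  have hyw := hyz.trans hzw
  rw [ad₁_assoc hxy (hyz.trans (πQ_ad₁ hzw).symm), ← ad₁_assoc hyz hzw, ad₁_comm hyz,
    ad₁_assoc hyz.symm hyw, ← ad₁_assoc hxz (hyz.symm.trans (πQ_ad₁ hyw).symm)]

/-! ### Push-out along a locally surjective `γ : G ⟶ G''` -/

/-- the relation "differ by an element of the kernel of `γ`" -/
noncomputable def pushRel (B : Biext J P Q G) (γ : G ⟶ G'') : NRel B.E where
  r T x y := ∃ g : G.obj.obj (op T), γ.hom.app (op T) g = 0 ∧ B.act T g x = y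
  eqv T := by
    refine ⟨fun x => ⟨0, map_zero _, B.zero_act T x⟩, ?_, ?_⟩
    · rintro x y ⟨g, hg, rfl⟩
      exact ⟨-g, (map_neg _ _).trans (by rw [hg, neg_zero]), act_neg_act g x⟩
    · rintro x y z ⟨g, hg, rfl⟩ ⟨g', hg', rfl⟩
      exact ⟨g' + g, (map_add _ _ _).trans (by rw [hg, hg', add_zero]), B.add_act T g' g x⟩
  res {T T'} f x y := by
    rintro ⟨g, hg, rfl⟩
    exact ⟨G.obj.map f.op g, by rw [← nat_apply, hg]; exact map_zero _, (B.act_map f g x).symm⟩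

/-- quotient data for the push-out along `γ` -/
noncomputable def pushBQ (B : Biext J P Q G) (γ : G ⟶ G'') (hγ : LocSurj γ) : BQ B (𝟙 P) γ where
  hα T p := ⟨⊤, J.top_mem T, fun T' f _ => ⟨P.obj.map f.op p, rfl⟩⟩
  hγ := hγ
  R := pushRel B γ
  rP := by
    rintro T x y ⟨g, hg, rfl⟩
    rw [B.πP_act]
  rQ := by
    rintro T x y ⟨g, hg, rfl⟩
    rw [B.πQ_act]
  rAct := by
    rintro T k x y ⟨g, hg, rfl⟩
    exact ⟨g, hg, by rw [← B.add_act, ← B.add_act, add_comm]⟩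
  rKer := by
    intro T g x hg
    exact ⟨-g, (map_neg _ _).trans (by rw [hg, neg_zero]), act_neg_act g x⟩
  rFree := by
    rintro T g x ⟨k, hk, h⟩
    rw [← B.add_act] at h
    have h1 := act_eq_self h
    rw [eq_neg_of_add_eq_zero_right h1]
    exact (map_neg _ _).trans (by rw [hk, neg_zero])
  rTrans := by
    intro T x y hP hQ
    have hP' : B.πP T x = B.πP T y := hP
    obtain ⟨g, rfl⟩ := exists_act hP' hQ
    refine ⟨⊤, J.top_mem T, fun T' f _ => ⟨G.obj.map f.op g, 0, map_zero _, ?_⟩⟩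
    rw [B.zero_act, B.act_map]
  rAd₁ := by
    rintro T x _ z _ ⟨g, hg, rfl⟩ ⟨k, hk, rfl⟩ h
    refine ⟨g + k, (map_add _ _ _).trans (by rw [hg, hk, add_zero]), ?_⟩
    rw [ad₁_act _ (by rw [B.πQ_act, h]), ad₁_act' _ h, B.add_act]
  rMove := by
    intro T x y hP
    have hP' : B.πP T x = B.πP T y := hP
    refine ⟨⊤, J.top_mem T, fun T' f _ => ⟨B.E.obj.map f.op y, ((pushRel B γ).eqv T').refl _, ?_⟩⟩
    rw [B.πP_map, B.πP_map, hP']
  rAd₂ := by
    rintro T x _ z _ ⟨g, hg, rfl⟩ ⟨k, hk, rfl⟩ h _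
    refine ⟨g + k, (map_add _ _ _).trans (by rw [hg, hk, add_zero]), ?_⟩
    rw [ad₂_act _ (by rw [B.πP_act, h]), ad₂_act' _ h, B.add_act]

/-- **Push-out of a biextension** along a locally surjective morphism `γ : G ⟶ G''`. -/
theorem exists_push (B : Biext J P Q G) (γ : G ⟶ G'') (hγ : LocSurj γ) :
    ∃ B'' : Biext J P Q G'', Nonempty (Biext.HomOver J (𝟙 P) (𝟙 Q) γ B B'') :=
  ⟨(pushBQ B γ hγ).quot, ⟨(pushBQ B γ hγ).toQuot⟩⟩

/-! ### Descent along `π : P ⟶ P''` -/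

section Desc

variable {ι : P' ⟶ P} {π : P ⟶ P''} (B : Biext J P Q G) (s : PSplit ι (𝟙 Q) B)

/-- the relation "differ by an element of the partial splitting over the kernel" -/
noncomputable def descRel : NRel B.E where
  r T x y := ∃ p : P'.obj.obj (op T), ad₁ B T (s.τ T p (B.πQ T x)) x = y
  eqv T := by
    have hq : ∀ (p : P'.obj.obj (op T)) (q : Q.obj.obj (op T)), B.πQ T (s.τ T p q) = q := fun p q => s.πQ_τ T p q
    refine ⟨fun x => ⟨0, ?_⟩, ?_, ?_⟩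
    · rw [s.τ_zero]
      exact ad₁_e₁_left rfl
    · rintro x y ⟨p, rfl⟩
      refine ⟨-p, ?_⟩
      rw [πQ_ad₁ (hq _ _), hq, ← ad₁_assoc (by rw [hq, hq]) (hq _ _), ← s.τ_ad₁, neg_add_cancel, s.τ_zero]
      exact ad₁_e₁_left rfl
    · rintro x y z ⟨p, rfl⟩ ⟨p', rfl⟩
      refine ⟨p' + p, ?_⟩
      rw [πQ_ad₁ (hq _ _), hq, ← ad₁_assoc (by rw [hq, hq]) (hq _ _), ← s.τ_ad₁]
  res {T T'} f x y := by
    rintro ⟨p, rfl⟩
    refine ⟨P'.obj.map f.op p, ?_⟩
    rw [ad₁_map f (s.πQ_τ T _ _), s.τ_map, B.πQ_map]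

/-- quotient data for the descent along `π` -/
noncomputable def descBQ (hπ : LocSurj π) (hι : ∀ T : C, Function.Injective (ι.hom.app (op T)))
    (h0 : ∀ (T : C) (p : P'.obj.obj (op T)), π.hom.app (op T) (ι.hom.app (op T) p) = 0)
    (hex : ∀ (T : C) (p : P.obj.obj (op T)), π.hom.app (op T) p = 0 → ∃ p' : P'.obj.obj (op T), ι.hom.app (op T) p' = p) :
    BQ B π (𝟙 G) := by
  have hq : ∀ {T : C} (p : P'.obj.obj (op T)) (q : Q.obj.obj (op T)), B.πQ T (s.τ T p q) = q := fun p q => s.πQ_τ _ p q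
  have hker : ∀ {T : C} (x y : P.obj.obj (op T)), π.hom.app (op T) x = π.hom.app (op T) y →
      ∃ p' : P'.obj.obj (op T), ι.hom.app (op T) p' + x = y := by
    intro T x y h
    obtain ⟨p', hp'⟩ := hex T (y - x) ((map_sub _ _ _).trans (sub_eq_zero.2 h.symm))
    exact ⟨p', by rw [hp', sub_add_cancel]⟩
  exact
  { hα := hπ
    hγ := fun T g => ⟨⊤, J.top_mem T, fun T' f _ => ⟨G.obj.map f.op g, rfl⟩⟩
    R := descRel B s
    rP := by
      rintro T x y ⟨p, rfl⟩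
      rw [πP_ad₁ (hq _ _), s.πP_τ]
      exact ((map_add (π.hom.app (op T)).hom _ _).trans (by rw [h0, zero_add])).symm
    rQ := by
      rintro T x y ⟨p, rfl⟩
      rw [πQ_ad₁ (hq _ _), hq]
    rAct := by
      rintro T k x y ⟨p, rfl⟩
      refine ⟨p, ?_⟩
      rw [B.πQ_act, ad₁_act' _ (hq _ _)]
    rKer := by
      intro T g x hg
      have hg' : g = 0 := hg
      rw [hg', B.zero_act]
      exact ((descRel B s).eqv T).refl _
    rFree := by
      rintro T g x ⟨p, hp⟩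
      have h1 := congrArg (B.πP T) hp
      rw [πP_ad₁ (hq _ _), s.πP_τ, B.πP_act] at h1
      have h2 : p = 0 := hι T ((add_eq_right.1 h1).trans (map_zero _).symm)
      rw [h2, s.τ_zero] at hp
      exact act_eq_self (B := B) ((ad₁_e₁_left (x := B.act T g x) rfl).symm.trans hp)
    rTrans := by
      intro T x y hP hQ
      obtain ⟨p', hp'⟩ := hker _ _ hP
      obtain ⟨g, hg⟩ := exists_act (B := B) (T := T) (x := ad₁ B T (s.τ T p' (B.πQ T x)) x) (y := y)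
        (by rw [πP_ad₁ (hq _ _), s.πP_τ, hp']) (by rw [πQ_ad₁ (hq _ _), hq, hQ])
      refine ⟨⊤, J.top_mem T, fun T' f _ => ⟨G.obj.map f.op g, ?_⟩⟩
      rw [← B.act_map]
      refine (descRel B s).res f _ _ ⟨p', ?_⟩
      rw [B.πQ_act, ad₁_act' _ (hq _ _), hg]
    rAd₁ := by
      rintro T x _ z _ ⟨p, rfl⟩ ⟨p', rfl⟩ h
      refine ⟨p + p', ?_⟩
      rw [πQ_ad₁ h, s.τ_ad₁, ← h]
      exact ad₁_ad₁_ad₁_comm (by rw [hq, hq]) (hq _ _) h
    rMove := by
      intro T x y hP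
      obtain ⟨p', hp'⟩ := hker _ _ hP.symm
      refine ⟨⊤, J.top_mem T, fun T' f _ => ⟨B.E.obj.map f.op (ad₁ B T (s.τ T p' (B.πQ T y)) y),
        (descRel B s).res f _ _ ⟨p', rfl⟩, ?_⟩⟩
      rw [B.πP_map, B.πP_map, πP_ad₁ (hq _ _), s.πP_τ, hp']
    rAd₂ := by
      rintro T x _ y _ ⟨p, rfl⟩ ⟨p', rfl⟩ h h'
      rw [πP_ad₁ (hq _ _), πP_ad₁ (hq _ _), s.πP_τ, s.πP_τ, h] at h'
      have hp : p = p' := hι T (add_right_cancel h')
      subst hp
      refine ⟨p, ?_⟩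
      have h3 : B.πP T (s.τ T p (B.πQ T x)) = B.πP T (s.τ T p (B.πQ T y)) := by rw [s.πP_τ, s.πP_τ]
      rw [πQ_ad₂ h, s.τ_ad₂, compat' h3 h (hq _ _) (hq _ _)] }

include s in
/-- **Descent of a biextension** along `π : P ⟶ P''` (locally surjective with kernel `ι : P' ⟶ P`), given a
splitting of its restriction to `(P', Q)`. -/
theorem exists_desc₁ (hπ : LocSurj π) (hι : ∀ T : C, Function.Injective (ι.hom.app (op T)))
    (h0 : ∀ (T : C) (p : P'.obj.obj (op T)), π.hom.app (op T) (ι.hom.app (op T) p) = 0)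
    (hex : ∀ (T : C) (p : P.obj.obj (op T)), π.hom.app (op T) p = 0 → ∃ p' : P'.obj.obj (op T), ι.hom.app (op T) p' = p) :
    ∃ B'' : Biext J P'' Q G, Nonempty (Biext.HomOver J π (𝟙 Q) (𝟙 G) B B'') :=
  ⟨(descBQ B s hπ hι h0 hex).quot, ⟨(descBQ B s hπ hι h0 hex).toQuot⟩⟩

end Desc

/-- exchange of the variables in a morphism of biextensions -/
def swapHom {P₁ Q₁ G₁ : Sheaf J AddCommGrpCat.{u + 1}} {α : P ⟶ P₁} {β : Q ⟶ Q₁} {γ : G ⟶ G₁} {B : Biext J P Q G}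
    {B₁ : Biext J P₁ Q₁ G₁} (φ : Biext.HomOver J α β γ B B₁) : Biext.HomOver J β α γ (swap B) (swap B₁) where
  map := φ.map
  map_res := φ.map_res
  πP_map := φ.πQ_map
  πQ_map := φ.πP_map
  map_act := φ.map_act
  map_add₁ := φ.map_add₂
  map_add₂ := φ.map_add₁

/-- descent in the second variable -/
theorem exists_desc₂ {ι : Q' ⟶ Q} {π : Q ⟶ Q''} (B : Biext J P Q G) (s : PSplit (𝟙 P) ι B)
    (hπ : LocSurj π) (hι : ∀ T : C, Function.Injective (ι.hom.app (op T)))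
    (h0 : ∀ (T : C) (p : Q'.obj.obj (op T)), π.hom.app (op T) (ι.hom.app (op T) p) = 0)
    (hex : ∀ (T : C) (p : Q.obj.obj (op T)), π.hom.app (op T) p = 0 → ∃ p' : Q'.obj.obj (op T), ι.hom.app (op T) p' = p) :
    ∃ B'' : Biext J P Q'' G, Nonempty (Biext.HomOver J (𝟙 P) π (𝟙 G) B B'') := by
  obtain ⟨B₁, ⟨φ⟩⟩ := exists_desc₁ (swap B) s.swap hπ hι h0 hex
  exact ⟨swap B₁, ⟨swapHom φ⟩⟩

end K454.BX
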