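import Groth.Agent.AbSch.K454.Biadd
import Groth.Agent.AbSch.K454.Descent

/-!
# The abelian sheaf `F(B)` of pairs (section `p` of `P`, splitting of the extension `B_p` of `Q` by `G`)
-/

universe u

open CategoryTheory Opposite
open K454.Glue

namespace K454.BX

variable {C : Type (u + 1)} [Category.{u} C] {J : GrothendieckTopology C}
variable {P Q G : Sheaf J AddCommGrpCat.{u + 1}} (B : Biext J P Q G)

/-- A section of `F(B)` over `T`: a section `p` of `P` over `T` and a splitting of `B_p` over `T`. -/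
@[ext]
structure FSec (T : C) where
  p : P.obj.obj (op T)
  s : ∀ (V : C) (_ : V ⟶ T), Q.obj.obj (op V) → B.E.obj.obj (op V)
  πP_s : ∀ (V : C) (f : V ⟶ T) (q : Q.obj.obj (op V)), B.πP V (s V f q) = P.obj.map f.op p
  πQ_s : ∀ (V : C) (f : V ⟶ T) (q : Q.obj.obj (op V)), B.πQ V (s V f q) = q
  s_map : ∀ (V V' : C) (g : V' ⟶ V) (f : V ⟶ T) (q : Q.obj.obj (op V)),
    B.E.obj.map g.op (s V f q) = s V' (g ≫ f) (Q.obj.map g.op q)
  s_add : ∀ (V : C) (f : V ⟶ T) (q q' : Q.obj.obj (op V)), s V f (q + q') = ad₂ B V (s V f q) (s V f q')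

namespace FSec

variable {B} {T : C}

theorem hP (x : FSec B T) (V : C) (f : V ⟶ T) (q q' : Q.obj.obj (op V)) : B.πP V (x.s V f q) = B.πP V (x.s V f q') := by
  rw [x.πP_s, x.πP_s]

theorem hQ (x y : FSec B T) (V : C) (f f' : V ⟶ T) (q : Q.obj.obj (op V)) :
    B.πQ V (x.s V f q) = B.πQ V (y.s V f' q) := by
  rw [x.πQ_s, y.πQ_s]

noncomputable instance : Zero (FSec B T) := ⟨
  { p := 0
    s := fun V _ q => e₁ B V q
    πP_s := fun V f q => (πP_e₁ q).trans (map_zero (P.obj.map f.op).hom).symm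
    πQ_s := fun V _ q => πQ_e₁ q
    s_map := fun V V' g _ q => e₁_map g q
    s_add := fun V _ q q' => e₁_add q q' }⟩

noncomputable instance : Add (FSec B T) := ⟨fun x y =>
  { p := x.p + y.p
    s := fun V f q => ad₁ B V (x.s V f q) (y.s V f q)
    πP_s := fun V f q => by
      rw [πP_ad₁ (hQ x y V f f q), x.πP_s, y.πP_s]
      exact (map_add (P.obj.map f.op).hom _ _).symm
    πQ_s := fun V f q => by rw [πQ_ad₁ (hQ x y V f f q), x.πQ_s]
    s_map := fun V V' g f q => by rw [ad₁_map g (hQ x y V f f q), x.s_map, y.s_map]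
    s_add := fun V f q q' => by
      rw [x.s_add, y.s_add]
      exact compat' (hP x V f q q') (hP y V f q q') (hQ x y V f f q) (hQ x y V f f q') }⟩

noncomputable instance : Neg (FSec B T) := ⟨fun x =>
  { p := - x.p
    s := fun V f q => neg₁ B V (x.s V f q)
    πP_s := fun V f q => by
      rw [πP_neg₁, x.πP_s]
      exact (map_neg (P.obj.map f.op).hom _).symm
    πQ_s := fun V f q => by rw [πQ_neg₁, x.πQ_s]
    s_map := fun V V' g f q => by rw [neg₁_map, x.s_map]
    s_add := fun V f q q' => by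
      rw [x.s_add]
      exact neg₁_ad₂ (hP x V f q q') }⟩

theorem add_p (x y : FSec B T) : (x + y).p = x.p + y.p := rfl
theorem add_s (x y : FSec B T) (V : C) (f : V ⟶ T) (q : Q.obj.obj (op V)) :
    (x + y).s V f q = ad₁ B V (x.s V f q) (y.s V f q) := rfl
theorem zero_p : (0 : FSec B T).p = 0 := rfl
theorem zero_s (V : C) (f : V ⟶ T) (q : Q.obj.obj (op V)) : (0 : FSec B T).s V f q = e₁ B V q := rfl
theorem neg_p (x : FSec B T) : (-x).p = -x.p := rfl
theorem neg_s (x : FSec B T) (V : C) (f : V ⟶ T) (q : Q.obj.obj (op V)) : (-x).s V f q = neg₁ B V (x.s V f q) := rfl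

theorem ext' {x y : FSec B T} (hp : x.p = y.p) (hs : ∀ (V : C) (f : V ⟶ T) (q : Q.obj.obj (op V)), x.s V f q = y.s V f q) :
    x = y := FSec.ext hp (funext fun V => funext fun f => funext fun q => hs V f q)

noncomputable instance : AddCommGroup (FSec B T) where
  add_assoc x y z := ext' (add_assoc _ _ _) fun V f q => ad₁_assoc (hQ x y V f f q) (hQ y z V f f q)
  zero_add x := ext' (zero_add _) fun V f q => ad₁_e₁_left (x.πQ_s V f q)
  add_zero x := ext' (add_zero _) fun V f q => ad₁_e₁_right (x.πQ_s V f q)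
  nsmul := nsmulRec
  zsmul := zsmulRec
  neg_add_cancel x := ext' (neg_add_cancel _) fun V f q => (ad₁_neg₁' _).trans (by rw [x.πQ_s]; rfl)
  add_comm x y := ext' (add_comm _ _) fun V f q => ad₁_comm (hQ x y V f f q)

/-- restriction -/
def res {T' : C} (g : T' ⟶ T) (x : FSec B T) : FSec B T' where
  p := P.obj.map g.op x.p
  s V f q := x.s V (f ≫ g) q
  πP_s V f q := by rw [x.πP_s, ares_res]
  πQ_s V f q := x.πQ_s V _ q
  s_map V V' h f q := by rw [x.s_map, Category.assoc]
  s_add V f q q' := x.s_add V _ q q'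

end FSec

/-- the presheaf `F(B)` -/
noncomputable def FPre : Cᵒᵖ ⥤ AddCommGrpCat.{u + 1} where
  obj T := AddCommGrpCat.of (FSec B T.unop)
  map {T T'} g := AddCommGrpCat.ofHom
    { toFun := fun x => x.res g.unop
      map_zero' := FSec.ext' (map_zero (P.obj.map g).hom) fun _ _ _ => rfl
      map_add' := fun x y => FSec.ext' (map_add (P.obj.map g).hom _ _) fun _ _ _ => rfl }
  map_id T := AddCommGrpCat.ext fun x => FSec.ext' (ares_id P (T := T.unop) _) fun V f q => by
    change x.s V (f ≫ 𝟙 _) q = x.s V f q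
    rw [Category.comp_id]
  map_comp f g := AddCommGrpCat.ext fun x => FSec.ext' (ares_res P f.unop g.unop _).symm fun V h q => by
    change x.s V (h ≫ g.unop ≫ f.unop) q = x.s V ((h ≫ g.unop) ≫ f.unop) q
    rw [Category.assoc]

theorem isSheaf_FPre : Presheaf.IsSheaf J (FPre B) := by
  apply Presheaf.isSheaf_of_isSheaf_comp J (FPre B) (forget AddCommGrpCat.{u + 1})
  rw [isSheaf_iff_isSheaf_of_type]
  intro T R hR x hx
  let y : ∀ ⦃T' : C⦄ (f : T' ⟶ T), R f → FSec B T' := fun T' f hf => x f hf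
  have hy : ∀ ⦃T' T'' : C⦄ (f : T' ⟶ T) (g : T'' ⟶ T') (hf : R f), y (g ≫ f) (R.downward_closed hf g) = (y f hf).res g :=
    fun T' T'' f g hf => ((Presieve.compatible_iff_sieveCompatible x).1 hx f g hf)
  -- glue the first component
  obtain ⟨p, hp⟩ := aglue P (T := T) (fun T' f p => ∃ hf : R f, p = (y f hf).p)
    (by
      rintro T' T'' f g _ ⟨hf, rfl⟩
      exact ⟨R.downward_closed hf g, by rw [hy f g hf]; rfl⟩)
    (by
      rintro T' f _ _ ⟨hf, rfl⟩ ⟨hf', rfl⟩
      rfl) R hR (fun T' f hf => ⟨_, hf, rfl⟩)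
  have hp' : ∀ ⦃T' : C⦄ (f : T' ⟶ T) (hf : R f), P.obj.map f.op p = (y f hf).p := fun T' f hf => (hp f hf).choose_spec
  -- glue the second component
  have key : ∀ (V : C) (f : V ⟶ T) (q : Q.obj.obj (op V)), ∃ z : B.E.obj.obj (op V),
      ∀ ⦃W : C⦄ (g : W ⟶ V) (hg : R (g ≫ f)), B.E.obj.map g.op z = (y (g ≫ f) hg).s W (𝟙 W) (Q.obj.map g.op q) := by
    intro V f q
    obtain ⟨z, hz⟩ := glue B.E (T := V)
      (fun W g z => ∃ hg : R (g ≫ f), z = (y (g ≫ f) hg).s W (𝟙 W) (Q.obj.map g.op q))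
      (by
        rintro W W' g k _ ⟨hg, rfl⟩
        have h' : R ((k ≫ g) ≫ f) := by rw [Category.assoc]; exact R.downward_closed hg k
        refine ⟨h', ?_⟩
        have e : y ((k ≫ g) ≫ f) h' = (y (g ≫ f) hg).res k := by
          rw [← hy]
          congr 1
          exact Category.assoc _ _ _
        rw [e, FSec.s_map, ares_res]
        change _ = (y (g ≫ f) hg).s W' (𝟙 W' ≫ k) _
        rw [Category.id_comp, Category.comp_id])
      (by
        rintro W g _ _ ⟨hg, rfl⟩ ⟨hg', rfl⟩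
        rfl) (R.pullback f) (J.pullback_stable f hR) (fun W g hg => ⟨_, hg, rfl⟩)
    exact ⟨z, fun W g hg => (hz g hg).choose_spec⟩
  choose s hs using key
  have hext : ∀ (V : C) (f : V ⟶ T) (a b : B.E.obj.obj (op V)),
      (∀ ⦃W : C⦄ (g : W ⟶ V), R (g ≫ f) → B.E.obj.map g.op a = B.E.obj.map g.op b) → a = b := fun V f a b h =>
    ext_local B.E (R.pullback f) (J.pullback_stable f hR) _ _ fun W g hg => h g hg
  have hsP : ∀ (V : C) (f : V ⟶ T) (q : Q.obj.obj (op V)), B.πP V (s V f q) = P.obj.map f.op p := by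
    intro V f q
    refine aext_local P (R.pullback f) (J.pullback_stable f hR) _ _ fun W g hg => ?_
    rw [← B.πP_map, hs V f q g hg, FSec.πP_s, ares_res, hp' _ hg, ares_id]
  have hsQ : ∀ (V : C) (f : V ⟶ T) (q : Q.obj.obj (op V)), B.πQ V (s V f q) = q := by
    intro V f q
    refine aext_local Q (R.pullback f) (J.pullback_stable f hR) _ _ fun W g hg => ?_
    rw [← B.πQ_map, hs V f q g hg, FSec.πQ_s]
  refine ⟨(⟨p, s, hsP, hsQ, ?_, ?_⟩ : FSec B T), ?_, ?_⟩
  · intro V V' g f q
    refine hext V' (g ≫ f) _ _ fun W k hk => ?_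
    have hk' : R ((k ≫ g) ≫ f) := by rw [Category.assoc]; exact hk
    rw [res_res, hs V f q (k ≫ g) hk', hs V' (g ≫ f) _ k hk, ares_res]
    congr 2
    exact Category.assoc _ _ _
  · intro V f q q'
    refine hext V f _ _ fun W k hk => ?_
    have e : Q.obj.map k.op (q + q') = Q.obj.map k.op q + Q.obj.map k.op q' := map_add _ _ _
    rw [hs V f _ k hk, e, FSec.s_add, ad₂_map k (by rw [hsP, hsP]), hs V f q k hk, hs V f q' k hk]
  · intro T' f hf
    refine FSec.ext' (hp' f hf) fun V g q => ?_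
    change s V (g ≫ f) q = (y f hf).s V g q
    refine hext V (g ≫ f) _ _ fun W k hk => ?_
    have e : y (k ≫ g ≫ f) hk = (y f hf).res (k ≫ g) := by
      rw [← hy]
      congr 1
      exact (Category.assoc _ _ _).symm
    rw [hs V (g ≫ f) q k hk, e, FSec.s_map]
    change (y f hf).s W (𝟙 W ≫ k ≫ g) _ = _
    rw [Category.id_comp]
  · intro z hz
    let z' : FSec B T := z
    have hz' : ∀ ⦃T' : C⦄ (f : T' ⟶ T) (hf : R f), z'.res f = y f hf := fun T' f hf => hz f hf
    refine FSec.ext' (x := z') ?_ fun V f q => ?_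
    · refine aext_local P R hR _ _ fun T' f hf => ?_
      exact (congrArg FSec.p (hz' f hf)).trans (hp' f hf).symm
    · refine hext V f _ _ fun W g hg => ?_
      refine Eq.trans ?_ (hs V f q g hg).symm
      rw [FSec.s_map, ← hz' (g ≫ f) hg]
      change z'.s W (g ≫ f) _ = z'.s W (𝟙 W ≫ g ≫ f) _
      rw [Category.id_comp]

/-- the abelian sheaf `F(B)` -/
noncomputable def FSh : Sheaf J AddCommGrpCat.{u + 1} := ⟨FPre B, isSheaf_FPre B⟩

/-- the projection `F(B) ⟶ P` -/
noncomputable def Fπ : FSh B ⟶ P :=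
  ⟨{ app := fun T => AddCommGrpCat.ofHom
      { toFun := fun x : FSec B T.unop => x.p
        map_zero' := rfl
        map_add' := fun _ _ => rfl }
     naturality := fun T T' f => AddCommGrpCat.ext fun x => rfl }⟩

/-- the section of `F(B)` attached to a section `h` of `𝓗om(Q, G)` -/
noncomputable def FSec.ofHom {T : C} (h : Q.over T ⟶ G.over T) : FSec B T where
  p := 0
  s V f q := B.act V (h.hom.app (op (Over.mk f)) q) (e₁ B V q)
  πP_s V f q := by
    rw [B.πP_act, πP_e₁]
    exact (map_zero (P.obj.map f.op).hom).symm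
  πQ_s V f q := by rw [B.πQ_act, πQ_e₁]
  s_map V V' g f q := by
    rw [B.act_map, e₁_map]
    congr 1
    exact (NatTrans.naturality_apply h.hom (Over.homMk g : Over.mk (g ≫ f) ⟶ Over.mk f).op q).symm
  s_add V f q q' := by
    have e : h.hom.app (op (Over.mk f)) (q + q') = h.hom.app (op (Over.mk f)) q + h.hom.app (op (Over.mk f)) q' :=
      map_add _ _ _
    have he : B.πP V (e₁ B V q) = B.πP V (e₁ B V q') := by rw [πP_e₁, πP_e₁]
    rw [e, e₁_add, ad₂_act _ (by rw [B.πP_act, he]), ad₂_act' _ he]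
    exact B.add_act _ _ _ _

/-- the inclusion `𝓗om(Q, G) ⟶ F(B)` -/
noncomputable def Fι : HomSh.homSh J Q G ⟶ FSh B :=
  ⟨{ app := fun T => AddCommGrpCat.ofHom
      { toFun := fun h : (Q.over T.unop ⟶ G.over T.unop) => FSec.ofHom B h
        map_zero' := FSec.ext' rfl fun V f q => B.zero_act V _
        map_add' := fun h h' => FSec.ext' (zero_add (0 : P.obj.obj T)).symm fun V f q => by
          change B.act V (h.hom.app (op (Over.mk f)) q + h'.hom.app (op (Over.mk f)) q) (e₁ B V q) =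
            ad₁ B V (B.act V (h.hom.app (op (Over.mk f)) q) (e₁ B V q)) (B.act V (h'.hom.app (op (Over.mk f)) q) (e₁ B V q))
          rw [ad₁_act _ (by rw [B.πQ_act]), ad₁_act' _ rfl, ad₁_e₁_self]
          exact B.add_act _ _ _ _ }
     naturality := fun T T' g => AddCommGrpCat.ext fun h =>
      FSec.ext' (map_zero (P.obj.map g).hom).symm fun V f q => rfl }⟩

theorem Fι_inj (T : C) : Function.Injective ((Fι B).hom.app (op T)) := by
  intro h h' e
  refine Sheaf.hom_ext (NatTrans.ext (funext fun U => AddCommGrpCat.ext fun q => ?_))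
  have e1 : FSec.ofHom B h = FSec.ofHom B h' := e
  have e2 : (FSec.ofHom B h).s U.unop.left U.unop.hom q = (FSec.ofHom B h').s U.unop.left U.unop.hom q := by rw [e1]
  exact act_inj (B := B) e2

theorem Fι_Fπ : Fι B ≫ Fπ B = 0 := Sheaf.hom_ext (NatTrans.ext (funext fun T => AddCommGrpCat.ext fun h => rfl))

theorem F_exact (T : C) (x : (FSh B).obj.obj (op T)) (hx : (Fπ B).hom.app (op T) x = 0) :
    ∃ h : (HomSh.homSh J Q G).obj.obj (op T), (Fι B).hom.app (op T) h = x := by
  let x' : FSec B T := x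
  have hx' : x'.p = 0 := hx
  have hex : ∀ (V : C) (f : V ⟶ T) (q : Q.obj.obj (op V)), ∃ g : G.obj.obj (op V),
      B.act V g (e₁ B V q) = x'.s V f q := by
    intro V f q
    refine exists_act ?_ (by rw [πQ_e₁, x'.πQ_s])
    rw [πP_e₁, x'.πP_s, hx']
    exact (map_zero (P.obj.map f.op).hom).symm
  choose g hg using hex
  have hmap : ∀ (V V' : C) (k : V' ⟶ V) (f : V ⟶ T) (q : Q.obj.obj (op V)),
      g V' (k ≫ f) (Q.obj.map k.op q) = G.obj.map k.op (g V f q) := by
    intro V V' k f q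
    refine act_inj (B := B) (x := e₁ B V' (Q.obj.map k.op q)) ?_
    rw [hg, ← x'.s_map, ← hg, B.act_map, e₁_map]
  have hadd : ∀ (V : C) (f : V ⟶ T) (q q' : Q.obj.obj (op V)), g V f (q + q') = g V f q + g V f q' := by
    intro V f q q'
    have he : B.πP V (e₁ B V q) = B.πP V (e₁ B V q') := by rw [πP_e₁, πP_e₁]
    refine act_inj (B := B) (x := e₁ B V (q + q')) ?_
    rw [hg, x'.s_add, ← hg, ← hg, e₁_add, ad₂_act _ (by rw [B.πP_act, he]), ad₂_act' _ he, B.add_act]
  let h : Q.over T ⟶ G.over T :=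
    ⟨{ app := fun U => AddCommGrpCat.ofHom (AddMonoidHom.mk' (g U.unop.left U.unop.hom) (hadd _ _))
       naturality := fun U U' k => by
        refine AddCommGrpCat.ext fun q => ?_
        change g U'.unop.left U'.unop.hom (Q.obj.map k.unop.left.op q) = G.obj.map k.unop.left.op (g U.unop.left U.unop.hom q)
        rw [← hmap, Over.w k.unop] }⟩
  refine ⟨h, FSec.ext' (y := x') hx'.symm fun V f q => ?_⟩
  exact hg V f q

/-- `x` lifts to `F(B)` iff the extension `B_p` splits; here: a morphism `t : P' ⟶ F(B)` lifting `α : P' ⟶ P` gives a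
partial splitting of `B` over `α` and the identity of `Q`. -/
noncomputable def PSplit.ofLift {P' : Sheaf J AddCommGrpCat.{u + 1}} {α : P' ⟶ P} (t : P' ⟶ FSh B) (ht : t ≫ Fπ B = α) :
    PSplit α (𝟙 Q) B := by
  let t' : ∀ T : C, P'.obj.obj (op T) → FSec B T := fun T p => t.hom.app (op T) p
  have ht' : ∀ (T : C) (p : P'.obj.obj (op T)), (t' T p).p = α.hom.app (op T) p := fun T p => by
    rw [← ht]; rfl
  have hres : ∀ {T T' : C} (f : T' ⟶ T) (p : P'.obj.obj (op T)), t' T' (P'.obj.map f.op p) = (t' T p).res f :=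
    fun f p => NatTrans.naturality_apply t.hom f.op p
  exact
  { τ := fun T p q => (t' T p).s T (𝟙 T) q
    πP_τ := fun T p q => by rw [FSec.πP_s, ares_id, ht']
    πQ_τ := fun T p q => FSec.πQ_s _ _ _ _
    τ_map := fun {T T'} f p q => by
      rw [hres, FSec.s_map]
      change _ = (t' T p).s T' (𝟙 T' ≫ f) _
      rw [Category.id_comp, Category.comp_id]
    τ_ad₁ := fun T p p' q => by
      have e : t' T (p + p') = t' T p + t' T p' := map_add (t.hom.app (op T)).hom p p'
      rw [e]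
      rfl
    τ_ad₂ := fun T p q q' => FSec.s_add _ _ _ _ _ }

end K454.BX
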