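import Groth.Agent.AbSch.K454.AbSh
import Mathlib.Algebra.DirectSum.Basic

/-!
# Natural retractions `E ⟶ I` of a biextension into an injective sheaf
-/

universe u

open CategoryTheory CategoryTheory.Limits Opposite
open K454.Glue

namespace K454.BX

variable {C : Type (u + 1)} [Category.{u} C] {J : GrothendieckTopology C}
variable {P Q G : Sheaf J AddCommGrpCat.{u + 1}} (B : Biext J P Q G)

/-- the fibre of `E → P` above a section of `P`, a commutative group for the second law -/
def Fib (T : C) (p : P.obj.obj (op T)) : Type (u + 1) := {x : B.E.obj.obj (op T) // B.πP T x = p}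

namespace Fib

variable {B} {T : C} {p : P.obj.obj (op T)}

theorem hh (x y : Fib B T p) : B.πP T x.1 = B.πP T y.1 := x.2.trans y.2.symm

noncomputable instance : Add (Fib B T p) := ⟨fun x y => ⟨ad₂ B T x.1 y.1, (πP_ad₂ (hh x y)).trans x.2⟩⟩
noncomputable instance : Zero (Fib B T p) := ⟨⟨e₂ B T p, πP_e₂ p⟩⟩
noncomputable instance : Neg (Fib B T p) := ⟨fun x => ⟨neg₂ B T x.1, (πP_neg₂ x.1).trans x.2⟩⟩

theorem add_val (x y : Fib B T p) : (x + y).1 = ad₂ B T x.1 y.1 := rfl

noncomputable instance : AddCommGroup (Fib B T p) where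
  add_assoc x y z := Subtype.ext (ad₂_assoc (hh x y) (hh y z))
  zero_add x := Subtype.ext (ad₂_e₂_left x.2)
  add_zero x := Subtype.ext (ad₂_e₂_right x.2)
  nsmul := nsmulRec
  zsmul := zsmulRec
  neg_add_cancel x := Subtype.ext ((ad₂_neg₂' x.1).trans (by rw [x.2]; rfl))
  add_comm x y := Subtype.ext (ad₂_comm (hh x y))

variable (B p)

/-- restriction of the fibres -/
noncomputable def res {T' : C} (f : T' ⟶ T) : Fib B T p →+ Fib B T' (P.obj.map f.op p) :=
  AddMonoidHom.mk' (fun x => ⟨B.E.obj.map f.op x.1, (B.πP_map f x.1).trans (by rw [x.2])⟩)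
    (fun x y => Subtype.ext (ad₂_map f (hh x y)))

/-- the inclusion of `G` in the fibre -/
noncomputable def incl : G.obj.obj (op T) →+ Fib B T p :=
  AddMonoidHom.mk' (fun g => ⟨B.act T g (e₂ B T p), (B.πP_act _ _ _).trans (πP_e₂ p)⟩)
    (fun g g' => Subtype.ext (by
      change B.act T (g + g') (e₂ B T p) = ad₂ B T (B.act T g (e₂ B T p)) (B.act T g' (e₂ B T p))
      rw [ad₂_act _ (by rw [B.πP_act]), ad₂_act' _ rfl, ad₂_e₂_self, B.add_act]))

theorem incl_injective : Function.Injective (incl B p) := fun _ _ h =>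
  act_inj (B := B) (congrArg Subtype.val h)

end Fib

variable {B} in
/-- a section as an element of its fibre -/
def mkFib {T : C} (x : B.E.obj.obj (op T)) : Fib B T (B.πP T x) := ⟨x, rfl⟩

open Classical in
theorem of_congr {T : C} {p p' : P.obj.obj (op T)} (h : p = p') (x : Fib B T p) (x' : Fib B T p') (hx : x.1 = x'.1) :
    DirectSum.of (Fib B T) p x = DirectSum.of (Fib B T) p' x' := by
  subst h
  congr 1
  exact Subtype.ext hx

/-- `⨁_{p ∈ P(T)} B_p(T)` -/
abbrev MT (T : C) : Type (u + 1) := DirectSum (P.obj.obj (op T)) (Fib B T)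

/-- `⨁_{p ∈ P(T)} G(T)` -/
abbrev NT (P G : Sheaf J AddCommGrpCat.{u + 1}) (T : C) : Type (u + 1) :=
  DirectSum (P.obj.obj (op T)) (fun _ => G.obj.obj (op T))

open Classical in
noncomputable def MMap {T T' : C} (f : T' ⟶ T) : MT B T →+ MT B T' :=
  DirectSum.toAddMonoid fun p => (DirectSum.of (Fib B T') (P.obj.map f.op p)).comp (Fib.res B p f)

open Classical in
theorem MMap_of {T T' : C} (f : T' ⟶ T) (p : P.obj.obj (op T)) (x : Fib B T p) :
    MMap B f (DirectSum.of (Fib B T) p x) = DirectSum.of (Fib B T') (P.obj.map f.op p) (Fib.res B p f x) :=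
  DirectSum.toAddMonoid_of _ _ _

open Classical in
theorem MMap_id (T : C) : MMap B (𝟙 T) = AddMonoidHom.id _ := by
  refine DirectSum.addHom_ext fun p x => ?_
  rw [MMap_of]
  exact of_congr B (ares_id P p) _ _ (res_id B x.1)

open Classical in
theorem MMap_comp {T T' T'' : C} (f : T' ⟶ T) (g : T'' ⟶ T') : MMap B (g ≫ f) = (MMap B g).comp (MMap B f) := by
  refine DirectSum.addHom_ext fun p x => ?_
  rw [AddMonoidHom.comp_apply, MMap_of, MMap_of, MMap_of]
  exact of_congr B (ares_res P f g p).symm _ _ (res_res B f g x.1).symm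

variable (P G) in
open Classical in
noncomputable def NMap {T T' : C} (f : T' ⟶ T) : NT P G T →+ NT P G T' :=
  DirectSum.toAddMonoid fun p =>
    (DirectSum.of (fun _ : P.obj.obj (op T') => G.obj.obj (op T')) (P.obj.map f.op p)).comp (G.obj.map f.op).hom

open Classical in
theorem NMap_of {T T' : C} (f : T' ⟶ T) (p : P.obj.obj (op T)) (x : G.obj.obj (op T)) :
    NMap P G f (DirectSum.of (fun _ : P.obj.obj (op T) => G.obj.obj (op T)) p x) =
      DirectSum.of (fun _ : P.obj.obj (op T') => G.obj.obj (op T')) (P.obj.map f.op p) (G.obj.map f.op x) :=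
  DirectSum.toAddMonoid_of _ _ _

variable (P G) in
open Classical in
theorem NMap_id (T : C) : NMap P G (𝟙 T) = AddMonoidHom.id _ := by
  refine DirectSum.addHom_ext fun p x => ?_
  rw [NMap_of, ares_id, ares_id, AddMonoidHom.id_apply]

variable (P G) in
open Classical in
theorem NMap_comp {T T' T'' : C} (f : T' ⟶ T) (g : T'' ⟶ T') : NMap P G (g ≫ f) = (NMap P G g).comp (NMap P G f) := by
  refine DirectSum.addHom_ext fun p x => ?_
  rw [AddMonoidHom.comp_apply, NMap_of, NMap_of, NMap_of, ares_res, ares_res]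

/-- the presheaf `⨁_{p ∈ P} B_p` -/
noncomputable def MPre : Cᵒᵖ ⥤ AddCommGrpCat.{u + 1} where
  obj T := AddCommGrpCat.of (MT B T.unop)
  map {T T'} f := AddCommGrpCat.ofHom (MMap B f.unop)
  map_id T := congrArg AddCommGrpCat.ofHom (MMap_id B T.unop)
  map_comp {T T' T''} f g := congrArg AddCommGrpCat.ofHom (MMap_comp B f.unop g.unop)

/-- the presheaf `⨁_{p ∈ P} G` -/
noncomputable def NPre (P G : Sheaf J AddCommGrpCat.{u + 1}) : Cᵒᵖ ⥤ AddCommGrpCat.{u + 1} where
  obj T := AddCommGrpCat.of (NT P G T.unop)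
  map {T T'} f := AddCommGrpCat.ofHom (NMap P G f.unop)
  map_id T := congrArg AddCommGrpCat.ofHom (NMap_id P G T.unop)
  map_comp {T T' T''} f g := congrArg AddCommGrpCat.ofHom (NMap_comp P G f.unop g.unop)

noncomputable def NMT (T : C) : NT P G T →+ MT B T := DirectSum.map (fun p : P.obj.obj (op T) => Fib.incl B p)

open Classical in
theorem NMT_of (T : C) (p : P.obj.obj (op T)) (x : G.obj.obj (op T)) :
    NMT B T (DirectSum.of (fun _ : P.obj.obj (op T) => G.obj.obj (op T)) p x) =
      DirectSum.of (Fib B T) p (Fib.incl B p x) := DirectSum.map_of _ _ _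

open Classical in
theorem NMT_nat {T T' : C} (f : T' ⟶ T) : (NMT B T').comp (NMap P G f) = (MMap B f).comp (NMT B T) := by
  refine DirectSum.addHom_ext fun p x => ?_
  rw [AddMonoidHom.comp_apply, AddMonoidHom.comp_apply, NMap_of, NMT_of, NMT_of, MMap_of]
  refine of_congr B rfl _ _ ?_
  change B.act T' (G.obj.map f.op x) (e₂ B T' (P.obj.map f.op p)) = B.E.obj.map f.op (B.act T x (e₂ B T p))
  rw [B.act_map, e₂_map]

/-- the inclusion `⨁ G ⟶ ⨁ B_p` -/
noncomputable def NM : NPre P G ⟶ MPre B where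
  app T := AddCommGrpCat.ofHom (NMT B T.unop)
  naturality T T' f := congrArg AddCommGrpCat.ofHom (NMT_nat B f.unop)

instance : Mono (NM B) := by
  have : ∀ T, Mono ((NM B).app T) := fun T => (AddCommGrpCat.mono_iff_injective _).mpr
    ((DirectSum.map_injective _).2 fun p => Fib.incl_injective B p)
  exact NatTrans.mono_of_mono_app _

section NI

variable {I : Sheaf J AddCommGrpCat.{u + 1}} (ι : G ⟶ I)

open Classical in
variable (P) in
noncomputable def NIT (T : C) : NT P G T →+ I.obj.obj (op T) := DirectSum.toAddMonoid fun _ => (ι.hom.app (op T)).hom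

open Classical in
theorem NIT_of (T : C) (p : P.obj.obj (op T)) (x : G.obj.obj (op T)) :
    NIT P ι T (DirectSum.of (fun _ : P.obj.obj (op T) => G.obj.obj (op T)) p x) = ι.hom.app (op T) x :=
  DirectSum.toAddMonoid_of _ _ _

open Classical in
variable (P) in
theorem NIT_nat {T T' : C} (f : T' ⟶ T) : (NIT P ι T').comp (NMap P G f) = (I.obj.map f.op).hom.comp (NIT P ι T) := by
  refine DirectSum.addHom_ext fun p x => ?_
  rw [AddMonoidHom.comp_apply, AddMonoidHom.comp_apply, NMap_of, NIT_of, NIT_of]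
  exact (nat_apply ι f x).symm

variable (P) in
/-- the map `⨁ G ⟶ I` given by `ι` on each summand -/
noncomputable def NI : NPre P G ⟶ I.obj where
  app T := AddCommGrpCat.ofHom (NIT P ι T.unop)
  naturality T T' f := congrArg AddCommGrpCat.ofHom (NIT_nat P ι f.unop)

end NI

theorem injective_presheaf (I : Sheaf J AddCommGrpCat.{u + 1}) [Injective I] : Injective I.obj :=
  Injective.injective_of_adjoint (sheafificationAdjunction J AddCommGrpCat.{u + 1}) I

open Classical in
/-- **Natural retraction.** For `ι : G ⟶ I` with `I` injective there is a natural map `r : E ⟶ I`, additive for the second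
law and with `r (g • x) = ι g + r x`. -/
theorem exists_retraction {I : Sheaf J AddCommGrpCat.{u + 1}} [Injective I] (ι : G ⟶ I) :
    ∃ r : ∀ T : C, B.E.obj.obj (op T) → I.obj.obj (op T),
      (∀ {T T' : C} (f : T' ⟶ T) (x : B.E.obj.obj (op T)), I.obj.map f.op (r T x) = r T' (B.E.obj.map f.op x)) ∧
      (∀ (T : C) (g : G.obj.obj (op T)) (x : B.E.obj.obj (op T)),
        r T (B.act T g x) = ι.hom.app (op T) g + r T x) ∧
      (∀ (T : C) (x y : B.E.obj.obj (op T)), B.πP T x = B.πP T y → r T (ad₂ B T x y) = r T x + r T y) := by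
  have := injective_presheaf I
  let φ : MPre B ⟶ I.obj := Injective.factorThru (NI P ι) (NM B)
  have hφ : NM B ≫ φ = NI P ι := Injective.comp_factorThru (NI P ι) (NM B)
  let φT : ∀ T : C, MT B T →+ I.obj.obj (op T) := fun T => (φ.app (op T)).hom
  have hφT : ∀ {T T' : C} (f : T' ⟶ T) (m : MT B T), I.obj.map f.op (φT T m) = φT T' (MMap B f m) :=
    fun {T T'} f m => (NatTrans.naturality_apply φ f.op (m : (MPre B).obj (op T))).symm
  have hφι : ∀ (T : C) (n : NT P G T), φT T (NMT B T n) = NIT P ι T n := fun T n =>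
    congrArg (fun k : NPre P G ⟶ I.obj => k.app (op T) n) hφ
  let r : ∀ (T : C), B.E.obj.obj (op T) → I.obj.obj (op T) := fun T x => φT T (DirectSum.of (Fib B T) _ (mkFib x))
  have hr : ∀ (T : C) (x : B.E.obj.obj (op T)) (p : P.obj.obj (op T)) (x' : Fib B T p) (_ : B.πP T x = p) (_ : x = x'.1),
      r T x = φT T (DirectSum.of (Fib B T) p x') := fun T x p x' h h' => congrArg (φT T) (of_congr B h _ _ h')
  refine ⟨r, ?_, ?_, ?_⟩
  · intro T T' f x
    refine (hφT f _).trans ?_
    rw [MMap_of]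
    exact (hr T' (B.E.obj.map f.op x) _ _ (B.πP_map f x) rfl).symm
  · intro T g x
    have h1 : B.act T g x = (Fib.incl B (B.πP T x) g + mkFib x).1 := by
      change B.act T g x = ad₂ B T (B.act T g (e₂ B T (B.πP T x))) x
      rw [ad₂_act _ (πP_e₂ _), ad₂_e₂_left rfl]
    rw [hr T (B.act T g x) (B.πP T x) (Fib.incl B (B.πP T x) g + mkFib x) (B.πP_act T g x) h1, map_add, map_add,
      ← NMT_of, hφι, NIT_of]
  · intro T x y h
    let y' : Fib B T (B.πP T x) := ⟨y, h.symm⟩
    rw [hr T (ad₂ B T x y) (B.πP T x) (mkFib x + y') (πP_ad₂ h) rfl, map_add, map_add,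
      hr T y (B.πP T x) y' h.symm rfl]

end K454.BX
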