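import Groth.Agent.AbSch.K454.Conn
import Groth.Agent.AbSch.K454.Retr
import Groth.Agent.AbSch.K454.FSheaf

/-!
# The class map `P ⟶ 𝓔xt¹(Q, G)` of a biextension
-/

universe u

open CategoryTheory CategoryTheory.Limits Opposite
open K454.Glue

namespace K454.BX

variable {C : Type (u + 1)} [Category.{u} C] {J : GrothendieckTopology C}
variable {P Q G : Sheaf J AddCommGrpCat.{u + 1}}

/-- A natural invariant map from the sections of `E` to an abelian sheaf, additive for the second law, comes from a map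
`P × Q → F` additive in the second variable. -/
theorem exists_add₂ (B : Biext J P Q G) (F : Sheaf J AddCommGrpCat.{u + 1})
    (δ : ∀ T : C, B.E.obj.obj (op T) → F.obj.obj (op T))
    (hδ : ∀ {T T' : C} (f : T' ⟶ T) (x : B.E.obj.obj (op T)), F.obj.map f.op (δ T x) = δ T' (B.E.obj.map f.op x))
    (hinv : ∀ (T : C) (g : G.obj.obj (op T)) (x : B.E.obj.obj (op T)), δ T (B.act T g x) = δ T x)
    (hadd₂ : ∀ (T : C) (x z : B.E.obj.obj (op T)), B.πP T x = B.πP T z → δ T (ad₂ B T x z) = δ T x + δ T z) :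
    ∃ b : ∀ T : C, P.obj.obj (op T) → Q.obj.obj (op T) → F.obj.obj (op T),
      (∀ {T T' : C} (f : T' ⟶ T) (p : P.obj.obj (op T)) (q : Q.obj.obj (op T)),
        F.obj.map f.op (b T p q) = b T' (P.obj.map f.op p) (Q.obj.map f.op q)) ∧
      (∀ (T : C) (x : B.E.obj.obj (op T)), b T (B.πP T x) (B.πQ T x) = δ T x) ∧
      ∀ (T : C) (p : P.obj.obj (op T)) (q q' : Q.obj.obj (op T)), b T p (q + q') = b T p q + b T p q' := by
  obtain ⟨b, hb, hbδ⟩ : ∃ b : ∀ T : C, P.obj.obj (op T) → Q.obj.obj (op T) → F.obj.obj (op T),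
      (∀ {T T' : C} (f : T' ⟶ T) (p : P.obj.obj (op T)) (q : Q.obj.obj (op T)),
        F.obj.map f.op (b T p q) = b T' (P.obj.map f.op p) (Q.obj.map f.op q)) ∧
      ∀ (T : C) (x : B.E.obj.obj (op T)), b T (B.πP T x) (B.πQ T x) = δ T x :=
    exists_descend B (Biext.uSh J F) δ hδ (fun T x y h h' => by
      obtain ⟨g, rfl⟩ := exists_act h h'
      exact (hinv T g x).symm)
  refine ⟨b, hb, hbδ, ?_⟩
  intro T p q q'
  obtain ⟨R, hR, hex⟩ := B.locallySurjective T p q
  obtain ⟨R', hR', hex'⟩ := B.locallySurjective T p q'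
  refine aext_local F (R ⊓ R') (J.intersection_covering hR hR') _ _ fun T' f hf => ?_
  obtain ⟨x, h1, h2⟩ := hex f hf.1
  obtain ⟨z, h3, h4⟩ := hex' f hf.2
  have hxz := h1.trans h3.symm
  have e1 : F.obj.map f.op (b T p q + b T p q') = F.obj.map f.op (b T p q) + F.obj.map f.op (b T p q') := map_add _ _ _
  have e2 : Q.obj.map f.op (q + q') = B.πQ T' x + B.πQ T' z := by rw [h2, h4]; exact map_add _ _ _
  have e3 : b T' (B.πP T' x) (B.πQ T' z) = b T' (B.πP T' z) (B.πQ T' z) := by rw [hxz]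
  rw [e1, hb, hb, hb, e2, ← h1, ← h2, ← h4, e3, hbδ, hbδ, ← hadd₂ T' x z hxz, ← hbδ, πP_ad₂ hxz, πQ_ad₂ hxz]

/-- The defect of additivity of a natural retraction `r : E ⟶ I` in the first variable. -/
theorem exists_defect (B : Biext J P Q G) {I : Sheaf J AddCommGrpCat.{u + 1}} (ι : G ⟶ I)
    (r : ∀ T : C, B.E.obj.obj (op T) → I.obj.obj (op T))
    (hr : ∀ {T T' : C} (f : T' ⟶ T) (x : B.E.obj.obj (op T)), I.obj.map f.op (r T x) = r T' (B.E.obj.map f.op x))
    (hact : ∀ (T : C) (g : G.obj.obj (op T)) (x : B.E.obj.obj (op T)), r T (B.act T g x) = ι.hom.app (op T) g + r T x)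
    (hadd : ∀ (T : C) (x y : B.E.obj.obj (op T)), B.πP T x = B.πP T y → r T (ad₂ B T x y) = r T x + r T y)
    (T : C) (p p' : P.obj.obj (op T)) :
    ∃ d : Q.over T ⟶ I.over T, ∀ (V : C) (f : V ⟶ T) (x z : B.E.obj.obj (op V)), B.πP V x = P.obj.map f.op p →
      B.πP V z = P.obj.map f.op p' → B.πQ V x = B.πQ V z →
      (d.hom.app (op (Over.mk f)) (B.πQ V x) : I.obj.obj (op V)) = r V (ad₁ B V x z) - r V x - r V z := by
  have hinv : ∀ (V : C) (x z x' z' : B.E.obj.obj (op V)), B.πP V x = B.πP V x' → B.πP V z = B.πP V z' →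
      B.πQ V x = B.πQ V x' → B.πQ V z = B.πQ V z' → B.πQ V x = B.πQ V z →
      r V (ad₁ B V x z) - r V x - r V z = r V (ad₁ B V x' z') - r V x' - r V z' := by
    intro V x z x' z' h1 h2 h3 h4 h5
    obtain ⟨g, rfl⟩ := exists_act h1 h3
    obtain ⟨k, rfl⟩ := exists_act h2 h4
    rw [ad₁_act _ (by rw [B.πQ_act, h5]), ad₁_act' _ h5, hact, hact, hact, hact]
    abel
  have key : ∀ (V : C) (f : V ⟶ T) (q : Q.obj.obj (op V)), ∃ D : I.obj.obj (op V),
      ∀ ⦃W : C⦄ (k : W ⟶ V) (x z : B.E.obj.obj (op W)), B.πP W x = P.obj.map (k ≫ f).op p →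
        B.πP W z = P.obj.map (k ≫ f).op p' → B.πQ W x = Q.obj.map k.op q → B.πQ W z = Q.obj.map k.op q →
        I.obj.map k.op D = r W (ad₁ B W x z) - r W x - r W z := by
    intro V f q
    obtain ⟨R, hR, hex⟩ := B.locallySurjective V (P.obj.map f.op p) q
    obtain ⟨R', hR', hex'⟩ := B.locallySurjective V (P.obj.map f.op p') q
    obtain ⟨D, hD⟩ := aglue I (T := V)
      (fun W k D => ∃ x z : B.E.obj.obj (op W), B.πP W x = P.obj.map (k ≫ f).op p ∧
        B.πP W z = P.obj.map (k ≫ f).op p' ∧ B.πQ W x = Q.obj.map k.op q ∧ B.πQ W z = Q.obj.map k.op q ∧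
        D = r W (ad₁ B W x z) - r W x - r W z)
      (by
        rintro W W' k l _ ⟨x, z, h1, h2, h3, h4, rfl⟩
        refine ⟨B.E.obj.map l.op x, B.E.obj.map l.op z, ?_, ?_, ?_, ?_, ?_⟩
        · rw [B.πP_map, h1, ares_res, Category.assoc]
        · rw [B.πP_map, h2, ares_res, Category.assoc]
        · rw [B.πQ_map, h3, ares_res]
        · rw [B.πQ_map, h4, ares_res]
        · rw [← ad₁_map l (h3.trans h4.symm), ← hr, ← hr, ← hr]
          exact (map_sub (I.obj.map l.op).hom _ _).trans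
            (congrArg (fun t : I.obj.obj (op W') => t - I.obj.map l.op (r W z)) (map_sub (I.obj.map l.op).hom _ _)))
      (by
        rintro W k _ _ ⟨x, z, h1, h2, h3, h4, rfl⟩ ⟨x', z', h1', h2', h3', h4', rfl⟩
        exact hinv W _ _ _ _ (h1.trans h1'.symm) (h2.trans h2'.symm) (h3.trans h3'.symm) (h4.trans h4'.symm)
          (h3.trans h4.symm))
      (R ⊓ R') (J.intersection_covering hR hR')
      (by
        intro W k hk
        obtain ⟨x, h1, h2⟩ := hex k hk.1
        obtain ⟨z, h3, h4⟩ := hex' k hk.2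
        exact ⟨_, x, z, by rw [h1, ares_res], by rw [h3, ares_res], h2, h4, rfl⟩)
    refine ⟨D, fun W k x z h1 h2 h3 h4 => ?_⟩
    refine aext_local I ((R ⊓ R').pullback k) (J.pullback_stable k (J.intersection_covering hR hR')) _ _
      fun W' l hl => ?_
    obtain ⟨x', z', h1', h2', h3', h4', e⟩ := hD (l ≫ k) hl
    have e1 : I.obj.map l.op (r W (ad₁ B W x z) - r W x - r W z) =
        r W' (ad₁ B W' (B.E.obj.map l.op x) (B.E.obj.map l.op z)) - r W' (B.E.obj.map l.op x) - r W' (B.E.obj.map l.op z) := by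
      rw [← ad₁_map l (h3.trans h4.symm), ← hr, ← hr, ← hr]
      exact (map_sub (I.obj.map l.op).hom _ _).trans
            (congrArg (fun t : I.obj.obj (op W') => t - I.obj.map l.op (r W z)) (map_sub (I.obj.map l.op).hom _ _))
    rw [ares_res, e, e1]
    refine hinv W' _ _ _ _ ?_ ?_ ?_ ?_ (h3'.trans h4'.symm)
    · rw [h1', B.πP_map, h1, ares_res, Category.assoc]
    · rw [h2', B.πP_map, h2, ares_res, Category.assoc]
    · rw [h3', B.πQ_map, h3, ares_res]
    · rw [h4', B.πQ_map, h4, ares_res]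
  choose D hD using key
  have hD' : ∀ (V : C) (f : V ⟶ T) (x z : B.E.obj.obj (op V)), B.πP V x = P.obj.map f.op p →
      B.πP V z = P.obj.map f.op p' → B.πQ V x = B.πQ V z →
      D V f (B.πQ V x) = r V (ad₁ B V x z) - r V x - r V z := by
    intro V f x z h1 h2 h3
    have h := hD V f (B.πQ V x) (𝟙 V) x z (by rw [Category.id_comp, h1]) (by rw [Category.id_comp, h2])
      (by rw [ares_id]) (by rw [ares_id, h3])
    rwa [ares_id] at h
  refine ⟨mkOverHom D ?_ ?_, hD'⟩
  · intro V V' k f q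
    obtain ⟨R, hR, hex⟩ := B.locallySurjective V' (P.obj.map (k ≫ f).op p) (Q.obj.map k.op q)
    obtain ⟨R', hR', hex'⟩ := B.locallySurjective V' (P.obj.map (k ≫ f).op p') (Q.obj.map k.op q)
    refine aext_local I (R ⊓ R') (J.intersection_covering hR hR') _ _ fun W l hl => ?_
    obtain ⟨x, h1, h2⟩ := hex l hl.1
    obtain ⟨z, h3, h4⟩ := hex' l hl.2
    rw [hD V' (k ≫ f) _ l x z (by rw [h1, ares_res]) (by rw [h3, ares_res]) h2 h4, ares_res,
      hD V f _ (l ≫ k) x z (by rw [h1, ares_res, Category.assoc]) (by rw [h3, ares_res, Category.assoc])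
        (by rw [h2, ares_res]) (by rw [h4, ares_res])]
  · intro V f q q'
    obtain ⟨R, hR, hex⟩ := B.locallySurjective V (P.obj.map f.op p) q
    obtain ⟨R', hR', hex'⟩ := B.locallySurjective V (P.obj.map f.op p') q
    obtain ⟨S, hS, hexS⟩ := B.locallySurjective V (P.obj.map f.op p) q'
    obtain ⟨S', hS', hexS'⟩ := B.locallySurjective V (P.obj.map f.op p') q'
    refine aext_local I ((R ⊓ R') ⊓ (S ⊓ S')) (J.intersection_covering (J.intersection_covering hR hR')
      (J.intersection_covering hS hS')) _ _ fun W l hl => ?_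
    obtain ⟨x, h1, h2⟩ := hex l hl.1.1
    obtain ⟨z, h3, h4⟩ := hex' l hl.1.2
    obtain ⟨y, h5, h6⟩ := hexS l hl.2.1
    obtain ⟨w, h7, h8⟩ := hexS' l hl.2.2
    have hxy := h1.trans h5.symm
    have hzw := h3.trans h7.symm
    have hxz := h2.trans h4.symm
    have hyw := h6.trans h8.symm
    have e : I.obj.map l.op (D V f q + D V f q') = I.obj.map l.op (D V f q) + I.obj.map l.op (D V f q') := map_add _ _ _
    have e' : Q.obj.map l.op (q + q') = Q.obj.map l.op q + Q.obj.map l.op q' := map_add _ _ _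
    rw [e, hD V f q l x z (by rw [h1, ares_res]) (by rw [h3, ares_res]) h2 h4,
      hD V f q' l y w (by rw [h5, ares_res]) (by rw [h7, ares_res]) h6 h8,
      hD V f (q + q') l (ad₂ B W x y) (ad₂ B W z w)
        (by rw [πP_ad₂ hxy, h1, ares_res]) (by rw [πP_ad₂ hzw, h3, ares_res])
        (by rw [πQ_ad₂ hxy, h2, h6, e']) (by rw [πQ_ad₂ hzw, h4, h8, e']),
      compat' hxy hzw hxz hyw, hadd W _ _ (by rw [πP_ad₁ hxz, πP_ad₁ hyw, hxy, hzw]), hadd W _ _ hxy, hadd W _ _ hzw]
    abel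

end K454.BX
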