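import Groth.Agent.AbSch.K454.AbSh
import Groth.Agent.Cohder.RDLES

/-!
# Left exactness of the internal Hom and the connecting morphism `𝓗om(Q, K) ⟶ 𝓔xt¹(Q, G)`
-/

universe u

open CategoryTheory CategoryTheory.Limits Opposite
open K454.Glue

namespace K454.BX

variable {C : Type (u + 1)} [Category.{u} C] {J : GrothendieckTopology C}

theorem homSh_map_injective (Q : Sheaf J AddCommGrpCat.{u + 1}) {A B : Sheaf J AddCommGrpCat.{u + 1}} (φ : A ⟶ B)
    [Mono φ] (T : C) : Function.Injective (((HomSh.homShFunctor J Q).map φ).hom.app (op T)) := by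
  intro h h' e
  refine Sheaf.hom_ext (NatTrans.ext (funext fun U => AddCommGrpCat.ext fun q => ?_))
  refine injective_of_mono φ U.unop.left ?_
  have e1 : (𝟙 _ ≫ (h : Q.over T ⟶ A.over T) ≫ (J.overPullback _ T).map φ : Q.over T ⟶ B.over T) =
    𝟙 _ ≫ (h' : Q.over T ⟶ A.over T) ≫ (J.overPullback _ T).map φ := by
      have h0 : ∀ k : Q.over T ⟶ A.over T, ((HomSh.homShFunctor J Q).map φ).hom.app (op T) k =
          (𝟙 _ ≫ k ≫ (J.overPullback _ T).map φ : Q.over T ⟶ B.over T) := by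
        intro k
        change (J.overPullback _ T).map (𝟙 Q) ≫ k ≫ (J.overPullback _ T).map φ = _
        rw [(J.overPullback _ T).map_id]
      exact (h0 h).symm.trans (e.trans (h0 h'))
  exact congrArg (fun k : Q.over T ⟶ B.over T => k.hom.app U q) e1

theorem homSh_map_apply (Q : Sheaf J AddCommGrpCat.{u + 1}) {A B : Sheaf J AddCommGrpCat.{u + 1}} (φ : A ⟶ B)
    (T : C) (h : Q.over T ⟶ A.over T) (V : C) (f : V ⟶ T) (q : Q.obj.obj (op V)) :
    (((HomSh.homShFunctor J Q).map φ).hom.app (op T) h : Q.over T ⟶ B.over T).hom.app (op (Over.mk f)) q =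
      φ.hom.app (op V) (h.hom.app (op (Over.mk f)) q) := by
  have h0 : (((HomSh.homShFunctor J Q).map φ).hom.app (op T) h : Q.over T ⟶ B.over T) =
      (𝟙 _ ≫ h ≫ (J.overPullback _ T).map φ : Q.over T ⟶ B.over T) := by
    change (J.overPullback _ T).map (𝟙 Q) ≫ h ≫ (J.overPullback _ T).map φ = _
    rw [(J.overPullback _ T).map_id]
  rw [h0]
  rfl

/-- constructing a section of the internal Hom from a natural additive family -/
noncomputable def mkOverHom {Q G : Sheaf J AddCommGrpCat.{u + 1}} {T : C}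
    (g : ∀ (V : C) (_ : V ⟶ T), Q.obj.obj (op V) → G.obj.obj (op V))
    (hmap : ∀ (V V' : C) (k : V' ⟶ V) (f : V ⟶ T) (q : Q.obj.obj (op V)),
      g V' (k ≫ f) (Q.obj.map k.op q) = G.obj.map k.op (g V f q))
    (hadd : ∀ (V : C) (f : V ⟶ T) (q q' : Q.obj.obj (op V)), g V f (q + q') = g V f q + g V f q') :
    Q.over T ⟶ G.over T :=
  ⟨{ app := fun U => AddCommGrpCat.ofHom (AddMonoidHom.mk' (g U.unop.left U.unop.hom) (hadd _ _))
     naturality := fun U U' k => by
      refine AddCommGrpCat.ext fun q => ?_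
      have h := hmap U.unop.left U'.unop.left k.unop.left U.unop.hom q
      rw [Over.w k.unop] at h
      exact h }⟩

theorem mkOverHom_apply {Q G : Sheaf J AddCommGrpCat.{u + 1}} {T : C}
    (g : ∀ (V : C) (_ : V ⟶ T), Q.obj.obj (op V) → G.obj.obj (op V))
    (hmap : ∀ (V V' : C) (k : V' ⟶ V) (f : V ⟶ T) (q : Q.obj.obj (op V)),
      g V' (k ≫ f) (Q.obj.map k.op q) = G.obj.map k.op (g V f q))
    (hadd : ∀ (V : C) (f : V ⟶ T) (q q' : Q.obj.obj (op V)), g V f (q + q') = g V f q + g V f q')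
    (V : C) (f : V ⟶ T) (q : Q.obj.obj (op V)) : (mkOverHom g hmap hadd).hom.app (op (Over.mk f)) q = g V f q := rfl

theorem overHom_ext {Q G : Sheaf J AddCommGrpCat.{u + 1}} {T : C} {h h' : Q.over T ⟶ G.over T}
    (e : ∀ (V : C) (f : V ⟶ T) (q : Q.obj.obj (op V)), h.hom.app (op (Over.mk f)) q = h'.hom.app (op (Over.mk f)) q) :
    h = h' :=
  Sheaf.hom_ext (NatTrans.ext (funext fun U => AddCommGrpCat.ext fun q => e U.unop.left U.unop.hom q))

theorem overHom_map {Q G : Sheaf J AddCommGrpCat.{u + 1}} {T : C} (h : Q.over T ⟶ G.over T)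
    {V V' : C} (k : V' ⟶ V) (f : V ⟶ T) (q : Q.obj.obj (op V)) :
    h.hom.app (op (Over.mk (k ≫ f))) (Q.obj.map k.op q) = G.obj.map k.op (h.hom.app (op (Over.mk f)) q) :=
  NatTrans.naturality_apply h.hom (Over.homMk k : Over.mk (k ≫ f) ⟶ Over.mk f).op q

theorem overHom_add {Q G : Sheaf J AddCommGrpCat.{u + 1}} {T : C} (h : Q.over T ⟶ G.over T)
    {V : C} (f : V ⟶ T) (q q' : Q.obj.obj (op V)) :
    h.hom.app (op (Over.mk f)) (q + q') =
      (h.hom.app (op (Over.mk f)) q + h.hom.app (op (Over.mk f)) q' : G.obj.obj (op V)) := map_add _ _ _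

/-- restriction of a section of the internal Hom -/
theorem homSh_res_apply {Q G : Sheaf J AddCommGrpCat.{u + 1}} {T T' : C} (g : T' ⟶ T) (h : Q.over T ⟶ G.over T)
    (V : C) (f : V ⟶ T') (q : Q.obj.obj (op V)) :
    ((HomSh.homSh J Q G).obj.map g.op h : Q.over T' ⟶ G.over T').hom.app (op (Over.mk f)) q =
      h.hom.app (op (Over.mk (f ≫ g))) q := rfl

instance homShFunctor_preservesFiniteLimits (Q : Sheaf J AddCommGrpCat.{u + 1}) :
    PreservesFiniteLimits (HomSh.homShFunctor J Q) := by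
  refine ((Functor.preservesFiniteLimits_tfae (HomSh.homShFunctor J Q)).out 0 3).1 fun S hS => ?_
  have := hS.mono_f
  refine ⟨exact_of_sections _ fun T x hx => ?_, mono_of_injective _ fun T => homSh_map_injective Q S.f T⟩
  let x' : Q.over T ⟶ S.X₂.over T := x
  have hx' : ∀ (V : C) (f : V ⟶ T) (q : Q.obj.obj (op V)), S.g.hom.app (op V) (x'.hom.app (op (Over.mk f)) q) = 0 := by
    intro V f q
    rw [← homSh_map_apply Q S.g T x' V f q]
    have hx0 : ((HomSh.homShFunctor J Q).map S.g).hom.app (op T) x' = (0 : Q.over T ⟶ S.X₃.over T) := hx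
    rw [hx0]
    rfl
  have hex : ∀ (V : C) (f : V ⟶ T) (q : Q.obj.obj (op V)), ∃ a : S.X₁.obj.obj (op V),
      S.f.hom.app (op V) a = x'.hom.app (op (Over.mk f)) q := fun V f q =>
    exists_of_exact_of_mono S hS.exact _ (hx' V f q)
  choose g hg using hex
  have hinj := fun V => injective_of_mono S.f V
  refine ⟨(mkOverHom g ?_ ?_ : Q.over T ⟶ S.X₁.over T), ?_⟩
  · intro V V' k f q
    apply hinj
    rw [hg, ← nat_apply, hg, overHom_map]
  · intro V f q q'
    apply hinj
    rw [hg, overHom_add, ← hg, ← hg]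
    exact (map_add (S.f.hom.app (op V)).hom _ _).symm
  · refine overHom_ext (G := S.X₂) (h' := x') fun V f q => ?_
    refine (homSh_map_apply Q S.f T _ V f q).trans ?_
    exact hg V f q

end K454.BX
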