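import Groth.Agent.AbSch.K454.ConnAbs
import Groth.Agent.AbSch.K454.HomEx

/-!
# The connecting morphism `𝓗om(Q, K) ⟶ 𝓔xt¹(Q, G)`
-/

universe u

open CategoryTheory CategoryTheory.Limits Opposite
open K454.Glue

namespace K454.BX

variable {C : Type (u + 1)} [Category.{u} C] {J : GrothendieckTopology C}

/-- For `0 → G → I → K → 0` exact there is a connecting morphism `𝓗om(Q, K) ⟶ 𝓔xt¹(Q, G)` whose kernel is the
image of `𝓗om(Q, I)`; it is an epimorphism when `I` is injective. -/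
theorem exists_connecting [HasInjectiveResolutions (Sheaf J AddCommGrpCat.{u + 1})]
    (Q : Sheaf J AddCommGrpCat.{u + 1}) (S : ShortComplex (Sheaf J AddCommGrpCat.{u + 1}))
    (hS : S.ShortExact) :
    ∃ (δ : (HomSh.homShFunctor J Q).obj S.X₃ ⟶ (HomSh.extSh J Q 1).obj S.X₁)
      (w : (HomSh.homShFunctor J Q).map S.g ≫ δ = 0), (ShortComplex.mk _ _ w).Exact ∧ (Injective S.X₂ → Epi δ) :=
  K454.ConnAbs.exists_connecting (HomSh.homShFunctor J Q) (HomSh.extSh J Q 1) (HomSh.extSh_def J Q 1) S hS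

end K454.BX
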