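import Groth.Agent.Cohder.RDLES

/-!
# The connecting morphism `F X₃ ⟶ R¹F X₁` of a left exact functor (abstract form)
-/

universe w₁ w₂ v₁ v₂ u₁ u₂

open CategoryTheory CategoryTheory.Limits

namespace K454.ConnAbs

variable {A : Type u₁} [Category.{v₁} A] [Abelian A] [HasInjectiveResolutions A]
  {B : Type u₂} [Category.{v₂} B] [Abelian B]
  (F : A ⥤ B) [F.Additive] [PreservesFiniteLimits F]

/-- a right derived functor in degree one together with the equation defining it (kept as a variable so that nothing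
is unfolded) -/
theorem exists_connecting (R₁ : A ⥤ B) (hR : R₁ = F.rightDerived 1) (S : ShortComplex A) (hS : S.ShortExact) :
    ∃ (δ : F.obj S.X₃ ⟶ R₁.obj S.X₁) (w : F.map S.g ≫ δ = 0), (ShortComplex.mk _ _ w).Exact ∧
      (Injective S.X₂ → Epi δ) := by
  subst hR
  obtain ⟨-, -, δ, hδ⟩ := Groth.Agent.Cohder.RDLES.exists_les F hS
  obtain ⟨w₁, w₂, ex₁, ex₂⟩ := hδ 0
  let e := F.rightDerivedZeroIsoSelf
  have w : F.map S.g ≫ (e.inv.app S.X₃ ≫ δ 0) = 0 := by
    rw [← Category.assoc, e.inv.naturality, Category.assoc, w₁, comp_zero]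
  refine ⟨e.inv.app S.X₃ ≫ δ 0, w, ?_, ?_⟩
  · refine (ShortComplex.exact_iff_of_iso ?_).1 ex₁
    refine ShortComplex.isoMk (e.app _) (e.app _) (Iso.refl _) ?_ ?_
    · exact (e.hom.naturality S.g).symm
    · change e.hom.app _ ≫ e.inv.app _ ≫ δ 0 = δ 0 ≫ 𝟙 _
      rw [← NatTrans.comp_app_assoc, e.hom_inv_id]
      simp
  · intro hI
    have hz : IsZero ((F.rightDerived 1).obj S.X₂) := F.isZero_rightDerived_obj_injective_succ 0 S.X₂
    have : Epi (δ 0) := ex₂.epi_f (hz.eq_of_tgt _ _)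
    exact epi_comp _ _

end K454.ConnAbs
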