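import Groth.Agent.AbSch.K454.AbSh
import Groth.Agent.AbSch.K453.FppfCov
import Mathlib.AlgebraicGeometry.AlgClosed.Basic
import Mathlib.AlgebraicGeometry.Morphisms.QuasiFinite
import Mathlib.AlgebraicGeometry.Morphisms.Etale
import Mathlib.RingTheory.Etale.Field
import Mathlib.RingTheory.Unramified.LocalStructure

/-!
# Homomorphisms from a quasi-compact divisible group scheme to an étale group scheme are trivial
-/

set_option autoImplicit false
universe u
open CategoryTheory CategoryTheory.Limits MonoidalCategory CartesianMonoidalCategory MonObj AlgebraicGeometry Opposite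

namespace K454.DivEt

variable {S : Scheme.{u}}

/-- Over the spectrum of an algebraically closed field every fppf covering sieve is trivial. -/
theorem sieve_eq_top {K : Type u} [Field K] [IsAlgClosed K] (q : Spec (CommRingCat.of K) ⟶ S)
    {R : Sieve (Over.mk q)} (hR : R ∈ QuotSh.J Scheme.fppfPrecoverage S (Over.mk q)) : R (𝟙 (Over.mk q)) := by
  obtain ⟨Y, g, -, hg, -, h2, y, -⟩ := K453.FppfCov.exists_affine hR (IsLocalRing.closedPoint K)
  have h3' : JacobsonSpace ↥(Over.mk q).left := inferInstanceAs (JacobsonSpace ↥(Spec (CommRingCat.of K)))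
  have h3 : JacobsonSpace ↥Y.left := LocallyOfFiniteType.jacobsonSpace g.left
  obtain ⟨z, -, hz⟩ := nonempty_inter_closedPoints (X := ↥Y.left) (Z := Set.univ) ⟨y, trivial⟩
    isClosed_univ.isLocallyClosed
  have h4 : pointOfClosedPoint g.left z hz ≫ g.left = 𝟙 _ := pointOfClosedPoint_comp _ _ _
  let i : Over.mk q ⟶ Y := Over.homMk (pointOfClosedPoint g.left z hz) (by
    have h5 : g.left ≫ q = Y.hom := Over.w g
    rw [← h5, ← Category.assoc, h4]
    exact Category.id_comp _)
  have h6 : i ≫ g = 𝟙 _ := by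
    ext1
    exact h4
  rw [← h6]
  exact R.downward_closed hg i

theorem discrete {k : Type u} [Field k] {U : Scheme.{u}} (φ : U ⟶ Spec (CommRingCat.of k))
    [Etale φ] : DiscreteTopology U := by
  have : LocallyQuasiFinite φ :=
    { quasiFinite_appLE := fun {U} hU {V} hV e => by
        have h := HasRingHomProperty.appLE @AlgebraicGeometry.Etale φ ‹_› ⟨U, hU⟩ ⟨V, hV⟩ e
        algebraize [(φ.appLE U V e).hom]
        change Algebra.QuasiFinite Γ(_, U) Γ(_, V)
        infer_instance }
  have h := φ.isDiscrete_preimage_singleton (default : Spec (CommRingCat.of k))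
  have h2 : φ ⁻¹' {(default : Spec (CommRingCat.of k))} = Set.univ := by
    ext x
    simp [Subsingleton.elim (φ x) default]
  rw [h2] at h
  exact isDiscrete_univ_iff.mp h

variable {P D : Over S} [GrpObj P] [IsCommMonObj P] [GrpObj D]

/-- the image on points with values in an algebraically closed field is finite -/
theorem finite_range [QuasiCompact P.hom] [Etale D.hom] (f : P ⟶ D) {K : Type u} [Field K] [IsAlgClosed K]
    (q : Spec (CommRingCat.of K) ⟶ S) : (Set.range fun x : Over.mk q ⟶ P => x ≫ f).Finite := by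
  let fK : pullback P.hom q ⟶ pullback D.hom q :=
    pullback.lift (pullback.fst _ _ ≫ f.left) (pullback.snd _ _) (by
      rw [Category.assoc, Over.w]
      exact pullback.condition)
  have h1 : CompactSpace ↥(pullback P.hom q) := inferInstance
  have h2 : DiscreteTopology ↥(pullback D.hom q) := discrete (pullback.snd D.hom q)
  have h3 : (Set.range fK).Finite := (isCompact_range fK.continuous).finite_of_discrete
  let s : (Over.mk q ⟶ D) → (Spec (CommRingCat.of K) ⟶ pullback D.hom q) := fun y =>
    pullback.lift y.left (𝟙 _) (by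
      have := Over.w y
      simp only [Over.mk_hom] at this
      rw [this, Category.id_comp])
  have hs : ∀ y, s y ≫ pullback.fst D.hom q = y.left := fun y => pullback.lift_fst _ _ _
  have hs' : ∀ y, s y ≫ pullback.snd D.hom q = 𝟙 _ := fun y => pullback.lift_snd _ _ _
  have hinj : Function.Injective fun y => s y (IsLocalRing.closedPoint K) := by
    intro y y' h
    have h4 := ext_of_apply_closedPoint_eq (pullback.snd D.hom q) (hs' y) (hs' y') h
    ext1
    rw [← hs y, ← hs y', h4]
  refine (h3.preimage hinj.injOn).subset ?_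
  rintro _ ⟨x, rfl⟩
  let t : Spec (CommRingCat.of K) ⟶ pullback P.hom q := pullback.lift x.left (𝟙 _) (by
      have := Over.w x
      simp only [Over.mk_hom] at this
      rw [this, Category.id_comp])
  refine ⟨t (IsLocalRing.closedPoint K), ?_⟩
  have h5 : t ≫ fK = s (x ≫ f) := by
    apply pullback.hom_ext
    · rw [hs, Category.assoc, pullback.lift_fst, ← Category.assoc, pullback.lift_fst]
      rfl
    · rw [hs', Category.assoc, pullback.lift_snd, pullback.lift_snd]
  have h6 : fK (t (IsLocalRing.closedPoint K)) = (t ≫ fK) (IsLocalRing.closedPoint K) := rfl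
  exact h6.trans (by rw [h5])

theorem exists_pow {K : Type u} [Field K] [IsAlgClosed K]
    (hP : ∀ n : ℤ, n ≠ 0 → Epi (n • 𝟙 (CGrpSh.pts Scheme.fppfPrecoverage P)))
    (q : Spec (CommRingCat.of K) ⟶ S) (N : ℕ) (hN : N ≠ 0) (x : Over.mk q ⟶ P) : ∃ y : Over.mk q ⟶ P, y ^ N = x := by
  have := hP N (by exact_mod_cast hN)
  obtain ⟨R, hR, h⟩ := K454.BX.locSurj_of_epi ((N : ℤ) • 𝟙 (CGrpSh.pts Scheme.fppfPrecoverage P)) (Over.mk q)
    (ULift.up (Additive.ofMul x))
  obtain ⟨p', hp'⟩ := h (𝟙 _) (sieve_eq_top q hR)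
  rw [K454.BX.zsmul_app] at hp'
  refine ⟨p'.down.toMul, ?_⟩
  have h1 : (CGrpSh.pts Scheme.fppfPrecoverage P).obj.map (𝟙 (Over.mk q)).op (ULift.up (Additive.ofMul x)) =
      ULift.up (Additive.ofMul x) := by
    rw [op_id, CategoryTheory.Functor.map_id]
    rfl
  rw [h1] at hp'
  have h2 : ((N : ℤ) • p').down = Additive.ofMul x := congrArg ULift.down hp'
  have h3 : ((N : ℤ) • p').down = Additive.ofMul (p'.down.toMul ^ N) := by
    rw [Nat.cast_smul_eq_nsmul]
    rfl
  rw [h3] at h2
  exact Additive.ofMul.injective h2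

/-- on geometric points -/
theorem comp_eq_one [QuasiCompact P.hom] [Etale D.hom]
    (hP : ∀ n : ℤ, n ≠ 0 → Epi (n • 𝟙 (CGrpSh.pts Scheme.fppfPrecoverage P)))
    (f : P ⟶ D) [IsMonHom f] {K : Type u} [Field K] [IsAlgClosed K] (q : Spec (CommRingCat.of K) ⟶ S)
    (x : Over.mk q ⟶ P) : x ≫ f = 1 := by
  let F : (Over.mk q ⟶ P) →* (Over.mk q ⟶ D) :=
    { toFun := fun x => x ≫ f
      map_one' := MonObj.one_comp f
      map_mul' := fun a b => MonObj.mul_comp a b f }
  have hfin : Finite F.range := (finite_range f q).to_subtype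
  obtain ⟨y, hy⟩ := exists_pow hP q (Nat.card F.range) Nat.card_pos.ne' x
  have h1 : (⟨F y, ⟨y, rfl⟩⟩ : F.range) ^ Nat.card F.range = 1 := pow_card_eq_one'
  have h2 : (F y) ^ Nat.card F.range = 1 := congrArg Subtype.val h1
  rw [← map_pow, hy] at h2
  exact h2

theorem exists_geometric_point {X : Scheme.{u}} (p : X) : ∃ (K : Type u) (_ : Field K) (_ : IsAlgClosed K)
    (i : Spec (CommRingCat.of K) ⟶ X), ∀ z, i z = p := by
  let κ := X.residueField p
  let f : κ ⟶ CommRingCat.of (AlgebraicClosure κ) := CommRingCat.ofHom (algebraMap κ (AlgebraicClosure κ))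
  refine ⟨AlgebraicClosure κ, inferInstance, inferInstance, Spec.map f ≫ X.fromSpecResidueField p, fun z => ?_⟩
  have h : (Spec.map f ≫ X.fromSpecResidueField p) z = X.fromSpecResidueField p (Spec.map f z) := rfl
  rw [h]
  exact Scheme.fromSpecResidueField_apply _ _

theorem range_subset [QuasiCompact P.hom] [Etale D.hom]
    (hP : ∀ n : ℤ, n ≠ 0 → Epi (n • 𝟙 (CGrpSh.pts Scheme.fppfPrecoverage P)))
    (f : P ⟶ D) [IsMonHom f] : Set.range f.left ⊆ Set.range η[D].left := by
  rintro _ ⟨p, rfl⟩
  obtain ⟨K, _, _, i, hi⟩ := exists_geometric_point p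
  let x : Over.mk (i ≫ P.hom) ⟶ P := Over.homMk i rfl
  have h1 : x ≫ f = 1 := comp_eq_one hP f (i ≫ P.hom) x
  have h2 : i ≫ f.left = (i ≫ P.hom) ≫ η[D].left := congrArg CommaMorphism.left h1
  obtain ⟨z⟩ : Nonempty ↥(Spec (CommRingCat.of K)) := inferInstance
  refine ⟨(i ≫ P.hom) z, ?_⟩
  have h3 : η[D].left ((i ≫ P.hom) z) = ((i ≫ P.hom) ≫ η[D].left) z := rfl
  have h4 : (i ≫ f.left) z = f.left (i z) := rfl
  rw [h3, ← h2, h4, hi]

/-- A homomorphism from a quasi-compact divisible group scheme to an étale group scheme is trivial. -/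
theorem hom_eq_one [QuasiCompact P.hom] [Etale D.hom]
    (hP : ∀ n : ℤ, n ≠ 0 → Epi (n • 𝟙 (CGrpSh.pts Scheme.fppfPrecoverage P)))
    (f : P ⟶ D) [IsMonHom f] : f = 1 := by
  have hwe : η[D].left ≫ D.hom = 𝟙 S := Over.w η[D]
  have ho : IsOpenImmersion η[D].left := by
    let gr : S ⟶ pullback (η[D].left ≫ D.hom) D.hom := pullback.lift (𝟙 S) η[D].left (by simp)
    have e : gr ≫ pullback.snd (η[D].left ≫ D.hom) D.hom = η[D].left := pullback.lift_snd _ _ _
    have h1 : IsOpenImmersion gr :=
      MorphismProperty.of_isPullback (P := @IsOpenImmersion)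
        (pullback_lift_diagonal_isPullback η[D].left D.hom)
        (inferInstanceAs (IsOpenImmersion (pullback.diagonal D.hom)))
    have : IsOpenImmersion (η[D].left ≫ D.hom) := by
      rw [hwe]; exact inferInstanceAs (IsOpenImmersion (𝟙 S))
    have h2 : IsOpenImmersion (gr ≫ pullback.snd (η[D].left ≫ D.hom) D.hom) := inferInstance
    rwa [e] at h2
  have hr := range_subset hP f
  apply Over.OverMorphism.ext
  have hl : IsOpenImmersion.lift η[D].left f.left hr ≫ η[D].left = f.left := IsOpenImmersion.lift_fac _ _ _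
  have hl2 : IsOpenImmersion.lift η[D].left f.left hr = P.hom := by
    have h3 : f.left ≫ D.hom = P.hom := Over.w f
    have h4 : (IsOpenImmersion.lift η[D].left f.left hr ≫ η[D].left) ≫ D.hom = f.left ≫ D.hom :=
      congrArg (· ≫ D.hom) hl
    rw [Category.assoc, hwe, h3] at h4
    rw [← h4]
    exact (Category.comp_id _).symm
  rw [← hl, hl2, Hom.one_def, Over.comp_left]
  rfl

end K454.DivEt
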