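import Groth.Agent.AbSch.K454.PSplit

/-!
# Descent of trivialisations along `(n, m)` for divisible sheaves
-/

universe u

open CategoryTheory Opposite
open K454.Glue

namespace K454.BX

variable {C : Type (u + 1)} [Category.{u} C] {J : GrothendieckTopology C}
variable {P Q G P' Q' G' P'' Q'' G'' : Sheaf J AddCommGrpCat.{u + 1}}

namespace PSplit

variable {α : P' ⟶ P} {β : Q' ⟶ Q} {B : Biext J P Q G}

theorem dif_zsmul₂ (s : PSplit α β B) (T : C) (p : P'.obj.obj (op T)) (q : Q'.obj.obj (op T)) (n : ℤ)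
    (h : α.hom.app (op T) p = 0) : s.dif T p (n • q) h = n • s.dif T p q h :=
  map_zsmul (AddMonoidHom.mk' (fun q : Q'.obj.obj (op T) => s.dif T p q h) (fun q q' => s.dif_add₂ T p q q' h)) n q

theorem dif_zsmul₁ (s : PSplit α β B) (T : C) (p : P'.obj.obj (op T)) (q : Q'.obj.obj (op T)) (n : ℤ)
    (h : α.hom.app (op T) p = 0) (h' : α.hom.app (op T) (n • p) = 0) : s.dif T (n • p) q h' = n • s.dif T p q h := by
  let K : AddSubgroup (P'.obj.obj (op T)) := (α.hom.app (op T)).hom.ker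
  have := map_zsmul (AddMonoidHom.mk' (fun p : K => s.dif T p.1 q p.2) (fun p p' => s.dif_add₁ T p.1 p'.1 q _ _ _)) n
    (⟨p, h⟩ : K)
  exact this

/-- If `n` kills the kernel of `α` and `Q'` is locally `n`-divisible, the difference map vanishes. -/
theorem dif_eq_zero (s : PSplit α β B) (n : ℤ) (hQ : LocSurj (n • 𝟙 Q'))
    (T : C) (p : P'.obj.obj (op T)) (q : Q'.obj.obj (op T)) (h : α.hom.app (op T) p = 0) (hn : n • p = 0) :
    s.dif T p q h = 0 := by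
  obtain ⟨R, hR, hex⟩ := hQ T q
  refine aext_local G R hR _ _ fun T' f hf => ?_
  obtain ⟨q', hq'⟩ := hex f hf
  have h' : α.hom.app (op T') (P'.obj.map f.op p) = 0 := by
    rw [← nat_apply, h]; exact map_zero _
  rw [s.dif_map f p q h h', ← hq', zsmul_app, s.dif_zsmul₂]
  have hn' : n • P'.obj.map f.op p = 0 :=
    (map_zsmul (P'.obj.map f.op).hom n p).symm.trans ((congrArg _ hn).trans (map_zero _))
  have h'' : α.hom.app (op T') (n • P'.obj.map f.op p) = 0 := by rw [hn']; exact map_zero _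
  have h0 : α.hom.app (op T') (0 : P'.obj.obj (op T')) = 0 := map_zero _
  rw [← s.dif_zsmul₁ T' _ q' n h' h'']
  have h3 : s.dif T' (n • P'.obj.map f.op p) q' h'' = s.dif T' 0 q' h0 := by
    congr 1
  rw [h3, s.dif_zero₁]
  exact (map_zero _).symm

theorem τ_eq_of_zsmul (s : PSplit α β B) (n : ℤ) (hQ : LocSurj (n • 𝟙 Q'))
    (hα : ∀ (T : C) (p : P'.obj.obj (op T)), α.hom.app (op T) p = 0 → n • p = 0)
    (T : C) (p₁ p₂ : P'.obj.obj (op T)) (q : Q'.obj.obj (op T))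
    (h : α.hom.app (op T) p₁ = α.hom.app (op T) p₂) : s.τ T p₁ q = s.τ T p₂ q := by
  apply s.τ_eq_of_ker
  have h0 : α.hom.app (op T) (p₁ - p₂) = 0 := (map_sub _ _ _).trans (sub_eq_zero.2 h)
  rw [← s.act_dif T _ q h0, s.dif_eq_zero n hQ T _ q h0 (hα T _ h0), B.zero_act]

end PSplit

/-- If `P`, `Q` are locally divisible by `n`, `m` and a pull-back of `B` along `(n, m)` is trivial, then `B` is trivial. -/
theorem isTrivial_of_zsmul (B : Biext J P Q G) (n m : ℤ)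
    (hPn : LocSurj (n • 𝟙 P)) (hPm : LocSurj (m • 𝟙 P)) (hQn : LocSurj (n • 𝟙 Q)) (hQm : LocSurj (m • 𝟙 Q))
    (γ : G' ⟶ G) {B' : Biext J P Q G'}
    (φ : Biext.HomOver J (n • 𝟙 P) (m • 𝟙 Q) γ B' B) (hB' : Biext.IsTrivial J B') :
    Biext.IsTrivial J B := by
  obtain ⟨σ⟩ := hB'
  have s : PSplit (n • 𝟙 P) (m • 𝟙 Q) B := ((PSplit.ofSplitting σ).push φ).cast (Category.id_comp _) (Category.id_comp _)
  have hz : ∀ (X : Sheaf J AddCommGrpCat.{u + 1}) (k : ℤ) (T : C) (p : X.obj.obj (op T)),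
      (k • 𝟙 X : X ⟶ X).hom.app (op T) p = 0 → k • p = 0 := fun X k T p h => by rw [← zsmul_app, h]
  obtain ⟨s₁⟩ := (s.cast (α₀ := (n • 𝟙 P) ≫ 𝟙 P) (Category.comp_id _).symm rfl).descend₁ (α₁ := 𝟙 P) hPn
    (fun T p₁ p₂ q h => s.τ_eq_of_zsmul n hQn (hz P n) T p₁ p₂ q h)
  obtain ⟨s₂⟩ := (s₁.cast (β₀ := (m • 𝟙 Q) ≫ 𝟙 Q) rfl (Category.comp_id _).symm).descend₂ (β₁ := 𝟙 Q) hQm
    (fun T p q₁ q₂ h => s₁.swap.τ_eq_of_zsmul m hPm (hz Q m) T q₁ q₂ p h)
  exact ⟨s₂.toSplitting⟩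

end K454.BX
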