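import Groth.Agent.AbSch.K453.ExtShLES

/-!
# `extShMap` is additive in the first variable; multiplication by `n` on `𝓔xtⁱ(F, M)`
-/

set_option autoImplicit false

open CategoryTheory CategoryTheory.Limits Opposite

namespace K454.ExtMapAdd

section Abstract

universe v₁ v₂ u₁ u₂

variable {A : Type u₁} {B : Type u₂} [Category.{v₁} A] [Category.{v₂} B] [Abelian A] [Abelian B]
  [HasInjectiveResolutions A] (F G : A ⥤ B) [F.Additive] [G.Additive]

theorem mapHC_add (α β : F ⟶ G) (K : CochainComplex A ℕ) :
    (NatTrans.mapHomologicalComplex (α + β) (ComplexShape.up ℕ)).app K =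
      (NatTrans.mapHomologicalComplex α (ComplexShape.up ℕ)).app K +
        (NatTrans.mapHomologicalComplex β (ComplexShape.up ℕ)).app K := by
  ext i
  rfl

theorem rightDerived_add_app (α β : F ⟶ G) (n : ℕ) (X : A) :
    (NatTrans.rightDerived (α + β) n).app X =
      (NatTrans.rightDerived α n).app X + (NatTrans.rightDerived β n).app X := by
  have P := injectiveResolution X
  rw [InjectiveResolution.rightDerived_app_eq (α + β) P n, InjectiveResolution.rightDerived_app_eq α P n,
    InjectiveResolution.rightDerived_app_eq β P n, mapHC_add, Functor.map_add, Preadditive.add_comp,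
    Preadditive.comp_add]

end Abstract

section Abstract2

universe v₁ v₂ u₁ u₂

theorem zsmul_app_of_add {A : Type u₁} {B : Type u₂} [Category.{v₁} A] [Category.{v₂} B] [Preadditive A]
    [Preadditive B] {X Y : A} {T T' : B} (F : (X ⟶ Y) → (T ⟶ T'))
    (h : ∀ a b : X ⟶ Y, F (a + b) = F a + F b) (m : ℤ) (x : X ⟶ Y) : F (m • x) = m • F x :=
  map_zsmul (AddMonoidHom.mk' F h) m x

end Abstract2

universe u

open K453.ExtShLES HomSh K453.DerTransfer

variable {C : Type (u + 1)} [Category.{u} C] (J : GrothendieckTopology C)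
  [HasInjectiveResolutions (Sheaf J AddCommGrpCat.{u + 1})]

variable {F F' : Sheaf J AddCommGrpCat.{u + 1}}

theorem extShMap_add_app (α β : F' ⟶ F) (n : ℕ) (M : Sheaf J AddCommGrpCat.{u + 1}) :
    (extShMap J (α + β) n).app M = (extShMap J α n).app M + (extShMap J β n).app M := by
  have h0 : (homShBi J).map (α + β).op = (homShBi J).map α.op + (homShBi J).map β.op := by
    ext G : 2
    exact homShMap_add_left J α β (𝟙 G)
  rw [app_conj _ _ _ _ (extShMap_eq J (α + β) n) M, app_conj _ _ _ _ (extShMap_eq J α n) M,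
    app_conj _ _ _ _ (extShMap_eq J β n) M, h0, rightDerived_add_app, Preadditive.add_comp,
    Preadditive.comp_add]

theorem extShMap_id_app (n : ℕ) (M : Sheaf J AddCommGrpCat.{u + 1}) :
    (extShMap J (𝟙 F) n).app M = 𝟙 _ := by
  rw [app_conj _ _ _ _ (extShMap_eq J (𝟙 F) n) M]
  have h0 : (homShBi J).map (𝟙 F : F ⟶ F).op = 𝟙 _ := (homShBi J).map_id (op F)
  rw [h0, NatTrans.rightDerived_id]
  change (extIso J F n).hom.app M ≫ 𝟙 _ ≫ (extIso J F n).inv.app M = _
  rw [Category.id_comp]
  exact (extIso J F n).hom_inv_id_app M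

/-- multiplication by `m` on `F` induces multiplication by `m` on `𝓔xtⁿ(F, M)` -/
theorem extShMap_zsmul_id_app (m : ℤ) (n : ℕ) (M : Sheaf J AddCommGrpCat.{u + 1}) :
    (extShMap J (m • 𝟙 F) n).app M = m • 𝟙 _ := by
  have h := zsmul_app_of_add (fun α : F ⟶ F => (extShMap J α n).app M) (fun α β => extShMap_add_app J α β n M) m (𝟙 F)
  rw [← extShMap_id_app J n M]
  exact h

end K454.ExtMapAdd
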