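import Groth.Agent.AbSch.K454.ExtMapAdd
import Groth.Agent.AbSch.K454.AbSh

/-!
# `extShMap` is functorial; the kernel of multiplication by `n` on `𝓔xt¹(T, A)`

All statements are about a general short complex: the kernel must never have to compare `(extShMap J α 1).app A`
for two different spellings of `α`.
-/

set_option autoImplicit false

open CategoryTheory CategoryTheory.Limits Opposite

namespace K454.ExtMapAdd

universe u

open K453.ExtShLES HomSh K453.DerTransfer

variable {C : Type (u + 1)} [Category.{u} C] (J : GrothendieckTopology C)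
  [HasInjectiveResolutions (Sheaf J AddCommGrpCat.{u + 1})]

variable {F F' F'' : Sheaf J AddCommGrpCat.{u + 1}}

theorem extShMap_comp_app (α : F' ⟶ F) (β : F'' ⟶ F') (n : ℕ) (M : Sheaf J AddCommGrpCat.{u + 1}) :
    (extShMap J (β ≫ α) n).app M = (extShMap J α n).app M ≫ (extShMap J β n).app M := by
  have h0 : (homShBi J).map (β ≫ α).op = (homShBi J).map α.op ≫ (homShBi J).map β.op := (homShBi J).map_comp _ _
  rw [app_conj _ _ _ _ (extShMap_eq J (β ≫ α) n) M, app_conj _ _ _ _ (extShMap_eq J α n) M,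
    app_conj _ _ _ _ (extShMap_eq J β n) M, h0, NatTrans.rightDerived_comp, NatTrans.comp_app]
  simp only [Category.assoc]
  rw [Iso.inv_hom_id_app_assoc]

end K454.ExtMapAdd

namespace K454.ExtKer

universe u

open K453.ExtShLES HomSh K453.DerTransfer

variable {C : Type (u + 1)} [Category.{u} C]

section Abs

variable {J : GrothendieckTopology C}

theorem zsmul_id_app (E : Sheaf J AddCommGrpCat.{u + 1}) (n : ℤ) (X : C) (x : E.obj.obj (op X)) :
    (n • 𝟙 E : E ⟶ E).hom.app (op X) x = n • x := by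
  let e : (E ⟶ E) →+ (E.obj.obj (op X) →+ E.obj.obj (op X)) :=
    { toFun := fun φ => (φ.hom.app (op X)).hom
      map_zero' := rfl
      map_add' := fun _ _ => rfl }
  have h : e (n • 𝟙 _) = n • e (𝟙 _) := map_zsmul e n _
  have h2 := congrArg (fun z : E.obj.obj (op X) →+ E.obj.obj (op X) => z x) h
  exact h2

theorem mono_of_exact {P Q E : Sheaf J AddCommGrpCat.{u + 1}} (a : P ⟶ Q) (δ : Q ⟶ E) (w : a ≫ δ = 0)
    (h : (ShortComplex.mk a δ w).Exact) (hP : IsZero P) : Mono δ :=
  h.mono_g (hP.eq_of_src _ _)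

theorem kernel_zsmul {Q E E' : Sheaf J AddCommGrpCat.{u + 1}} (δ : Q ⟶ E) [Mono δ] (g : E ⟶ E') (w : δ ≫ g = 0)
    (h : (ShortComplex.mk δ g w).Exact) (n : ℤ) (e : E' ⟶ E) [IsIso e] (hg : e ≫ g = n • 𝟙 E')
    (X : C) (x : E.obj.obj (op X)) :
    n • x = 0 ↔ ∃ y, δ.hom.app (op X) y = x := by
  -- `g e = n` as well
  have hg' : g ≫ e = n • 𝟙 E := by
    rw [← cancel_epi e, ← Category.assoc, hg, Preadditive.zsmul_comp, Preadditive.comp_zsmul, Category.id_comp,
      Category.comp_id]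
  have hx : e.hom.app (op X) (g.hom.app (op X) x) = n • x := by
    have := congrArg (fun z : E ⟶ E => z.hom.app (op X) x) hg'
    exact this.trans (zsmul_id_app _ n X x)
  constructor
  · intro h1
    refine K454.BX.exists_of_exact_of_mono (ShortComplex.mk δ g w) h x ?_
    change g.hom.app (op X) x = 0
    refine (K453.SheafEx.mono_iff_sections e).mp inferInstance X ?_
    rw [hx, h1, map_zero]
  · rintro ⟨y, rfl⟩
    rw [← hx]
    have h2 : g.hom.app (op X) (δ.hom.app (op X) y) = 0 :=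
      ConcreteCategory.congr_hom (congrArg (fun z => z.hom.app (op X)) w) y
    rw [h2, map_zero]

end Abs

section Ext

variable (J : GrothendieckTopology C) [HasInjectiveResolutions (Sheaf J AddCommGrpCat.{u + 1})]

theorem exists_kernel (S : ShortComplex (Sheaf J AddCommGrpCat.{u + 1})) (hS : S.ShortExact)
    (A : Sheaf J AddCommGrpCat.{u + 1}) (h0 : IsZero (homSh J S.X₂ A)) (n : ℤ) (e : S.X₃ ≅ S.X₂)
    (he : S.g ≫ e.hom = n • 𝟙 S.X₂) :
    ∃ δ : homSh J S.X₁ A ⟶ (extSh J S.X₃ 1).obj A, Mono δ ∧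
      ∀ (X : C) (x : ((extSh J S.X₃ 1).obj A).obj.obj (op X)), n • x = 0 ↔ ∃ y, δ.hom.app (op X) y = x := by
  have hm : Mono (δL J A hS) :=
    mono_of_exact _ (δL J A hS) (comp_δL J A hS) (left_exact₃ J A hS) h0
  refine ⟨δL J A hS, hm, fun X x => ?_⟩
  have h1 : (extShMap J e.hom 1).app A ≫ (extShMap J S.g 1).app A = n • 𝟙 _ := by
    rw [← K454.ExtMapAdd.extShMap_comp_app, he]
    exact K454.ExtMapAdd.extShMap_zsmul_id_app J n 1 A
  have h2 : IsIso ((extShMap J e.hom 1).app A) := by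
    refine ⟨(extShMap J e.inv 1).app A, ?_, ?_⟩
    · rw [← K454.ExtMapAdd.extShMap_comp_app, e.inv_hom_id]
      exact K454.ExtMapAdd.extShMap_id_app J 1 A
    · rw [← K454.ExtMapAdd.extShMap_comp_app, e.hom_inv_id]
      exact K454.ExtMapAdd.extShMap_id_app J 1 A
  exact kernel_zsmul (δL J A hS) _ (δL_comp J A hS) (left_exact₁ J A hS) n ((extShMap J e.hom 1).app A) h1 X x

/-- If `0 → N → T → T → 0` (multiplication by `n`) is exact and `𝓗om(T, A) = 0`, then `𝓗om(N, A)` is the kernel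
of multiplication by `n` on `𝓔xt¹(T, A)`. -/
theorem exists_kernel' {N T A : Sheaf J AddCommGrpCat.{u + 1}} (j : N ⟶ T) (n : ℤ) (w : j ≫ (n • 𝟙 T) = 0)
    (h : (ShortComplex.mk j (n • 𝟙 T) w).ShortExact) (h0 : IsZero (homSh J T A)) :
    ∃ δ : homSh J N A ⟶ (extSh J T 1).obj A, Mono δ ∧
      ∀ (X : C) (x : ((extSh J T 1).obj A).obj.obj (op X)), n • x = 0 ↔ ∃ y, δ.hom.app (op X) y = x :=
  exists_kernel J (ShortComplex.mk j (n • 𝟙 T) w) h A h0 n (Iso.refl T) (Category.comp_id _)

end Ext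

end K454.ExtKer
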