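import Mathlib.Algebra.Homology.DerivedCategory.Ext.ExactSequences

/-!
# A short exact sequence with vanishing `Ext¹` splits (abstract form)
-/

universe w v u

open CategoryTheory CategoryTheory.Limits CategoryTheory.Abelian

namespace K454.ExtSplit

variable {A : Type u} [Category.{v} A] [Abelian A] [HasExt.{w} A]

theorem exists_section (S : ShortComplex A) (hS : S.ShortExact) (h : ∀ e : Ext.{w} S.X₃ S.X₁ 1, e = 0) :
    ∃ t : S.X₃ ⟶ S.X₂, t ≫ S.g = 𝟙 _ := by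
  obtain ⟨x, hx⟩ := Ext.covariant_sequence_exact₃ S.X₃ hS (Ext.mk₀ (𝟙 S.X₃)) (n₁ := 1) rfl (h _)
  refine ⟨Ext.homEquiv₀ x, ?_⟩
  have h1 : x = Ext.mk₀ (Ext.homEquiv₀ x) := (Ext.mk₀_homEquiv₀_apply x).symm
  rw [h1, Ext.mk₀_comp_mk₀] at hx
  exact Ext.homEquiv₀.symm.injective hx

end K454.ExtSplit
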