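import Groth.Agent.AbSch.K452.TorsRep
import Groth.Agent.AbSch.K453.FppfCov
import Groth.Agent.AbSch.K454.Calc
import Groth.Agent.AbSch.K454.AbSh
import Groth.Agent.S0346
import Mathlib.AlgebraicGeometry.Gluing

/-!
# A torsion sheaf whose `n`-torsion is étale and separated is étale and separated
-/

set_option autoImplicit false
universe u
open CategoryTheory CategoryTheory.Limits MonoidalCategory CartesianMonoidalCategory MonObj AlgebraicGeometry
open CGrpSh Opposite

namespace K454.Union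

open K452.TorsRep K454.BX K454.Glue

variable {S : Scheme.{u}}

/-- the unit section of an étale group scheme is an open immersion -/
theorem isOpenImmersion_one (D : Over S) [GrpObj D] [Etale D.hom] : IsOpenImmersion η[D].left := by
  have hwe : η[D].left ≫ D.hom = 𝟙 S := Over.w η[D]
  let gr : S ⟶ pullback (η[D].left ≫ D.hom) D.hom := pullback.lift (𝟙 S) η[D].left (by simp)
  have e : gr ≫ pullback.snd (η[D].left ≫ D.hom) D.hom = η[D].left := pullback.lift_snd _ _ _
  have h1 : IsOpenImmersion gr :=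
    MorphismProperty.of_isPullback (P := @IsOpenImmersion)
      (pullback_lift_diagonal_isPullback η[D].left D.hom)
      (inferInstanceAs (IsOpenImmersion (pullback.diagonal D.hom)))
  have : IsOpenImmersion (η[D].left ≫ D.hom) := by
    rw [hwe]; exact inferInstanceAs (IsOpenImmersion (𝟙 S))
  have h2 : IsOpenImmersion (gr ≫ pullback.snd (η[D].left ≫ D.hom) D.hom) := inferInstance
  rwa [e] at h2

theorem injective_map (F : ℕ ⥤ Scheme.{u}) [ho : ∀ {i j : ℕ} (f : i ⟶ j), IsOpenImmersion (F.map f)] {a b : ℕ}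
    (f : a ⟶ b) : Function.Injective (F.map f) := (F.map f).isOpenEmbedding.injective

theorem isLocallyDirected (F : ℕ ⥤ Scheme.{u}) [ho : ∀ {i j : ℕ} (f : i ⟶ j), IsOpenImmersion (F.map f)] :
    (F ⋙ Scheme.forget).IsLocallyDirected := by
  refine ⟨fun {a b c} fa fb xa xb h => ?_⟩
  replace h : F.map fa xa = F.map fb xb := h
  have key : ∀ {a b c : ℕ} (fa : a ⟶ c) (fb : b ⟶ c) (xa : F.obj a) (xb : F.obj b) (h : F.map fa xa = F.map fb xb)
      (hab : a ≤ b), F.map (homOfLE hab) xa = xb := by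
    intro a b c fa fb xa xb h hab
    apply injective_map F fb
    rw [← h, ← Scheme.Hom.comp_apply, ← F.map_comp]
    rfl
  rcases le_total a b with hab | hab
  · refine ⟨a, 𝟙 a, homOfLE hab, xa, ?_, key fa fb xa xb h hab⟩
    change F.map (𝟙 a) xa = xa
    rw [F.map_id]
    rfl
  · refine ⟨b, homOfLE hab, 𝟙 b, xb, key fb fa xb xa h.symm hab, ?_⟩
    change F.map (𝟙 b) xb = xb
    rw [F.map_id]
    rfl

section Chain

variable {E : BigSite.Ab Scheme.fppfPrecoverage S} (H : ℕ → Over S) [∀ k, GrpObj (H k)] [∀ k, IsCommMonObj (H k)]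
  (i : ∀ k, pts Scheme.fppfPrecoverage (H k) ⟶ E) [∀ k, Mono (i k)] (N : ℕ → ℕ)

/-- the universal section -/
noncomputable def ξ (k : ℕ) : E.obj.obj (op (H k)) := (i k).hom.app (op (H k)) (up (𝟙 (H k)))

omit [∀ k, Mono (i k)] in
theorem map_ξ (k : ℕ) {Y : Over S} (f : Y ⟶ H k) : E.obj.map f.op (ξ H i k) = (i k).hom.app (op Y) (up f) := by
  rw [ξ, nat_apply, map_up_id]

theorem inj {k : ℕ} {Y : Over S} {f g : Y ⟶ H k} (h : E.obj.map f.op (ξ H i k) = E.obj.map g.op (ξ H i k)) : f = g := by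
  rw [map_ξ, map_ξ] at h
  exact up_inj (injective_of_mono (i k) Y h)

variable (hN : ∀ k l, k ≤ l → N k ∣ N l)
  (hi : ∀ (k : ℕ) (Y : Over S) (x : E.obj.obj (op Y)), N k • x = 0 ↔ ∃ h, (i k).hom.app (op Y) h = x)

include hi in
omit [∀ k, Mono (i k)] in
theorem exists_of_tors (k : ℕ) {Y : Over S} (x : E.obj.obj (op Y)) (hx : N k • x = 0) :
    ∃ f : Y ⟶ H k, E.obj.map f.op (ξ H i k) = x := by
  obtain ⟨h, hh⟩ := (hi k Y x).1 hx
  exact ⟨h.down.toMul, by rw [map_ξ]; exact hh⟩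

include hi in
omit [∀ k, Mono (i k)] in
theorem tors (k : ℕ) {Y : Over S} (f : Y ⟶ H k) : N k • E.obj.map f.op (ξ H i k) = 0 :=
  (hi k Y _).2 ⟨up f, by rw [map_ξ]⟩

include hN hi in
omit [∀ k, Mono (i k)] in
theorem exists_t (k l : ℕ) (h : k ≤ l) : ∃ t : H k ⟶ H l, E.obj.map t.op (ξ H i l) = ξ H i k := by
  refine exists_of_tors H i N hi l _ ?_
  obtain ⟨m, hm⟩ := hN k l h
  have h1 := tors H i N hi k (𝟙 (H k))
  rw [ares_id] at h1
  rw [hm, mul_comm, mul_smul, h1, smul_zero]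

/-- the transition morphisms -/
noncomputable def t (k l : ℕ) (h : k ≤ l) : H k ⟶ H l := (exists_t H i N hN hi k l h).choose

omit [∀ k, Mono (i k)] in
theorem t_spec (k l : ℕ) (h : k ≤ l) : E.obj.map (t H i N hN hi k l h).op (ξ H i l) = ξ H i k :=
  (exists_t H i N hN hi k l h).choose_spec

theorem mono_t {k l : ℕ} (h : k ≤ l) {Y : Over S} (a b : Y ⟶ H k)
    (hab : a ≫ t H i N hN hi k l h = b ≫ t H i N hN hi k l h) : a = b := by
  apply inj H i
  rw [← t_spec H i N hN hi k l h, ares_res, ares_res, hab]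

omit [∀ k, Mono (i k)] in
theorem map_pow {l : ℕ} (n : ℕ) {Y : Over S} (f : Y ⟶ H l) :
    E.obj.map (f ^ n).op (ξ H i l) = n • E.obj.map f.op (ξ H i l) := by
  rw [map_ξ, map_ξ, ← map_nsmul]
  rfl

theorem isPullback_t (k l : ℕ) (h : k ≤ l) :
    IsPullback (toUnit (H k)) (t H i N hN hi k l h) η[H l] ((𝟙 (H l)) ^ (N k)) := by
  have hcomp : ∀ {Y : Over S} (f : Y ⟶ H l), f ≫ (𝟙 (H l)) ^ (N k) = f ^ (N k) := by
    intro Y f
    rw [MonObj.comp_pow, Category.comp_id]
  have hone : ∀ {Y : Over S} (f : Y ⟶ H l), f ^ (N k) = 1 ↔ N k • E.obj.map f.op (ξ H i l) = 0 := by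
    intro Y f
    rw [← map_pow]
    constructor
    · intro hf
      rw [hf, map_ξ]
      exact map_zero _
    · intro hf
      apply inj H i
      rw [hf, map_ξ]
      exact (map_zero ((i l).hom.app (op Y)).hom).symm
  have hlift : ∀ {Y : Over S} (f : Y ⟶ H l), f ^ (N k) = 1 → ∃ g : Y ⟶ H k, g ≫ t H i N hN hi k l h = f := by
    intro Y f hf
    obtain ⟨g, hg⟩ := exists_of_tors H i N hi k _ ((hone f).1 hf)
    refine ⟨g, inj H i ?_⟩
    rw [← ares_res, t_spec H i N hN hi k l h, hg]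
  have hs : ∀ s : PullbackCone η[H l] ((𝟙 (H l)) ^ (N k)), s.snd ^ (N k) = 1 := by
    intro s
    refine (hcomp s.snd).symm.trans (s.condition.symm.trans ?_)
    rw [toUnit_unique s.fst (toUnit _), ← Hom.one_def]
  refine ⟨⟨?_⟩, ⟨PullbackCone.IsLimit.mk _ (fun s => (hlift s.snd (hs s)).choose) ?_ ?_ ?_⟩⟩
  · rw [hcomp, ← Hom.one_def, eq_comm, hone, t_spec H i N hN hi k l h]
    have h1 := tors H i N hi k (𝟙 (H k))
    rwa [ares_id] at h1
  · intro s
    exact toUnit_unique _ _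
  · intro s
    exact (hlift s.snd (hs s)).choose_spec
  · intro s m _ hm
    apply mono_t H i N hN hi h
    rw [hm]
    exact (hlift s.snd (hs s)).choose_spec.symm

theorem isOpenImmersion_t (hE : ∀ k, Etale (H k).hom) (k l : ℕ) (h : k ≤ l) :
    IsOpenImmersion (t H i N hN hi k l h).left := by
  have := isOpenImmersion_one (H l)
  have h1 := (isPullback_t H i N hN hi k l h).map (Over.forget S)
  exact MorphismProperty.of_isPullback (P := @IsOpenImmersion) h1 this

/-- the diagram -/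
noncomputable def dia : ℕ ⥤ Over S where
  obj := H
  map {k l} f := t H i N hN hi k l f.le
  map_id k := inj H i (by rw [t_spec, ares_id])
  map_comp {k l m} f g := inj H i (by rw [t_spec, ← ares_res, t_spec, t_spec])

variable (hE : ∀ k, Etale (H k).hom)

/-- the diagram of schemes -/
noncomputable abbrev diaS : ℕ ⥤ Scheme.{u} := dia H i N hN hi ⋙ Over.forget S

include hE in
theorem isOpenImmersion_dia {k l : ℕ} (f : k ⟶ l) : IsOpenImmersion ((diaS H i N hN hi).map f) :=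
  isOpenImmersion_t H i N hN hi hE k l f.le

include hE in
/-- the union -/
theorem exists_colim : ∃ (D : Over S) (κ : ∀ k, H k ⟶ D), (∀ k, IsOpenImmersion (κ k).left) ∧
    (∀ k l (h : k ≤ l), t H i N hN hi k l h ≫ κ l = κ k) ∧ (∀ x : D.left, ∃ k, x ∈ Set.range (κ k).left) := by
  have ho : ∀ {k l : ℕ} (f : k ⟶ l), IsOpenImmersion ((diaS H i N hN hi).map f) :=
    fun f => isOpenImmersion_dia H i N hN hi hE f
  have hd := isLocallyDirected (diaS H i N hN hi)
  let c : Cocone (diaS H i N hN hi) :=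
    { pt := S,
      «ι» := { app := fun k => (H k).hom,
               naturality := fun k l f => (Over.w (t H i N hN hi k l f.le)).trans (Category.comp_id _).symm } }
  refine ⟨Over.mk (colimit.desc (diaS H i N hN hi) c), fun k => Over.homMk (colimit.ι (diaS H i N hN hi) k)
    (colimit.ι_desc c k), fun k => ?_, fun k l h => ?_, fun x => ?_⟩
  · change IsOpenImmersion (colimit.ι (diaS H i N hN hi) k)
    infer_instance
  · ext1
    exact colimit.w (diaS H i N hN hi) (homOfLE h)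
  · obtain ⟨k, y, hy⟩ := Scheme.IsLocallyDirected.ι_jointly_surjective (diaS H i N hN hi) x
    exact ⟨k, y, hy⟩

section Colim

variable {D : Over S} (κ : ∀ k, H k ⟶ D) (ho : ∀ k, IsOpenImmersion (κ k).left)
  (hκ : ∀ k l (h : k ≤ l), t H i N hN hi k l h ≫ κ l = κ k) (hsurj : ∀ x : D.left, ∃ k, x ∈ Set.range (κ k).left)

include ho in
omit [∀ k, GrpObj (H k)] [∀ k, IsCommMonObj (H k)] in
theorem mono_κ (k : ℕ) : Mono (κ k) := by
  have := ho k
  have : Mono (κ k).left := inferInstance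
  exact (Over.forget S).mono_of_mono_map this

include ho hκ in
omit [∀ k, Mono (i k)] in
theorem compat_κ {Y : Over S} {k l : ℕ} (a : Y ⟶ H k) (b : Y ⟶ H l) (hab : a ≫ κ k = b ≫ κ l) :
    E.obj.map a.op (ξ H i k) = E.obj.map b.op (ξ H i l) := by
  have := mono_κ H κ ho (max k l)
  have h1 : a ≫ t H i N hN hi k (max k l) (le_max_left _ _) = b ≫ t H i N hN hi l (max k l) (le_max_right _ _) := by
    rw [← cancel_mono (κ (max k l)), Category.assoc, Category.assoc, hκ, hκ, hab]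
  rw [← t_spec H i N hN hi k (max k l) (le_max_left _ _), ← t_spec H i N hN hi l (max k l) (le_max_right _ _),
    ares_res, ares_res, h1]

include ho hκ hsurj in
omit [∀ k, Mono (i k)] in
/-- the universal section over the union -/
theorem exists_univ : ∃ Ξ : E.obj.obj (op D), ∀ k, E.obj.map (κ k).op Ξ = ξ H i k := by
  obtain ⟨Ξ, h⟩ := aglue E (T := D) (fun Y f s => ∃ (k : ℕ) (a : Y ⟶ H k), a ≫ κ k = f ∧ E.obj.map a.op (ξ H i k) = s)
    (by
      rintro Y Y' f f' _ ⟨k, a, rfl, rfl⟩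
      exact ⟨k, f' ≫ a, by rw [Category.assoc], by rw [ares_res]⟩)
    (by
      rintro Y f _ _ ⟨k, a, rfl, rfl⟩ ⟨l, b, hab, rfl⟩
      exact compat_κ H i N hN hi κ ho hκ a b hab.symm)
    (Sieve.ofArrows H κ)
    (K453.FppfCov.mem_J_iff.mpr fun x => by
      obtain ⟨k, hk⟩ := hsurj x
      have := ho k
      exact ⟨H k, κ k, Sieve.ofArrows_mk _ _ k, inferInstance, inferInstance, hk⟩)
    (by
      intro Y f hf
      rw [Sieve.mem_ofArrows_iff] at hf
      obtain ⟨k, a, rfl⟩ := hf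
      exact ⟨_, k, a, rfl, rfl⟩)
  refine ⟨Ξ, fun k => ?_⟩
  obtain ⟨l, a, ha, ha'⟩ := h (κ k) (Sieve.ofArrows_mk _ _ k)
  rw [← ha', compat_κ H i N hN hi κ ho hκ a (𝟙 (H k)) (by rw [ha, Category.id_comp]), ares_id]

omit [∀ k, GrpObj (H k)] [∀ k, IsCommMonObj (H k)] in
/-- a morphism to `D` landing in the range of `κ k` factors -/
theorem exists_factor {k : ℕ} [IsOpenImmersion (κ k).left] {U : Over S} (f : U ⟶ D)
    (h : Set.range f.left ⊆ Set.range (κ k).left) : ∃ a : U ⟶ H k, a ≫ κ k = f := by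
  have h1 := IsOpenImmersion.lift_fac (κ k).left f.left h
  refine ⟨Over.homMk (IsOpenImmersion.lift (κ k).left f.left h) ?_, ?_⟩
  · have h2 : (κ k).left ≫ D.hom = (H k).hom := Over.w (κ k)
    have h3 : f.left ≫ D.hom = U.hom := Over.w f
    rw [← h2, ← Category.assoc, h1, h3]
  · ext1
    exact h1

include ho hκ hsurj in
omit [∀ k, Mono (i k)] in
/-- two morphisms to `D` factor locally through the same `H k` -/
theorem exists_nhd {Y : Over S} (f g : Y ⟶ D) (y : Y.left) :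
    ∃ (U : Over S) (j : U ⟶ Y) (k : ℕ) (a b : U ⟶ H k), IsOpenImmersion j.left ∧ y ∈ Set.range j.left ∧
      j ≫ f = a ≫ κ k ∧ j ≫ g = b ≫ κ k := by
  obtain ⟨k, x, hx⟩ := hsurj (f.left y)
  obtain ⟨l, z, hz⟩ := hsurj (g.left y)
  have := ho (max k l)
  have h1 : ∀ (c : ℕ) (hc : c ≤ max k l) (w : (H c).left), (κ c).left w ∈ Set.range (κ (max k l)).left := by
    intro c hc w
    refine ⟨(t H i N hN hi c _ hc).left w, ?_⟩
    rw [← Scheme.Hom.comp_apply, ← Over.comp_left, hκ]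
  let V := (κ (max k l)).left.opensRange
  let U : Y.left.Opens := f.left ⁻¹ᵁ V ⊓ g.left ⁻¹ᵁ V
  let j : Over.mk (U.ι ≫ Y.hom) ⟶ Y := Over.homMk U.ι
  have hU : y ∈ U := by
    refine ⟨?_, ?_⟩
    · change f.left y ∈ V
      rw [← hx]
      exact h1 k (le_max_left _ _) x
    · change g.left y ∈ V
      rw [← hz]
      exact h1 l (le_max_right _ _) z
  obtain ⟨a, ha⟩ := exists_factor H κ (k := max k l) (j ≫ f) (by
    rintro _ ⟨w, rfl⟩
    exact w.2.1)
  obtain ⟨b, hb⟩ := exists_factor H κ (k := max k l) (j ≫ g) (by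
    rintro _ ⟨w, rfl⟩
    exact w.2.2)
  exact ⟨_, j, max k l, a, b, inferInstanceAs (IsOpenImmersion U.ι), ⟨⟨y, hU⟩, rfl⟩, ha.symm, hb.symm⟩

/-- the presheaf represented by `D` is a sheaf -/
theorem isSheaf_D (D : Over S) : Presieve.IsSheaf (QuotSh.J Scheme.fppfPrecoverage S) (yoneda.obj D) :=
  GrothendieckTopology.Subcanonical.isSheaf_of_isRepresentable _

variable {Ξ : E.obj.obj (op D)} (hΞ : ∀ k, E.obj.map (κ k).op Ξ = ξ H i k)

include ho hκ hsurj hΞ in
theorem inj_Ξ {Y : Over S} (f g : Y ⟶ D) (h : E.obj.map f.op Ξ = E.obj.map g.op Ξ) : f = g := by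
  let R : Sieve Y :=
    { arrows := fun Y' j => j ≫ f = j ≫ g
      downward_closed := fun {Y' Y''} j hj j' => by rw [Category.assoc, Category.assoc, hj] }
  have hR : R ∈ QuotSh.J Scheme.fppfPrecoverage S Y := by
    refine K453.FppfCov.mem_J_iff.mpr fun y => ?_
    obtain ⟨U, j, k, a, b, hj, hy, h1, h2⟩ := exists_nhd H i N hN hi κ ho hκ hsurj f g y
    refine ⟨U, j, ?_, inferInstance, inferInstance, hy⟩
    change j ≫ f = j ≫ g
    rw [h1, h2]
    congr 1
    apply inj H i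
    rw [← hΞ, ares_res, ares_res, ← h1, ← h2, ← ares_res, ← ares_res, h]
  exact ((isSheaf_D D) R hR).isSeparatedFor.ext fun Y' j hj => hj

include ho hκ hsurj hΞ in
theorem surj_Ξ (hloc : ∀ (Y : Over S) (x : E.obj.obj (op Y)), ∃ R ∈ QuotSh.J Scheme.fppfPrecoverage S Y,
      ∀ ⦃Y' : Over S⦄ (f : Y' ⟶ Y), R f → ∃ k : ℕ, N k • E.obj.map f.op x = 0)
    {Y : Over S} (x : E.obj.obj (op Y)) : ∃ f : Y ⟶ D, E.obj.map f.op Ξ = x := by
  obtain ⟨R, hR, h⟩ := hloc Y x
  have hex : ∀ ⦃Y' : Over S⦄ (f : Y' ⟶ Y) (_ : R f), ∃ a : Y' ⟶ D, E.obj.map a.op Ξ = E.obj.map f.op x := by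
    intro Y' f hf
    obtain ⟨k, hk⟩ := h f hf
    obtain ⟨a, ha⟩ := exists_of_tors H i N hi k _ hk
    exact ⟨a ≫ κ k, by rw [← ares_res, hΞ, ha]⟩
  choose a ha using hex
  let fam : Presieve.FamilyOfElements (yoneda.obj D) R.arrows := fun Y' f hf => a f hf
  have hc : fam.Compatible := by
    refine (Presieve.compatible_iff_sieveCompatible fam).2 ?_
    intro Y' Y'' f g hf
    apply inj_Ξ H i N hN hi κ ho hκ hsurj hΞ
    change E.obj.map (a (g ≫ f) _).op Ξ = E.obj.map (g ≫ a f hf).op Ξ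
    rw [ha, ← ares_res E (a f hf) g, ha, ares_res]
  obtain ⟨f, hf, -⟩ := (isSheaf_D D) R hR fam hc
  refine ⟨f, aext_local E R hR _ _ fun Y' g hg => ?_⟩
  have h1 : g ≫ f = a g hg := hf g hg
  rw [ares_res, h1, ha]

end Colim

end Chain

section Props

variable {H : ℕ → Over S} {D : Over S} (κ : ∀ k, H k ⟶ D) (ho : ∀ k, IsOpenImmersion (κ k).left)
  (hsurj : ∀ x : D.left, ∃ k, x ∈ Set.range (κ k).left)

/-- the cover of `D` -/
noncomputable def cov : D.left.OpenCover where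
  I₀ := ULift.{u} ℕ
  X k := (H k.down).left
  f k := (κ k.down).left
  mem₀ := by
    rw [Scheme.presieve₀_mem_precoverage_iff]
    exact ⟨fun x => by
      obtain ⟨k, y, hy⟩ := hsurj x
      exact ⟨⟨k⟩, y, hy⟩, fun k => ho _⟩

include ho hsurj in
theorem etale_D (hE : ∀ k, Etale (H k).hom) : Etale D.hom := by
  have : IsZariskiLocalAtSource (@Etale.{u}) := HasRingHomProperty.instIsZariskiLocalAtSource (P := @Etale.{u})
  rw [IsZariskiLocalAtSource.iff_of_openCover (P := @Etale) (cov κ ho hsurj)]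
  intro k
  have h2 : (κ k.down).left ≫ D.hom = (H k.down).hom := Over.w (κ k.down)
  change Etale ((κ k.down).left ≫ D.hom)
  rw [h2]
  exact hE _

include ho hsurj in
theorem isSeparated_D [GrpObj D] [∀ k, GrpObj (H k)] (hη : ∀ k, η[H k] ≫ κ k = η[D])
    (hE : ∀ k, IsSeparated (H k).hom) : IsSeparated D.hom := by
  rw [(Groth.Agent.S0346.result S D).1, IsZariskiLocalAtTarget.iff_of_openCover (P := @IsClosedImmersion)
    (cov κ ho hsurj)]
  intro k
  have h1 : IsClosedImmersion η[H k.down].left := (Groth.Agent.S0346.result S (H k.down)).1.1 (hE _)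
  have h2 : η[H k.down].left ≫ (κ k.down).left = η[D].left := congrArg CommaMorphism.left (hη _)
  have := ho k.down
  have h3 : IsPullback (𝟙 _) η[H k.down].left η[D].left (κ k.down).left :=
    IsPullback.of_horiz_isIso_mono ⟨by rw [h2, Category.id_comp]⟩
  have h4 : pullback.snd η[D].left (κ k.down).left = h3.isoPullback.inv ≫ η[H k.down].left := by
    rw [Iso.eq_inv_comp, h3.isoPullback_hom_snd]
  change IsClosedImmersion (pullback.snd η[D].left (κ k.down).left)
  rw [h4]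
  infer_instance

end Props

/-- **Union of a chain of torsion subsheaves.** -/
theorem exists_union {E : BigSite.Ab Scheme.fppfPrecoverage S}
    (hloc : ∀ (Y : Over S) (x : E.obj.obj (op Y)), ∃ R ∈ QuotSh.J Scheme.fppfPrecoverage S Y,
      ∀ ⦃Y' : Over S⦄ (f : Y' ⟶ Y), R f → ∃ n : ℕ, 0 < n ∧ n • E.obj.map f.op x = 0)
    (hrep : ∀ n : ℕ, 0 < n → ∃ (H : Over S) (_ : GrpObj H) (_ : IsCommMonObj H) (i : pts Scheme.fppfPrecoverage H ⟶ E),
      Etale H.hom ∧ IsSeparated H.hom ∧ Mono i ∧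
      ∀ (Y : Over S) (x : E.obj.obj (op Y)), n • x = 0 ↔ ∃ h, i.hom.app (op Y) h = x) :
    ∃ (D : Over S) (_ : GrpObj D) (_ : IsCommMonObj D), LocallyOfFinitePresentation D.hom ∧ IsSeparated D.hom ∧
      Etale D.hom ∧ Nonempty (pts Scheme.fppfPrecoverage D ≅ E) := by
  choose H g1 g2 i hE hsep hm hi using fun k : ℕ => hrep k.factorial k.factorial_pos
  have hN : ∀ k l : ℕ, k ≤ l → k.factorial ∣ l.factorial := fun k l h => Nat.factorial_dvd_factorial h
  obtain ⟨D, κ, ho, hκ, hsurj⟩ := exists_colim H i (fun k => k.factorial) hN hi hE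
  obtain ⟨Ξ, hΞ⟩ := exists_univ H i (fun k => k.factorial) hN hi κ ho hκ hsurj
  have hinj := @inj_Ξ S E H g1 g2 i hm (fun k => k.factorial) hN hi D κ ho hκ hsurj Ξ hΞ
  have hsur := @surj_Ξ S E H g1 g2 i hm (fun k => k.factorial) hN hi D κ ho hκ hsurj Ξ hΞ (by
    intro Y x
    obtain ⟨R, hR, h⟩ := hloc Y x
    refine ⟨R, hR, fun Y' f hf => ?_⟩
    obtain ⟨n, hn, hx⟩ := h f hf
    obtain ⟨m, hm⟩ := Nat.dvd_factorial hn le_rfl
    refine ⟨n, ?_⟩
    rw [hm, mul_comm, mul_smul, hx, smul_zero])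
  obtain ⟨d1, d2, e, he⟩ := K731.RepPts.exists_grpObj E D (fun T => Equiv.ofBijective (fun f : T ⟶ D => E.obj.map f.op Ξ)
    ⟨fun f g h => hinj f g h, fun x => hsur x⟩) (fun f x => (ares_res E x f Ξ).symm)
  have hη : ∀ k, η[H k] ≫ κ k = η[D] := by
    intro k
    apply hinj
    have h1 : ∀ (G : Over S) [GrpObj G], η[G] = (1 : 𝟙_ (Over S) ⟶ G) := fun G _ => by
      rw [Hom.one_def, toUnit_unique (toUnit (𝟙_ (Over S))) (𝟙 _), Category.id_comp]
    have h2 : E.obj.map (η[H k]).op (ξ H i k) = 0 := by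
      rw [map_ξ, h1 (H k)]
      exact map_zero ((i k).hom.app (op (𝟙_ (Over S)))).hom
    have h3 : E.obj.map (η[D]).op Ξ = 0 := by
      have h4 := he (𝟙_ (Over S)) η[D]
      refine h4.symm.trans ?_
      rw [h1 D]
      exact map_zero (e.hom.hom.app (op (𝟙_ (Over S)))).hom
    rw [h3, ← ares_res, hΞ, h2]
  have h1 := etale_D κ ho hsurj hE
  exact ⟨D, d1, d2, inferInstance, isSeparated_D κ ho hsurj hη hsep, h1, ⟨e⟩⟩

end K454.Union
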