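import Groth.Agent.AbSch.K454.TorPow
import Groth.Agent.AbSch.K454.Union
import Groth.Agent.AbSch.K454.ExtMapComp
import Groth.Agent.AbSch.K454.AbSh
import Groth.Agent.AbSch.K452.NRep
import Groth.Agent.AbSch.K452.ConnFib
import Groth.Agent.AbSch.K453.ExtSlice
import Groth.Agent.AbSch.K453.ExtLoc
import Groth.Agent.AbSch.K453.FppfCov
import Groth.Agent.AbSch.K453.HomVanish

/-!
# `𝓔xt¹(T, A)` for a torus `T` and an abelian scheme `A` is an étale separated group scheme

Reduction to two inputs: every element of `Ext¹(T, A)` over a quasi-compact base has finite order, and the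
internal Hom from the finite group `T[n]` to `A` is an étale separated group scheme.
-/

set_option autoImplicit false
universe u

open CategoryTheory CategoryTheory.Limits MonoidalCategory CartesianMonoidalCategory MonObj Opposite AlgebraicGeometry

namespace K454.ExtTorsRep

open CGrpSh Groth.Agent K453.ExtShLES K453.SheafEx

variable {S : Scheme.{u}}

section Torsion

variable {K : Precoverage Scheme.{u}} [(QuotSh.J K S).Subcanonical] {T N : Over S} [GrpObj T] [IsCommMonObj T]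
  [GrpObj N] [IsCommMonObj N] (j : N ⟶ T) [IsMonHom j] (n : ℤ) (hN : IsPullback j (toUnit N) (𝟙 T ^ n) η[T])

include hN in
theorem comp_zsmul_eq_zero : ptsMap K j ≫ (n • 𝟙 (pts K T)) = 0 := by
  apply Sheaf.hom_ext
  ext Y x
  obtain ⟨x, rfl⟩ : ∃ y : Y.unop ⟶ N, ULift.up (Additive.ofMul y) = x := ⟨x.down.toMul, rfl⟩
  have h1 := K454.MulEpi.zsmul_apply (K := K) T n Y.unop (x ≫ j)
  refine Eq.trans (b := ULift.up (Additive.ofMul ((x ≫ j) ≫ 𝟙 T ^ n))) h1 ?_
  rw [Category.assoc, hN.w]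
  have h2 : x ≫ toUnit N ≫ η[T] = (1 : Y.unop ⟶ T) := by
    rw [← Category.assoc, toUnit_unique (x ≫ toUnit N) (toUnit _)]
    rfl
  rw [h2]
  rfl

include hN in
theorem mono_torsion : Mono j := by
  have hη : Mono η[T] := ⟨fun a b _ => toUnit_unique a b⟩
  exact MorphismProperty.of_isPullback (P := MorphismProperty.monomorphisms (Over S)) hN.flip hη

include hN in
theorem shortExact_torsion [Epi (n • 𝟙 (pts K T))] :
    (ShortComplex.mk (ptsMap K j) (n • 𝟙 (pts K T)) (comp_zsmul_eq_zero j n hN)).ShortExact := by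
  have hm := mono_torsion j n hN
  refine { exact := exact_of_sections _ fun Y x hx => ?_, mono_f := ?_, epi_g := inferInstance }
  · obtain ⟨x, rfl⟩ : ∃ y : Y ⟶ T, ULift.up (Additive.ofMul y) = x := ⟨x.down.toMul, rfl⟩
    have h1 := (K454.MulEpi.zsmul_apply (K := K) T n Y x).symm.trans hx
    have h2 : x ≫ (𝟙 T ^ n) = 1 := congrArg (fun z : ULift (Additive (Y ⟶ T)) => z.down.toMul) h1
    have h3 : x ≫ (𝟙 T ^ n) = toUnit Y ≫ η[T] := h2
    exact ⟨ULift.up (Additive.ofMul (hN.lift x (toUnit Y) h3)),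
      congrArg (fun z => ULift.up (Additive.ofMul z)) (hN.lift_fst x (toUnit Y) h3)⟩
  · refine (mono_iff_sections _).mpr fun Y x y h => ?_
    obtain ⟨x, rfl⟩ : ∃ z : Y ⟶ N, ULift.up (Additive.ofMul z) = x := ⟨x.down.toMul, rfl⟩
    obtain ⟨y, rfl⟩ : ∃ z : Y ⟶ N, ULift.up (Additive.ofMul z) = y := ⟨y.down.toMul, rfl⟩
    have h1 : x ≫ j = y ≫ j := congrArg (fun z : ULift (Additive (Y ⟶ T)) => z.down.toMul) h
    rw [(cancel_mono j).mp h1]

end Torsion

section Loc

open K453.OverEx K453.ExtLoc in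
attribute [local instance] hasExt hasInjectiveResolutions enoughInjectives

/-- every element of `Ext¹(T, A)` over a quasi-compact base has finite order -/
def FinOrd : Prop := ∀ {S : Scheme.{u}} [CompactSpace S] (T A : Over S)
    [GrpObj T] [IsCommMonObj T] (_ : Red.IsTorus T)
    [GrpObj A] [IsCommMonObj A] [Smooth A.hom] [IsProper A.hom]
    (_ : ∀ s : S, ConnectedSpace ↥(A.hom.fiber s))
    (e : CGrpSh.ExtS Scheme.fppfPrecoverage T A 1), IsOfFinAddOrder e

theorem connected_bc (A : Over S) [GrpObj A] [Smooth A.hom]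
    (hA : ∀ s : S, ConnectedSpace ↥(A.hom.fiber s)) {S' : Scheme.{u}} (g : S' ⟶ S) (s : S') :
    ConnectedSpace ↥((Red.bc g A).hom.fiber s) := by
  have hgc := K452.ConnFib.geometricallyConnected A hA
  have h3 : GeometricallyConnected (Red.bc g A).hom :=
    inferInstanceAs (GeometricallyConnected (pullback.snd A.hom g))
  infer_instance

variable (H : FinOrd.{u}) (T A : Over S) [GrpObj T] [IsCommMonObj T] (hT : Red.IsTorus T)
  [GrpObj A] [IsCommMonObj A] [Smooth A.hom] [IsProper A.hom]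
  (hA : ∀ s : S, ConnectedSpace ↥(A.hom.fiber s))

include H hT hA in
theorem isOfFinAddOrder_ext (Y : Over S) [CompactSpace Y.left]
    (e : Abelian.Ext.{u + 1} ((pts Scheme.fppfPrecoverage T).over Y) ((pts Scheme.fppfPrecoverage A).over Y) 1) :
    IsOfFinAddOrder e := by
  have h1 : Smooth (Red.bc Y.hom A).hom := inferInstanceAs (Smooth (pullback.snd A.hom Y.hom))
  have h2 : IsProper (Red.bc Y.hom A).hom := inferInstanceAs (IsProper (pullback.snd A.hom Y.hom))
  have h3 := H (Red.bc Y.hom T) (Red.bc Y.hom A) (Sga3B.TorusBc.isTorus_bc Y.hom hT) (connected_bc A hA Y.hom)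
    (K453.ExtSlice.toExtS Scheme.fppfPrecoverage Y T A e)
  exact ((K453.ExtSlice.toExtS_injective Scheme.fppfPrecoverage Y T A).isOfFinAddOrder_iff).mp h3

/-- the sieve of the morphisms after which `x` becomes torsion -/
def torsSieve (E : BigSite.Ab Scheme.fppfPrecoverage S) (Y : Over S) (x : E.obj.obj (op Y)) : Sieve Y where
  arrows Y' f := ∃ n : ℕ, 0 < n ∧ n • E.obj.map f.op x = 0
  downward_closed := by
    rintro Y' Y'' f ⟨n, hn, h⟩ g
    refine ⟨n, hn, ?_⟩
    rw [op_comp, E.obj.map_comp]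
    have h2 := (map_nsmul (E.obj.map g.op).hom n (E.obj.map f.op x)).symm.trans (congrArg (E.obj.map g.op).hom h)
    exact h2.trans (map_zero _)

include H hT hA in
theorem torsSieve_mem (Y : Over S) (x : ((HomSh.extSh (QuotSh.J Scheme.fppfPrecoverage S)
    (pts Scheme.fppfPrecoverage T) 1).obj (pts Scheme.fppfPrecoverage A)).obj.obj (op Y)) :
    torsSieve _ Y x ∈ QuotSh.J Scheme.fppfPrecoverage S Y := by
  obtain ⟨R, hR, h⟩ := K453.ExtLoc.exists_locally (QuotSh.J Scheme.fppfPrecoverage S) Y x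
  refine K453.FppfCov.mem_J_iff.mpr fun y => ?_
  obtain ⟨Z, g, hZ, hg, h1, h2, h3⟩ := K453.FppfCov.exists_affine hR y
  refine ⟨Z, g, ?_, h1, h2, h3⟩
  obtain ⟨e, he⟩ := h g hg
  have : CompactSpace Z.left := inferInstance
  obtain ⟨n, hn, hn'⟩ := isOfFinAddOrder_iff_nsmul_eq_zero.mp (isOfFinAddOrder_ext H T A hT hA Z e)
  refine ⟨n, hn, ?_⟩
  have h4 := (map_nsmul (K453.ExtLoc.cls (QuotSh.J Scheme.fppfPrecoverage S)
    (pts Scheme.fppfPrecoverage T) (pts Scheme.fppfPrecoverage A) Z) n e).symm.trans (congrArg _ hn')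
  rw [map_zero] at h4
  exact (congrArg (fun z => n • z) he.symm).trans h4

end Loc

section Main

/-- the internal Hom from the `n`-torsion of a torus to an abelian scheme is an étale separated group scheme -/
def HomRep (S : Scheme.{u}) : Prop := ∀ (T A N : Over S) [GrpObj T] [IsCommMonObj T] (_ : Red.IsTorus T)
    [GrpObj A] [IsCommMonObj A] [Smooth A.hom] [IsProper A.hom] (_ : ∀ s : S, ConnectedSpace ↥(A.hom.fiber s))
    [GrpObj N] [IsCommMonObj N] (n : ℤ) (_ : 0 < n) (j : N ⟶ T) [IsMonHom j]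
    (_ : IsPullback j (toUnit N) (𝟙 T ^ n) η[T]),
    ∃ (H : Over S) (_ : GrpObj H) (_ : IsCommMonObj H), Etale H.hom ∧ IsSeparated H.hom ∧
      Nonempty (CGrpSh.pts Scheme.fppfPrecoverage H ≅ HomSh.homSh (QuotSh.J Scheme.fppfPrecoverage S)
        (CGrpSh.pts Scheme.fppfPrecoverage N) (CGrpSh.pts Scheme.fppfPrecoverage A))

/-- **`𝓔xt¹(T, A)` is an étale separated group scheme** (given the two inputs) -/
theorem result (H : FinOrd.{u}) (HR : HomRep.{u} S) (T A : Over S)
    [GrpObj T] [IsCommMonObj T] (hT : Red.IsTorus T)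
    [GrpObj A] [IsCommMonObj A] [Smooth A.hom] [IsProper A.hom]
    (hA : ∀ s : S, ConnectedSpace ↥(A.hom.fiber s)) :
    ∃ (D : Over S) (_ : GrpObj D) (_ : IsCommMonObj D),
      LocallyOfFinitePresentation D.hom ∧ IsSeparated D.hom ∧ Etale D.hom ∧
      Nonempty ((CGrpSh.pts Scheme.fppfPrecoverage D) ≅ (HomSh.extSh (QuotSh.J Scheme.fppfPrecoverage S) (CGrpSh.pts Scheme.fppfPrecoverage T) 1).obj (CGrpSh.pts Scheme.fppfPrecoverage A)) := by
  refine K454.Union.exists_union (fun Y x => ⟨_, torsSieve_mem H T A hT hA Y x, fun Y' f hf => hf⟩) fun n hn => ?_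
  obtain ⟨N, g1, g2, j, hj, hN⟩ := K452.NRep.exists_torsion T (n : ℤ)
  have hn' : (0 : ℤ) < (n : ℤ) := by exact_mod_cast hn
  obtain ⟨Hs, g3, g4, h1, h2, ⟨io⟩⟩ := HR T A N hT hA (n : ℤ) hn' j hN
  have hepi := K454.TorPow.epi_zsmul hT hn'.ne'
  obtain ⟨δ, hδ, hk⟩ := K454.ExtKer.exists_kernel' (QuotSh.J Scheme.fppfPrecoverage S)
    (ptsMap Scheme.fppfPrecoverage j) (n : ℤ) (comp_zsmul_eq_zero j n hN) (shortExact_torsion j n hN)
    (K453.HomVanish.isZero_homSh_torus_av Scheme.fppfPrecoverage T A hT)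
  refine ⟨Hs, g3, g4, io.hom ≫ δ, h1, h2, mono_comp _ _, fun Y x => ?_⟩
  rw [← natCast_zsmul, hk]
  constructor
  · rintro ⟨y, hy⟩
    refine ⟨io.inv.hom.app (op Y) y, ?_⟩
    have h5 : io.hom.hom.app (op Y) (io.inv.hom.app (op Y) y) = y :=
      ConcreteCategory.congr_hom (congrArg (fun z => z.hom.app (op Y)) io.inv_hom_id) y
    refine Eq.trans ?_ hy
    exact congrArg (δ.hom.app (op Y)) h5
  · rintro ⟨y, hy⟩
    exact ⟨io.hom.hom.app (op Y) y, hy⟩

end Main

end K454.ExtTorsRep
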