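import Groth.Prelude.Def_Biext

/-!
# Gluing lemmas for sheaves of sets and abelian sheaves on a site (local-to-global toolkit for biextensions)
-/

universe w u v

open CategoryTheory Opposite

namespace K454.Glue

section Gen

variable {C : Type u} [Category.{v} C] {J : GrothendieckTopology C}

/-- Two sections which agree locally are equal. -/
theorem ext_local (E : Sheaf J (Type w)) {T : C} (R : Sieve T) (hR : R ∈ J T) (x y : E.obj.obj (op T))
    (h : ∀ ⦃T' : C⦄ (f : T' ⟶ T), R f → E.obj.map f.op x = E.obj.map f.op y) : x = y :=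
  (((isSheaf_iff_isSheaf_of_type _ _).1 E.property) R hR).isSeparatedFor.ext
    (fun _ f hf => h f hf)

/-- Glue sections determined locally and uniquely by a property stable under restriction. -/
theorem glue (E : Sheaf J (Type w)) {T : C}
    (Pr : ∀ ⦃T' : C⦄ (_ : T' ⟶ T), E.obj.obj (op T') → Prop)
    (hres : ∀ ⦃T' T'' : C⦄ (f : T' ⟶ T) (g : T'' ⟶ T') (x : E.obj.obj (op T')), Pr f x → Pr (g ≫ f) (E.obj.map g.op x))
    (huniq : ∀ ⦃T' : C⦄ (f : T' ⟶ T) (x y : E.obj.obj (op T')), Pr f x → Pr f y → x = y)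
    (R : Sieve T) (hR : R ∈ J T) (hex : ∀ ⦃T' : C⦄ (f : T' ⟶ T), R f → ∃ x, Pr f x) :
    ∃ x : E.obj.obj (op T), ∀ ⦃T' : C⦄ (f : T' ⟶ T), R f → Pr f (E.obj.map f.op x) := by
  classical
  choose s hs using hex
  let x : Presieve.FamilyOfElements E.obj R.arrows := fun T' f hf => s f hf
  have hc : x.Compatible := by
    refine (Presieve.compatible_iff_sieveCompatible x).2 ?_
    intro Y Z f g hf
    exact huniq _ _ _ (hs _ _) (hres f g _ (hs f hf))
  obtain ⟨t, ht, -⟩ := ((isSheaf_iff_isSheaf_of_type _ _).1 E.property) R hR x hc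
  exact ⟨t, fun T' f hf => by rw [ht f hf]; exact hs f hf⟩

/-- Version of `glue` where the property is moreover local: it then holds for the glued section. -/
theorem glue' (E : Sheaf J (Type w)) {T : C}
    (Pr : ∀ ⦃T' : C⦄ (_ : T' ⟶ T), E.obj.obj (op T') → Prop)
    (hres : ∀ ⦃T' T'' : C⦄ (f : T' ⟶ T) (g : T'' ⟶ T') (x : E.obj.obj (op T')), Pr f x → Pr (g ≫ f) (E.obj.map g.op x))
    (huniq : ∀ ⦃T' : C⦄ (f : T' ⟶ T) (x y : E.obj.obj (op T')), Pr f x → Pr f y → x = y)
    (hloc : ∀ (x : E.obj.obj (op T)) (R : Sieve T), R ∈ J T →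
      (∀ ⦃T' : C⦄ (f : T' ⟶ T), R f → Pr f (E.obj.map f.op x)) → Pr (𝟙 T) x)
    (R : Sieve T) (hR : R ∈ J T) (hex : ∀ ⦃T' : C⦄ (f : T' ⟶ T), R f → ∃ x, Pr f x) :
    ∃! x : E.obj.obj (op T), Pr (𝟙 T) x := by
  obtain ⟨x, hx⟩ := glue E Pr hres huniq R hR hex
  have h1 : Pr (𝟙 T) x := hloc x R hR hx
  exact ⟨x, h1, fun y hy => huniq _ _ _ hy h1⟩

/-- A presheaf of sets with an injective map to a sheaf whose image is local is a sheaf. -/
theorem isSheaf_of_injective_of_local {F : Cᵒᵖ ⥤ Type w} (F' : Sheaf J (Type w)) (i : F ⟶ F'.obj)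
    (hinj : ∀ T : Cᵒᵖ, Function.Injective (i.app T))
    (hloc : ∀ (T : C) (x : F'.obj.obj (op T)) (R : Sieve T), R ∈ J T →
      (∀ ⦃T' : C⦄ (f : T' ⟶ T), R f → ∃ y, i.app (op T') y = F'.obj.map f.op x) → ∃ y, i.app (op T) y = x) :
    Presheaf.IsSheaf J F := by
  rw [isSheaf_iff_isSheaf_of_type]
  intro T R hR x hx
  have hx' : (Presieve.FamilyOfElements.map x i).Compatible :=
    Presieve.FamilyOfElements.Compatible.map i hx
  obtain ⟨t, ht, -⟩ := ((isSheaf_iff_isSheaf_of_type _ _).1 F'.property) R hR _ hx'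
  obtain ⟨y, hy⟩ := hloc T t R hR (fun T' f hf => ⟨x f hf, (ht f hf).symm⟩)
  refine ⟨y, fun T' f hf => hinj _ ?_, fun z hz => hinj _ ?_⟩
  · have := NatTrans.naturality_apply i f.op y
    rw [this, hy]
    exact ht f hf
  · refine ext_local F' R hR _ _ (fun T' f hf => ?_)
    have h1 := NatTrans.naturality_apply i f.op z
    have h2 := hz f hf
    rw [← h1, h2, hy]
    exact (ht f hf).symm

end Gen

end K454.Glue
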