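import Groth.Agent.SGA3x.K12.HomDS
import Groth.Agent.GmDual.K311.FamRep
import Groth.Agent.Sga3B.TorusEtLoc920
import Groth.Agent.AbSch.K452.LatExt

/-!
# `𝓗om(T₁, T₂)` for tori is represented by a lattice

* `exists_representsHom_idx`: `Hom_{V-gr}(D(M), D(N))` is the constant scheme, with the explicit universal family;
* `exists_lat`: for tori `T₁`, `T₂` over any base the sheaf `𝓗om(T₁, T₂)` is the sheaf of points of an étale-locally
  constant group scheme with values in free abelian groups of finite rank.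
-/

set_option autoImplicit false
universe u
open CategoryTheory MonoidalCategory CartesianMonoidalCategory MonObj AlgebraicGeometry Limits Opposite

namespace K454.LatHom

open TwC K12.ConstPts K12.HomDS
open Groth.Agent.Sga3B Groth.Agent.SGA3x.K5.Clopen

section Const

variable {V : Scheme.{u}} {M N : Type} [AddCommGroup M] [AddCommGroup N]

theorem exists_univ_idx {I : Type u} (E : I ≃ (N →+ M)) : ∃ υ : Red.DS V M ⊗ const V I ⟶ Red.DS V N,
    ∀ (T : Over V) (q : T ⟶ Red.DS V M) (t : T ⟶ const V I) (i : I), (∀ x, idx t x = i) →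
      lift q t ≫ υ = q ≫ Red.DSmap V (E i) := by
  obtain ⟨υ, hυ⟩ := exists_glue (V := V) (T := Red.DS V M ⊗ const V I) (Z := Red.DS V N)
    (idx (snd _ _)) (isOpen_idx _) (fun i => fst _ _ ≫ Red.DSmap V (E i))
  refine ⟨υ, fun T q t i hi => ?_⟩
  rw [hυ T (lift q t) i (fun x => by rw [← idx_comp, lift_snd]; exact hi x), lift_fst_assoc]

/-- **`Hom_{V-gr}(D(M), D(N))` is the constant scheme attached to `Hom(N, M)`**, with the explicit universal family. -/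
theorem exists_representsHom_idx [Module.Finite ℤ N] {I : Type u} (E : I ≃ (N →+ M)) :
    ∃ υ : Red.DS V M ⊗ const V I ⟶ Red.DS V N,
      AutFam.RepresentsHom (Red.DS V M) (Red.DS V N) (const V I) υ ∧
      ∀ (T : Over V) (q : T ⟶ Red.DS V M) (t : T ⟶ const V I) (i : I), (∀ x, idx t x = i) →
        lift q t ≫ υ = q ≫ Red.DSmap V (E i) := by
  obtain ⟨υ, hυ⟩ := exists_univ_idx (V := V) (M := M) (N := N) E
  refine ⟨υ, ⟨?_, fun T χ hχ => ?_⟩, hυ⟩
  · intro X g₁ g₂ t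
    refine hom_ext_opens _ _ fun x => ⟨⟨{x' | idx t x' = idx t x}, isOpen_idx t _⟩, rfl, ?_⟩
    set U : X.left.Opens := ⟨{x' | idx t x' = idx t x}, isOpen_idx t _⟩ with hU
    have h1 : ∀ y, idx (opnι U ≫ t) y = idx t x := by
      intro y
      rw [idx_comp]
      exact y.2
    have h2 : ∀ g : X ⟶ Red.DS V M, opnι U ≫ lift g t ≫ υ = (opnι U ≫ g) ≫ Red.DSmap V (E (idx t x)) := by
      intro g
      rw [← Category.assoc, comp_lift, hυ _ _ _ _ h1]
    have h3 : IsMonHom (Red.DSmap V (E (idx t x))) := isMonHom_DSmap _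
    have h4 := MonObj.mul_comp (opnι U ≫ g₁) (opnι U ≫ g₂) (Red.DSmap V (E (idx t x)))
    rw [comp_mul, h2, h2, h2, comp_mul]
    exact h4
  · choose U hU φ hφ using exists_near_fam hχ
    have hloc : ∀ x y : T.left, y ∈ U x → φ y = φ x := by
      intro x y hy
      let W : T.left.Opens := U x ⊓ U y
      have hyW : y ∈ W := ⟨hy, hU y⟩
      refine eq_of_DSmap (φ y) (φ x) (opn W) ⟨y, hyW⟩ ?_
      intro T' b q
      rw [← hφ y T' q (b ≫ opnι W) (fun z => (b.left z).2.2), ← hφ x T' q (b ≫ opnι W) (fun z => (b.left z).2.1)]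
    obtain ⟨a, ha⟩ := exists_pt (T := T) (fun x => E.symm (φ x)) (by
      intro i
      rw [isOpen_iff_forall_mem_open]
      rintro x rfl
      exact ⟨U x, fun y hy => congrArg E.symm (hloc x y hy), (U x).2, hU x⟩)
    have hcomp : ∀ (b : T ⟶ const V I) (T' : Over V) (q : T' ⟶ Red.DS V M) (t : T' ⟶ T)
        (i : I), (∀ x, idx b (t.left x) = i) →
        lift q t ≫ (Red.DS V M ◁ b) ≫ υ = q ≫ Red.DSmap V (E i) := by
      intro b T' q t i hi
      rw [lift_whiskerLeft_assoc, hυ _ _ _ i (fun x => by rw [idx_comp]; exact hi x)]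
    refine ⟨a, ?_, fun b hb => ?_⟩
    · refine hom_ext_opens _ _ fun z => ?_
      let x : T.left := (snd (Red.DS V M) T).left z
      let W : (Red.DS V M ⊗ T).left.Opens := (snd (Red.DS V M) T).left ⁻¹ᵁ (U x)
      refine ⟨W, hU x, ?_⟩
      have h1 : ∀ y, (opnι W ≫ snd (Red.DS V M) T).left y ∈ U x := fun y => y.2
      have h2 : opnι W = lift (opnι W ≫ fst _ _) (opnι W ≫ snd _ _) := by
        rw [← comp_lift, lift_fst_snd, Category.comp_id]
      rw [h2, hφ x _ _ _ h1, hcomp a _ _ _ (E.symm (φ x))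
        (fun y => by rw [ha]; exact congrArg E.symm (hloc x _ (h1 y))), Equiv.apply_symm_apply]
    · refine idx_ext fun x => ?_
      have h1 : idx b x = idx a x := by
        let W : T.left.Opens := U x ⊓ ⟨{y | idx b y = idx b x}, isOpen_idx b _⟩
        have hxW : x ∈ W := ⟨hU x, rfl⟩
        rw [ha]
        apply E.injective
        rw [Equiv.apply_symm_apply]
        refine eq_of_DSmap _ _ (opn W) ⟨x, hxW⟩ ?_
        intro T' c q
        have h2 := hcomp b T' q (c ≫ opnι W) (idx b x) (fun z => (c.left z).2.2)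
        rw [← h2, hb]
        exact hφ x T' q (c ≫ opnι W) (fun z => (c.left z).2.1)
      exact h1

end Const

section Uniq

variable {S : Scheme.{u}} {G H : Over S} [GrpObj G] [GrpObj H]

/-- two representing objects are isomorphic, compatibly with the universal families. -/
theorem exists_iso_of_representsHom {A A' : Over S} {υ : G ⊗ A ⟶ H} {υ' : G ⊗ A' ⟶ H}
    (h : AutFam.RepresentsHom G H A υ) (h' : AutFam.RepresentsHom G H A' υ') :
    ∃ e : A ≅ A', (G ◁ e.hom) ≫ υ' = υ ∧ (G ◁ e.inv) ≫ υ = υ' := by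
  obtain ⟨a, ha, -⟩ := h'.2 A υ h.1
  obtain ⟨b, hb, -⟩ := h.2 A' υ' h'.1
  have h1 : a ≫ b = 𝟙 A := by
    refine (h.2 A υ h.1).unique ?_ ?_
    · rw [MonoidalCategory.whiskerLeft_comp, Category.assoc, hb, ha]
    · simp
  have h2 : b ≫ a = 𝟙 A' := by
    refine (h'.2 A' υ' h'.1).unique ?_ ?_
    · rw [MonoidalCategory.whiskerLeft_comp, Category.assoc, ha, hb]
    · simp
  exact ⟨⟨a, b, h1, h2⟩, ha, hb⟩

end Uniq

section Bc

variable {S V : Scheme.{u}} (v : V ⟶ S) {G H A : Over S} [GrpObj G] [GrpObj H]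

open BcPts RepDescent

/-- the universal family after base change -/
noncomputable def bcFam (υ : G ⊗ A ⟶ H) : Red.bc v G ⊗ Red.bc v A ⟶ Red.bc v H :=
  toV v ((G ◁ (bcEquiv v (Red.bc v A) A).symm (𝟙 _)) ≫ υ)

omit [GrpObj G] [GrpObj H] in
theorem whisker_bcFam (υ : G ⊗ A ⟶ H) {T : Over V} (a : T ⟶ Red.bc v A) :
    (Red.bc v G ◁ a) ≫ bcFam v υ = toV v ((G ◁ (bcEquiv v T A).symm a) ≫ υ) := by
  rw [bcFam, ← toV_pull, ← Category.assoc, ← MonoidalCategory.whiskerLeft_comp, ← comp_bcEquiv_symm, Category.comp_id]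

theorem representsHom_bcFam {υ : G ⊗ A ⟶ H} (h : AutFam.RepresentsHom G H A υ) :
    AutFam.RepresentsHom (Red.bc v G) (Red.bc v H) (Red.bc v A) (bcFam v υ) := by
  refine ⟨isHomFamily_toV v (IsoFam.isHomFamily_pull h.1 _), fun T φ hφ => ?_⟩
  obtain ⟨a, ha, huniq⟩ := h.2 _ (ofV v φ) (isHomFamily_ofV v hφ)
  refine ⟨bcEquiv v T A a, ?_, fun b hb => ?_⟩
  · dsimp only
    rw [whisker_bcFam, Equiv.symm_apply_apply, ha, toV_ofV]
  · dsimp only at hb
    rw [whisker_bcFam] at hb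
    have h1 := huniq ((bcEquiv v T A).symm b) (by
      dsimp only
      rw [← hb, ofV_toV])
    rw [← h1, Equiv.apply_symm_apply]

omit [GrpObj G] in
theorem toV_mul {T : Over V} (φ ψ : G ⊗ (Over.map v).obj T ⟶ H) : toV v (φ * ψ) = toV v φ * toV v ψ := by
  rw [toV, toV, toV, MonObj.comp_mul, bcEquiv_mul]

variable [GrpObj A]

theorem mul_bcFam {υ : G ⊗ A ⟶ H}
    (hmul : ∀ (T : Over S) (a b : T ⟶ A), (G ◁ (a * b)) ≫ υ = ((G ◁ a) ≫ υ) * ((G ◁ b) ≫ υ))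
    (T : Over V) (a b : T ⟶ Red.bc v A) : (Red.bc v G ◁ (a * b)) ≫ bcFam v υ =
      ((Red.bc v G ◁ a) ≫ bcFam v υ) * ((Red.bc v G ◁ b) ≫ bcFam v υ) := by
  rw [whisker_bcFam, whisker_bcFam, whisker_bcFam, ← toV_mul, ← hmul]
  congr 3
  exact (bcMulEquiv v T A).symm.map_mul a b

end Bc

section Lat

open BcPts

theorem exists_rank (a b : ℕ) : ∃ r : ℕ, Nonempty ((Fin r → ℤ) ≃+ ((Fin b → ℤ) →+ (Fin a → ℤ))) := by
  let e1 : ((Fin b → ℤ) →+ (Fin a → ℤ)) ≃+ ((Fin b → ℤ) →ₗ[ℤ] (Fin a → ℤ)) :=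
    (addMonoidHomLequivInt (A := Fin b → ℤ) (B := Fin a → ℤ) ℤ).toAddEquiv
  have bs := Module.finBasis ℤ ((Fin b → ℤ) →ₗ[ℤ] (Fin a → ℤ))
  exact ⟨_, ⟨bs.equivFun.toAddEquiv.symm.trans e1.symm⟩⟩

theorem DSmap_add {V : Scheme.{u}} {M N : Type} [AddCommGroup M] [AddCommGroup N] (φ ψ : M →+ N) :
    Red.DSmap V (φ + ψ) = Red.DSmap V φ * Red.DSmap V ψ := by
  apply (DSPts.dsEquiv _ M).symm.injective
  change DSPts.dsChar _ = DSPts.dsChar _
  have h1 := DSPts.dsChar_DSmap (S := V) (φ + ψ) (𝟙 (Red.DS V N))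
  have h2 := DSPts.dsChar_DSmap (S := V) φ (𝟙 (Red.DS V N))
  have h3 := DSPts.dsChar_DSmap (S := V) ψ (𝟙 (Red.DS V N))
  rw [Category.id_comp] at h1 h2 h3
  rw [DSPts.dsChar_mul, h1, h2, h3]
  refine MonoidHom.ext fun m => ?_
  exact map_mul (DSPts.dsChar (𝟙 (Red.DS V N))) _ _

/-- the representing object of `Hom(D(M), D(N))`, `M`, `N` lattices, is a constant group. -/
theorem exists_isConstGrp {V : Scheme.{u}} {H₁ H₂ B : Over V} [GrpObj H₁] [GrpObj H₂] [GrpObj B]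
    {M N : Type} [AddCommGroup M] [AddCommGroup N] [Module.Finite ℤ N]
    (e₁ : Grp.mk H₁ ≅ Grp.mk (Red.DS V M)) (e₂ : Grp.mk H₂ ≅ Grp.mk (Red.DS V N)) {υ : H₁ ⊗ B ⟶ H₂}
    (h : AutFam.RepresentsHom H₁ H₂ B υ)
    (hmul : ∀ (T : Over V) (a b : T ⟶ B), (H₁ ◁ (a * b)) ≫ υ = ((H₁ ◁ a) ≫ υ) * ((H₁ ◁ b) ≫ υ))
    {r : ℕ} (Ψ : (Fin r → ℤ) ≃+ (N →+ M)) :
    ∃ e : B ≅ const V (Multiplicative (Fin r → ℤ)), IsConstGrp (Multiplicative (Fin r → ℤ)) B e := by
  let I : Type u := ULift.{u} (Multiplicative (Fin r → ℤ))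
  let E : I ≃ (N →+ M) := Equiv.ulift.trans (Multiplicative.toAdd.trans Ψ.toEquiv)
  obtain ⟨υ₀, h₀, hυ₀⟩ := exists_representsHom_idx (V := V) E
  let eH : H₁ ≅ Red.DS V M := (Grp.forget _).mapIso e₁
  let eG : H₂ ≅ Red.DS V N := (Grp.forget _).mapIso e₂
  have i1 : IsMonHom eH.hom := inferInstanceAs (IsMonHom e₁.hom.hom.hom)
  have i2 : IsMonHom eG.hom := inferInstanceAs (IsMonHom e₂.hom.hom.hom)
  have i3 : IsMonHom eG.inv := inferInstance
  have h₁ := HomFun898.representsHom_of_iso eH eG h₀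
  obtain ⟨e, he, he'⟩ := exists_iso_of_representsHom h h₁
  have key : ∀ m : I, (H₁ ◁ (pt V I m ≫ e.inv)) ≫ υ = (fst H₁ (𝟙_ (Over V)) ≫ eH.hom) ≫ Red.DSmap V (E m) ≫ eG.inv := by
    intro m
    rw [MonoidalCategory.whiskerLeft_comp, Category.assoc, he']
    have h2 : (H₁ ◁ pt V I m) ≫ (eH.hom ▷ const V I) =
        lift (fst H₁ (𝟙_ (Over V)) ≫ eH.hom) (toUnit _ ≫ pt V I m) := by
      ext1
      · simp
      · rw [Category.assoc, whiskerRight_snd, whiskerLeft_snd, lift_snd, toUnit_unique (snd H₁ (𝟙_ (Over V))) (toUnit _)]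
    rw [← Category.assoc, h2, ← Category.assoc, hυ₀ _ _ _ m (fun x => idx_pt m x), Category.assoc]
  have hadd : ∀ m n : I, (pt V I m ≫ e.inv) * (pt V I n ≫ e.inv) = pt V I (m * n) ≫ e.inv := by
    intro m n
    refine (h.2 (𝟙_ (Over V)) ((H₁ ◁ (pt V I (m * n) ≫ e.inv)) ≫ υ) (IsoFam.isHomFamily_pull h.1 _)).unique ?_ rfl
    rw [hmul, key, key, key]
    have h3 : E (m * n) = E m + E n := map_add Ψ _ _
    rw [h3, DSmap_add, MonObj.mul_comp, MonObj.comp_mul]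
  let c := K564.ExtBase.constULift V (Multiplicative (Fin r → ℤ))
  have hc : ∀ m : Multiplicative (Fin r → ℤ), pt V _ m ≫ c.hom = pt V I (ULift.up m) := by
    intro m
    apply Over.OverMorphism.ext
    simp [TwC.pt, c, K564.ExtBase.constULift, TwC.constMap, I]
  refine ⟨e ≪≫ c.symm, fun m n => ?_⟩
  rw [Iso.trans_inv, Iso.symm_inv, ← Category.assoc, ← Category.assoc, ← Category.assoc, hc, hc, hc]
  exact hadd _ _

variable {S : Scheme.{u}}

/-- two tori are simultaneously split étale-locally -/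
theorem exists_split₂ {T₁ T₂ : Over S} [GrpObj T₁] [GrpObj T₂] (h₁ : Red.IsTorus T₁) (h₂ : Red.IsTorus T₂) (s : S) :
    ∃ (V : Scheme.{u}) (v : V ⟶ S) (a b : ℕ), Etale v ∧ s ∈ Set.range v ∧
      Nonempty (Grp.mk (Red.bc v T₁) ≅ Grp.mk (Red.DS V (Fin a → ℤ))) ∧
      Nonempty (Grp.mk (Red.bc v T₂) ≅ Grp.mk (Red.DS V (Fin b → ℤ))) := by
  obtain ⟨B₁, _, f₁, a, hf₁, ⟨x₁, hx₁⟩, hM⟩ := TorusEtLoc920.exists_etale_split T₁ h₁ s
  obtain ⟨B₂, _, f₂, b, hf₂, ⟨x₂, hx₂⟩, hN⟩ := TorusEtLoc920.exists_etale_split T₂ h₂ s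
  obtain ⟨z, hz₁, hz₂⟩ := Scheme.Pullback.exists_preimage_pullback (f := f₁) (g := f₂) x₁ x₂ (hx₁.trans hx₂.symm)
  refine ⟨pullback f₁ f₂, pullback.fst f₁ f₂ ≫ f₁, a, b, inferInstance, ⟨z, ?_⟩, split_bc _ _ hM, ?_⟩
  · rw [Scheme.Hom.comp_apply, hz₁, hx₁]
  · rw [pullback.condition]
    exact split_bc _ _ hN

open K311.Fam K829.Yon in
/-- **`𝓗om(T₁, T₂)` is represented by a lattice.** -/
theorem exists_lat (T₁ T₂ : Over S) [GrpObj T₁] [IsCommMonObj T₁] [GrpObj T₂] [IsCommMonObj T₂]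
    (h₁ : Red.IsTorus T₁) (h₂ : Red.IsTorus T₂) :
    ∃ (X : Over S) (_ : GrpObj X) (_ : IsCommMonObj X), K452.LatExt.IsLat X ∧
      Nonempty (CGrpSh.pts Scheme.fppfPrecoverage X ≅ HomSh.homSh (QuotSh.J Scheme.fppfPrecoverage S)
        (CGrpSh.pts Scheme.fppfPrecoverage T₁) (CGrpSh.pts Scheme.fppfPrecoverage T₂)) := by
  obtain ⟨A, υ, h, -⟩ := exists_representsHom_etale T₁ T₂
    (fun s => by
      obtain ⟨V, v, a, b, hv, hs, ha, hb⟩ := exists_split₂ h₁ h₂ s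
      exact ⟨V, v, hv, hs, _, inferInstance, ha⟩)
    (fun s => by
      obtain ⟨V, v, a, b, hv, hs, ha, hb⟩ := exists_split₂ h₁ h₂ s
      exact ⟨V, v, hv, hs, _, inferInstance, inferInstance, hb⟩)
  obtain ⟨g, g', θ, hθ⟩ := K311.FamRep.exists_grp Scheme.fppfPrecoverage υ h
  have hmul : ∀ (T : Over S) (a b : T ⟶ A), (T₁ ◁ (a * b)) ≫ υ = ((T₁ ◁ a) ≫ υ) * ((T₁ ◁ b) ≫ υ) := by
    intro T a b
    rw [← hθ, ← hθ, ← hθ]
    refine Eq.trans ?_ (fam_add Scheme.fppfPrecoverage _ _)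
    refine congrArg (fun z => fam Scheme.fppfPrecoverage (T := T) z) ?_
    exact map_add (θ.hom.hom.app (op T)).hom (K829.Yon.pt Scheme.fppfPrecoverage a)
      (K829.Yon.pt Scheme.fppfPrecoverage b)
  refine ⟨A, g, g', fun s => ?_, ⟨θ⟩⟩
  obtain ⟨V, v, a, b, hv, hs, ⟨e₁⟩, ⟨e₂⟩⟩ := exists_split₂ h₁ h₂ s
  obtain ⟨r, ⟨Ψ⟩⟩ := exists_rank a b
  obtain ⟨e, he⟩ := exists_isConstGrp e₁ e₂ (representsHom_bcFam v h) (mul_bcFam v hmul) Ψ
  exact ⟨V, v, hv, hs, r, e, he⟩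

end Lat

end K454.LatHom
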