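import Mathlib.Algebra.Polynomial.Laurent
import Mathlib.Algebra.MonoidAlgebra.NoZeroDivisors
import Mathlib.RingTheory.Localization.Ideal
import Mathlib.RingTheory.PrincipalIdealDomain
import Mathlib.Algebra.Polynomial.FieldDivision
import Mathlib.Algebra.Group.UniqueProds.VectorSpace

/-!
# The ring of Laurent polynomials over a field is a principal ideal domain
-/

set_option autoImplicit false

open Polynomial LaurentPolynomial

namespace K454.LaurPID

variable (k : Type*) [Field k]

theorem isPrincipalIdealRing_laurent : IsPrincipalIdealRing k[T;T⁻¹] := by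
  refine ⟨fun I => ?_⟩
  obtain ⟨g, hg⟩ := (IsPrincipalIdealRing.principal (I.under k[X])).principal
  refine ⟨⟨algebraMap k[X] k[T;T⁻¹] g, ?_⟩⟩
  have h1 := IsLocalization.map_under (Submonoid.powers (X : k[X])) k[T;T⁻¹] I
  rw [← h1, hg]
  change Ideal.map _ (Ideal.span {g}) = Ideal.span _
  rw [Ideal.map_span, Set.image_singleton]

instance : IsPrincipalIdealRing (MonoidAlgebra k (Multiplicative ℤ)) := by
  have := isPrincipalIdealRing_laurent k
  exact IsPrincipalIdealRing.of_surjective (AddMonoidAlgebra.toMultiplicative k ℤ : k[T;T⁻¹] →+* _)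
    (AddMonoidAlgebra.toMultiplicative k ℤ).surjective

instance : IsDomain (MonoidAlgebra k (Multiplicative ℤ)) := inferInstance

end K454.LaurPID
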