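import Groth.Agent.AbSch.K454.Descent

/-!
# Pull-back of a biextension along `(α, β)`, and reduction of the structure group to a kernel
-/

universe u

open CategoryTheory Opposite MonoidalCategory
open K454.Glue

namespace K454.BX

variable {C : Type (u + 1)} [Category.{u} C] {J : GrothendieckTopology C}
variable {P Q G P' Q' G' P'' Q'' G'' : Sheaf J AddCommGrpCat.{u + 1}}

section Pull

variable (α : P' ⟶ P) (β : Q' ⟶ Q) (B : Biext J P Q G)

/-- presheaf of triples `(p', q', x)` with `x` above `(α p', β q')` -/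
def pullPre : Cᵒᵖ ⥤ Type (u + 1) where
  obj T := {t : P'.obj.obj T × Q'.obj.obj T × B.E.obj.obj T //
    B.πP T.unop t.2.2 = α.hom.app T t.1 ∧ B.πQ T.unop t.2.2 = β.hom.app T t.2.1}
  map {T T'} f := TypeCat.ofHom fun t =>
    ⟨(P'.obj.map f t.1.1, Q'.obj.map f t.1.2.1, B.E.obj.map f t.1.2.2),
      by
        refine (B.πP_map f.unop t.1.2.2).trans ?_
        rw [t.2.1]
        exact nat_apply α f.unop t.1.1,
      by
        refine (B.πQ_map f.unop t.1.2.2).trans ?_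
        rw [t.2.2]
        exact nat_apply β f.unop t.1.2.1⟩
  map_id T := by
    refine ConcreteCategory.hom_ext _ _ fun t => Subtype.ext (Prod.ext ?_ (Prod.ext ?_ ?_))
    · exact ares_id P' (T := T.unop) t.1.1
    · exact ares_id Q' (T := T.unop) t.1.2.1
    · exact res_id B (T := T.unop) t.1.2.2
  map_comp {T T' T''} f g := by
    refine ConcreteCategory.hom_ext _ _ fun t => Subtype.ext (Prod.ext ?_ (Prod.ext ?_ ?_))
    · exact (ares_res P' f.unop g.unop t.1.1).symm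
    · exact (ares_res Q' f.unop g.unop t.1.2.1).symm
    · exact (res_res B f.unop g.unop t.1.2.2).symm

theorem isSheaf_pullPre : Presheaf.IsSheaf J (pullPre α β B) := by
  rw [isSheaf_iff_isSheaf_of_type]
  intro T R hR x hx
  have c1 : Presieve.FamilyOfElements.Compatible (P := (Biext.uSh J P').obj) (R := R.arrows)
      (fun T' f hf => (x f hf).1.1) := by
    intro Y₁ Y₂ Z g₁ g₂ f₁ f₂ h₁ h₂ e
    exact congrArg (fun t => t.1.1) (hx g₁ g₂ h₁ h₂ e)
  have c2 : Presieve.FamilyOfElements.Compatible (P := (Biext.uSh J Q').obj) (R := R.arrows)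
      (fun T' f hf => (x f hf).1.2.1) := by
    intro Y₁ Y₂ Z g₁ g₂ f₁ f₂ h₁ h₂ e
    exact congrArg (fun t => t.1.2.1) (hx g₁ g₂ h₁ h₂ e)
  have c3 : Presieve.FamilyOfElements.Compatible (P := B.E.obj) (R := R.arrows)
      (fun T' f hf => (x f hf).1.2.2) := by
    intro Y₁ Y₂ Z g₁ g₂ f₁ f₂ h₁ h₂ e
    exact congrArg (fun t => t.1.2.2) (hx g₁ g₂ h₁ h₂ e)
  obtain ⟨p, hp, -⟩ := ((isSheaf_iff_isSheaf_of_type _ _).1 (Biext.uSh J P').property) R hR _ c1
  obtain ⟨q, hq, -⟩ := ((isSheaf_iff_isSheaf_of_type _ _).1 (Biext.uSh J Q').property) R hR _ c2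
  obtain ⟨e, he, -⟩ := ((isSheaf_iff_isSheaf_of_type _ _).1 B.E.property) R hR _ c3
  have hp' : ∀ ⦃T' : C⦄ (f : T' ⟶ T) (hf : R f), P'.obj.map f.op p = (x f hf).1.1 := fun T' f hf => hp f hf
  have hq' : ∀ ⦃T' : C⦄ (f : T' ⟶ T) (hf : R f), Q'.obj.map f.op q = (x f hf).1.2.1 := fun T' f hf => hq f hf
  have he' : ∀ ⦃T' : C⦄ (f : T' ⟶ T) (hf : R f), B.E.obj.map f.op e = (x f hf).1.2.2 := fun T' f hf => he f hf
  refine ⟨⟨(p, q, e), ?_, ?_⟩, fun T' f hf => Subtype.ext (Prod.ext (hp' f hf) (Prod.ext (hq' f hf) (he' f hf))), ?_⟩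
  · refine aext_local P R hR _ _ fun T' f hf => ?_
    refine (B.πP_map f e).symm.trans (Eq.trans ?_ (nat_apply α f p).symm)
    rw [he' f hf, hp' f hf]
    exact (x f hf).2.1
  · refine aext_local Q R hR _ _ fun T' f hf => ?_
    refine (B.πQ_map f e).symm.trans (Eq.trans ?_ (nat_apply β f q).symm)
    rw [he' f hf, hq' f hf]
    exact (x f hf).2.2
  · intro y hy
    refine Subtype.ext (Prod.ext ?_ (Prod.ext ?_ ?_))
    · exact aext_local P' R hR _ _ fun T' f hf => (congrArg (fun t => t.1.1) (hy f hf)).trans (hp' f hf).symm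
    · exact aext_local Q' R hR _ _ fun T' f hf => (congrArg (fun t => t.1.2.1) (hy f hf)).trans (hq' f hf).symm
    · exact ext_local B.E R hR _ _ fun T' f hf => (congrArg (fun t => t.1.2.2) (hy f hf)).trans (he' f hf).symm

/-- The pull-back of `B` along `(α, β)`. -/
noncomputable def pull : Biext J P' Q' G where
  E := ⟨pullPre α β B, isSheaf_pullPre α β B⟩
  πP T t := t.1.1
  πQ T t := t.1.2.1
  πP_map _ _ := rfl
  πQ_map _ _ := rfl
  act T g t := ⟨(t.1.1, t.1.2.1, B.act T g t.1.2.2), (B.πP_act _ _ _).trans t.2.1, (B.πQ_act _ _ _).trans t.2.2⟩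
  act_map f g t := Subtype.ext (Prod.ext rfl (Prod.ext rfl (B.act_map f g t.1.2.2)))
  πP_act _ _ _ := rfl
  πQ_act _ _ _ := rfl
  zero_act T t := Subtype.ext (Prod.ext rfl (Prod.ext rfl (B.zero_act T t.1.2.2)))
  add_act T g g' t := Subtype.ext (Prod.ext rfl (Prod.ext rfl (B.add_act T g g' t.1.2.2)))
  existsUnique_act T x y hP hQ := by
    obtain ⟨g, hg, hu⟩ := B.existsUnique_act T x.1.2.2 y.1.2.2
      (x.2.1.trans ((congrArg _ hP).trans y.2.1.symm)) (x.2.2.trans ((congrArg _ hQ).trans y.2.2.symm))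
    refine ⟨g, Subtype.ext (Prod.ext hP (Prod.ext hQ hg)), fun g' hg' => hu g' ?_⟩
    exact congrArg (fun t => t.1.2.2) hg'
  locallySurjective T p q := by
    obtain ⟨R, hR, hex⟩ := B.locallySurjective T (α.hom.app (op T) p) (β.hom.app (op T) q)
    refine ⟨R, hR, fun T' f hf => ?_⟩
    obtain ⟨x, hx, hx'⟩ := hex f hf
    exact ⟨⟨(P'.obj.map f.op p, Q'.obj.map f.op q, x), hx.trans (nat_apply α f p), hx'.trans (nat_apply β f q)⟩, rfl, rfl⟩
  add₁ T x z h := ⟨(x.1.1 + z.1.1, x.1.2.1, B.add₁ T x.1.2.2 z.1.2.2 (x.2.2.trans ((congrArg _ h).trans z.2.2.symm))),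
    (B.πP_add₁ _ _ _ _).trans ((congrArg₂ (· + ·) x.2.1 z.2.1).trans (map_add _ _ _).symm),
    (B.πQ_add₁ _ _ _ _).trans x.2.2⟩
  πP_add₁ _ _ _ _ := rfl
  πQ_add₁ _ _ _ _ := rfl
  add₁_map f x z h := Subtype.ext (Prod.ext (map_add (P'.obj.map f.op).hom _ _) (Prod.ext rfl (B.add₁_map f _ _ _)))
  add₁_comm T x z h := Subtype.ext (Prod.ext (add_comm _ _) (Prod.ext h (B.add₁_comm T _ _ _)))
  add₁_assoc T x z w _ _ := Subtype.ext (Prod.ext (add_assoc _ _ _) (Prod.ext rfl (B.add₁_assoc T _ _ _ _ _)))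
  add₁_act T g x z _ := Subtype.ext (Prod.ext rfl (Prod.ext rfl (B.add₁_act T g _ _ _)))
  add₂ T x z h := ⟨(x.1.1, x.1.2.1 + z.1.2.1, B.add₂ T x.1.2.2 z.1.2.2 (x.2.1.trans ((congrArg _ h).trans z.2.1.symm))),
    (B.πP_add₂ _ _ _ _).trans x.2.1,
    (B.πQ_add₂ _ _ _ _).trans ((congrArg₂ (· + ·) x.2.2 z.2.2).trans (map_add _ _ _).symm)⟩
  πP_add₂ _ _ _ _ := rfl
  πQ_add₂ _ _ _ _ := rfl
  add₂_map f x z h := Subtype.ext (Prod.ext rfl (Prod.ext (map_add (Q'.obj.map f.op).hom _ _) (B.add₂_map f _ _ _)))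
  add₂_comm T x z h := Subtype.ext (Prod.ext h (Prod.ext (add_comm _ _) (B.add₂_comm T _ _ _)))
  add₂_assoc T x z w _ _ := Subtype.ext (Prod.ext rfl (Prod.ext (add_assoc _ _ _) (B.add₂_assoc T _ _ _ _ _)))
  add₂_act T g x z _ := Subtype.ext (Prod.ext rfl (Prod.ext rfl (B.add₂_act T g _ _ _)))
  compat T x y z t _ _ _ _ := Subtype.ext (Prod.ext rfl (Prod.ext rfl (B.compat T _ _ _ _ _ _ _ _)))

/-- The projection from the pull-back. -/
noncomputable def pullHom : Biext.HomOver J α β (𝟙 G) (pull α β B) B where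
  map T t := t.1.2.2
  map_res _ _ := rfl
  πP_map T t := t.2.1
  πQ_map T t := t.2.2
  map_act _ _ _ := rfl
  map_add₁ _ _ _ _ := rfl
  map_add₂ _ _ _ _ := rfl

/-- a splitting of the pull-back is a partial splitting -/
noncomputable def PSplit.ofPull (s : Biext.Splitting J (pull α β B)) : PSplit α β B :=
  ((PSplit.ofSplitting s).push (pullHom α β B)).cast (Category.id_comp _) (Category.id_comp _)

end Pull

/-- Given a morphism `B → B₁` over `(α, β)` and the identity of `G`, a splitting of `B₁` gives a splitting of `B`. -/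
theorem isTrivial_of_homOver {P₁ Q₁ : Sheaf J AddCommGrpCat.{u + 1}} {α : P ⟶ P₁} {β : Q ⟶ Q₁} {B : Biext J P Q G}
    {B₁ : Biext J P₁ Q₁ G} (φ : Biext.HomOver J α β (𝟙 G) B B₁) (h : Biext.IsTrivial J B₁) : Biext.IsTrivial J B := by
  obtain ⟨s⟩ := h
  have hact : ∀ (T : C) (g : G.obj.obj (op T)) (x : B.E.obj.obj (op T)), φ.map T (B.act T g x) = B₁.act T g (φ.map T x) :=
    fun T g x => φ.map_act T g x
  -- injectivity of `φ` above `P × Q`
  have hinj : ∀ (T : C) (x y : B.E.obj.obj (op T)), B.πP T x = B.πP T y → B.πQ T x = B.πQ T y →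
      φ.map T x = φ.map T y → x = y := by
    intro T x y h1 h2 h3
    obtain ⟨g, rfl⟩ := exists_act h1 h2
    rw [hact] at h3
    rw [act_eq_self h3.symm, B.zero_act]
  have key : ∀ (T : C) (p : P.obj.obj (op T)) (q : Q.obj.obj (op T)),
      ∃! x : B.E.obj.obj (op T), B.πP T x = P.obj.map (𝟙 T).op p ∧ B.πQ T x = Q.obj.map (𝟙 T).op q ∧
        φ.map T x = s.σ T (α.hom.app (op T) (P.obj.map (𝟙 T).op p)) (β.hom.app (op T) (Q.obj.map (𝟙 T).op q)) := by
    intro T p q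
    obtain ⟨R, hR, hex⟩ := B.locallySurjective T p q
    refine glue' B.E (T := T)
      (fun T' f x => B.πP T' x = P.obj.map f.op p ∧ B.πQ T' x = Q.obj.map f.op q ∧
        φ.map T' x = s.σ T' (α.hom.app (op T') (P.obj.map f.op p)) (β.hom.app (op T') (Q.obj.map f.op q)))
      ?_ ?_ ?_ R hR ?_
    · rintro T' T'' f g x ⟨h1, h2, h3⟩
      refine ⟨by rw [B.πP_map, h1, ares_res], by rw [B.πQ_map, h2, ares_res], ?_⟩
      rw [φ.map_res, h3, s.σ_map, nat_apply, nat_apply, ares_res, ares_res]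
    · rintro T' f x y ⟨h1, h2, h3⟩ ⟨h1', h2', h3'⟩
      exact hinj T' x y (h1.trans h1'.symm) (h2.trans h2'.symm) (h3.trans h3'.symm)
    · intro x R hR h
      refine ⟨aext_local P R hR _ _ fun T' f hf => ?_, aext_local Q R hR _ _ fun T' f hf => ?_,
        ext_local B₁.E R hR _ _ fun T' f hf => ?_⟩
      · rw [← B.πP_map, (h f hf).1, ares_res, Category.comp_id]
      · rw [← B.πQ_map, (h f hf).2.1, ares_res, Category.comp_id]
      · rw [← φ.map_res, (h f hf).2.2, s.σ_map, nat_apply, nat_apply, ares_res, ares_res, Category.comp_id]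
    · intro T' f hf
      obtain ⟨x, h1, h2⟩ := hex f hf
      obtain ⟨g, hg⟩ := exists_act (B := B₁) (T := T') (x := φ.map T' x)
        (y := s.σ T' (α.hom.app (op T') (P.obj.map f.op p)) (β.hom.app (op T') (Q.obj.map f.op q)))
        (by rw [φ.πP_map, s.πP_σ, h1]) (by rw [φ.πQ_map, s.πQ_σ, h2])
      exact ⟨B.act T' g x, by rw [B.πP_act, h1], by rw [B.πQ_act, h2], by rw [hact, hg]⟩
  simp only [ares_id] at key
  choose σ hσ hu using key
  have hu' : ∀ (T : C) (x : B.E.obj.obj (op T)),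
      φ.map T x = s.σ T (α.hom.app (op T) (B.πP T x)) (β.hom.app (op T) (B.πQ T x)) → x = σ T (B.πP T x) (B.πQ T x) :=
    fun T x h => hu T _ _ x ⟨rfl, rfl, h⟩
  refine ⟨⟨σ, fun T p q => (hσ T p q).1, fun T p q => (hσ T p q).2.1, ?_, ?_, ?_⟩⟩
  · intro T T' f p q
    refine (hu' T' _ ?_).trans (by rw [B.πP_map, B.πQ_map, (hσ T p q).1, (hσ T p q).2.1])
    rw [φ.map_res, (hσ T p q).2.2, s.σ_map, nat_apply, nat_apply, B.πP_map, B.πQ_map, (hσ T p q).1, (hσ T p q).2.1]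
  · intro T p p' q
    have h := (hσ T p q).2.1.trans (hσ T p' q).2.1.symm
    have e : α.hom.app (op T) (p + p') = α.hom.app (op T) p + α.hom.app (op T) p' := map_add _ _ _
    have h' : B₁.πQ T (φ.map T (σ T p q)) = B₁.πQ T (φ.map T (σ T p' q)) := by rw [φ.πQ_map, φ.πQ_map, h]
    have h2 : σ T (p + p') q = ad₁ B T (σ T p q) (σ T p' q) := by
      refine (hinj T _ _ ?_ ?_ ?_)
      · rw [(hσ T _ q).1, πP_ad₁ h, (hσ T p q).1, (hσ T p' q).1]
      · rw [(hσ T _ q).2.1, πQ_ad₁ h, (hσ T p q).2.1]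
      · rw [(hσ T _ q).2.2, e, s.σ_add₁, ad₁_eq B h, φ.map_add₁, ← ad₁_eq, ← ad₁_eq B₁, (hσ T p q).2.2, (hσ T p' q).2.2]
    rw [h2, ad₁_eq]
  · intro T p q q'
    have h := (hσ T p q).1.trans (hσ T p q').1.symm
    have e : β.hom.app (op T) (q + q') = β.hom.app (op T) q + β.hom.app (op T) q' := map_add _ _ _
    have h2 : σ T p (q + q') = ad₂ B T (σ T p q) (σ T p q') := by
      refine (hinj T _ _ ?_ ?_ ?_)
      · rw [(hσ T p _).1, πP_ad₂ h, (hσ T p q).1]
      · rw [(hσ T p _).2.1, πQ_ad₂ h, (hσ T p q).2.1, (hσ T p q').2.1]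
      · rw [(hσ T p _).2.2, e, s.σ_add₂, ad₂_eq B h, φ.map_add₂, ← ad₂_eq, ← ad₂_eq B₁, (hσ T p q).2.2, (hσ T p q').2.2]
    rw [h2, ad₂_eq]

end K454.BX
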