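import Groth.Agent.AbSch.K454.ClassMap
import Groth.Agent.AbSch.K454.ExtSplit
import Groth.Agent.AbSch.K454.Pull

/-!
# The exact sequence `F(B) ⟶ P ⟶ 𝓔xt¹(Q, G)` and the triviality criterion for biextensions
-/

universe u

open CategoryTheory CategoryTheory.Limits Opposite
open K454.Glue

namespace K454.BX

variable {C : Type (u + 1)} [Category.{u} C] {J : GrothendieckTopology C}
variable {P Q G P' : Sheaf J AddCommGrpCat.{u + 1}}

theorem exists_class [HasInjectiveResolutions (Sheaf J AddCommGrpCat.{u + 1})] (B : Biext J P Q G) :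
    ∃ φ : P ⟶ (HomSh.extSh J Q 1).obj G, ∀ (T : C) (p : P.obj.obj (op T)), φ.hom.app (op T) p = 0 →
      ∃ R ∈ J T, ∀ ⦃T' : C⦄ (f : T' ⟶ T), R f → ∃ x : FSec B T', x.p = P.obj.map f.op p := by
  have := Groth.Agent.Cohder.RDLES.enoughInjectives (C := Sheaf J AddCommGrpCat.{u + 1})
  obtain ⟨I, K, ι, ρ, w₀, hS, hI⟩ : ∃ (I K : Sheaf J AddCommGrpCat.{u + 1}) (ι : G ⟶ I) (ρ : I ⟶ K) (w₀ : ι ≫ ρ = 0),
      (ShortComplex.mk ι ρ w₀).ShortExact ∧ Injective I :=
    ⟨Injective.under G, cokernel (Injective.ι G), Injective.ι G, cokernel.π _, cokernel.condition _,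
      { exact := ShortComplex.exact_cokernel _
        mono_f := inferInstanceAs (Mono (Injective.ι G))
        epi_g := inferInstanceAs (Epi (cokernel.π _)) }, inferInstance⟩
  obtain ⟨δ, w, hex, -⟩ := exists_connecting Q (ShortComplex.mk ι ρ w₀) hS
  have hmono : Mono ι := hS.mono_f
  have hιinj := fun T => injective_of_mono ι T
  have hρι : ∀ (T : C) (g : G.obj.obj (op T)), ρ.hom.app (op T) (ι.hom.app (op T) g) = 0 := by
    intro T g
    have : (ι ≫ ρ).hom.app (op T) g = 0 := by rw [w₀]; rfl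
    exact this
  have hker : ∀ (T : C) (y : I.obj.obj (op T)), ρ.hom.app (op T) y = 0 → ∃ g : G.obj.obj (op T), ι.hom.app (op T) g = y :=
    fun T y hy => exists_of_exact_of_mono (ShortComplex.mk ι ρ w₀) hS.exact y hy
  obtain ⟨r, hr, hact, hadd⟩ := exists_retraction B ι
  obtain ⟨c, hc, hcr, hcadd⟩ := exists_add₂ B K (fun T x => ρ.hom.app (op T) (r T x))
    (fun f x => by rw [nat_apply, hr])
    (fun T g x => by
      rw [hact]
      exact (map_add (ρ.hom.app (op T)).hom _ _).trans (by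
        refine (congrArg (fun t : K.obj.obj (op T) => t + ρ.hom.app (op T) (r T x)) (hρι T g)).trans ?_
        exact zero_add _))
    (fun T x z h => by
      rw [hadd T x z h]
      exact map_add (ρ.hom.app (op T)).hom _ _)
  let cs : ∀ (T : C), P.obj.obj (op T) → (Q.over T ⟶ K.over T) := fun T p =>
    mkOverHom (fun V f q => c V (P.obj.map f.op p) q)
      (fun V V' k f q => by rw [hc, ares_res]) (fun V f q q' => hcadd V _ q q')
  have hcs : ∀ (T : C) (p : P.obj.obj (op T)) (V : C) (f : V ⟶ T) (q : Q.obj.obj (op V)),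
      (cs T p).hom.app (op (Over.mk f)) q = c V (P.obj.map f.op p) q := fun _ _ _ _ _ => rfl
  have hcsmap : ∀ {T T' : C} (g : T' ⟶ T) (p : P.obj.obj (op T)),
      cs T' (P.obj.map g.op p) = (HomSh.homSh J Q K).obj.map g.op (cs T p) := by
    intro T T' g p
    refine overHom_ext fun V f q => ?_
    rw [hcs, homSh_res_apply, hcs, ares_res]
  have hδ0 : ∀ (T : C) (d : Q.over T ⟶ I.over T),
      δ.hom.app (op T) (((HomSh.homShFunctor J Q).map ρ).hom.app (op T) d) = 0 := by
    intro T d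
    have : ((HomSh.homShFunctor J Q).map ρ ≫ δ).hom.app (op T) d = 0 := by
      have w' : (HomSh.homShFunctor J Q).map ρ ≫ δ = 0 := w
      rw [w']; rfl
    exact this
  have hcsadd : ∀ (T : C) (p p' : P.obj.obj (op T)), ∃ d : Q.over T ⟶ I.over T,
      cs T (p + p') = (show Q.over T ⟶ K.over T from ((HomSh.homShFunctor J Q).map ρ).hom.app (op T) d) +
        (cs T p + cs T p') := by
    intro T p p'
    obtain ⟨d, hd⟩ := exists_defect B ι r hr hact hadd T p p'
    refine ⟨d, overHom_ext fun V f q => ?_⟩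
    change (cs T (p + p')).hom.app (op (Over.mk f)) q =
      ((((HomSh.homShFunctor J Q).map ρ).hom.app (op T) d : Q.over T ⟶ K.over T).hom.app (op (Over.mk f)) q : K.obj.obj (op V)) +
        ((cs T p).hom.app (op (Over.mk f)) q + (cs T p').hom.app (op (Over.mk f)) q : K.obj.obj (op V))
    rw [hcs, hcs, hcs, homSh_map_apply]
    obtain ⟨R, hR, hex⟩ := B.locallySurjective V (P.obj.map f.op p) q
    obtain ⟨R', hR', hex'⟩ := B.locallySurjective V (P.obj.map f.op p') q
    refine aext_local K (R ⊓ R') (J.intersection_covering hR hR') _ _ fun W l hl => ?_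
    obtain ⟨x, h1, h2⟩ := hex l hl.1
    obtain ⟨z, h3, h4⟩ := hex' l hl.2
    have hxz := h2.trans h4.symm
    have e1 : K.obj.map l.op (ρ.hom.app (op V) (d.hom.app (op (Over.mk f)) q) +
        (c V (P.obj.map f.op p) q + c V (P.obj.map f.op p') q)) =
        K.obj.map l.op (ρ.hom.app (op V) (d.hom.app (op (Over.mk f)) q)) +
        (K.obj.map l.op (c V (P.obj.map f.op p) q) + K.obj.map l.op (c V (P.obj.map f.op p') q)) :=
      (map_add (K.obj.map l.op).hom _ _).trans (congrArg (fun t => _ + t) (map_add (K.obj.map l.op).hom _ _))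
    have e2 : P.obj.map l.op (P.obj.map f.op (p + p')) = B.πP W x + B.πP W z := by
      rw [h1, h3]
      exact (congrArg _ (map_add (P.obj.map f.op).hom _ _)).trans (map_add (P.obj.map l.op).hom _ _)
    have e3 : c W (B.πP W z) (B.πQ W x) = c W (B.πP W z) (B.πQ W z) := by rw [hxz]
    have e4 : I.obj.map l.op (d.hom.app (op (Over.mk f)) q : I.obj.obj (op V)) =
        r W (ad₁ B W x z) - r W x - r W z := by
      rw [← overHom_map, ← h2]
      exact hd W (l ≫ f) x z (by rw [h1, ares_res]) (by rw [h3, ares_res]) hxz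
    have e5 : ρ.hom.app (op W) (r W (ad₁ B W x z) - r W x - r W z) =
        ρ.hom.app (op W) (r W (ad₁ B W x z)) - ρ.hom.app (op W) (r W x) - ρ.hom.app (op W) (r W z) :=
      (map_sub (ρ.hom.app (op W)).hom _ _).trans (congrArg (fun t => t - _) (map_sub (ρ.hom.app (op W)).hom _ _))
    have e6 : K.obj.map l.op (ρ.hom.app (op V) (d.hom.app (op (Over.mk f)) q)) =
        ρ.hom.app (op W) (r W (ad₁ B W x z) - r W x - r W z) :=
      (nat_apply ρ l _).trans (congrArg _ e4)
    refine Eq.trans ?_ (e1.trans (congrArg (fun t => t + _) e6)).symm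
    rw [hc, hc, hc, e5, e2, ← h1, ← h3, ← h2, e3, hcr, hcr, ← hcr W (ad₁ B W x z), πP_ad₁ hxz,
      πQ_ad₁ hxz]
    abel
  let φ : P ⟶ (HomSh.extSh J Q 1).obj G :=
    ⟨{ app := fun T => AddCommGrpCat.ofHom (AddMonoidHom.mk' (fun p => δ.hom.app T (cs T.unop p)) (fun p p' => by
          obtain ⟨d, hd⟩ := hcsadd T.unop p p'
          have h1 : δ.hom.app T (cs T.unop (p + p')) = δ.hom.app T (((HomSh.homShFunctor J Q).map ρ).hom.app T d) +
              (δ.hom.app T (cs T.unop p) + δ.hom.app T (cs T.unop p')) := by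
            rw [hd]
            exact (map_add (δ.hom.app T).hom _ _).trans (congrArg (fun t => _ + t) (map_add (δ.hom.app T).hom _ _))
          refine h1.trans ?_
          refine (congrArg (fun t => t + _) (hδ0 T.unop d)).trans (zero_add _)))
       naturality := fun T T' g => AddCommGrpCat.ext fun p => by
        change δ.hom.app T' (cs T'.unop (P.obj.map g p)) = ((HomSh.extSh J Q 1).obj G).obj.map g (δ.hom.app T (cs T.unop p))
        have h1 : cs T'.unop (P.obj.map g p) = (HomSh.homSh J Q K).obj.map g (cs T.unop p) := hcsmap g.unop p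
        rw [h1]
        exact NatTrans.naturality_apply δ.hom g _ }⟩
  refine ⟨φ, fun T p hp => ?_⟩
  have hp' : δ.hom.app (op T) (cs T p) = 0 := hp
  obtain ⟨R, hR, h⟩ := locally_of_exact (ShortComplex.mk _ _ w) hex (T := T) (cs T p) hp'
  refine ⟨R, hR, fun T' g hg => ?_⟩
  obtain ⟨d, hd⟩ := h g hg
  have hd' : ((HomSh.homShFunctor J Q).map ρ).hom.app (op T') d = cs T' (P.obj.map g.op p) :=
    hd.trans (hcsmap g p).symm
  let d' : Q.over T' ⟶ I.over T' := d
  have hρd : ∀ (V : C) (f : V ⟶ T') (q : Q.obj.obj (op V)),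
      ρ.hom.app (op V) (d'.hom.app (op (Over.mk f)) q) = c V (P.obj.map f.op (P.obj.map g.op p)) q := by
    intro V f q
    rw [← homSh_map_apply Q ρ T' d' V f q, ← hcs T' (P.obj.map g.op p) V f q, ← hd']
  have key : ∀ (V : C) (f : V ⟶ T') (q : Q.obj.obj (op V)), ∃! x : B.E.obj.obj (op V),
      B.πP V x = P.obj.map (𝟙 V).op (P.obj.map f.op (P.obj.map g.op p)) ∧ B.πQ V x = Q.obj.map (𝟙 V).op q ∧
        r V x = d'.hom.app (op (Over.mk (𝟙 V ≫ f))) (Q.obj.map (𝟙 V).op q) := by
    intro V f q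
    obtain ⟨R, hR, hex⟩ := B.locallySurjective V (P.obj.map f.op (P.obj.map g.op p)) q
    refine glue' B.E (T := V)
      (fun W k x => B.πP W x = P.obj.map k.op (P.obj.map f.op (P.obj.map g.op p)) ∧ B.πQ W x = Q.obj.map k.op q ∧
        r W x = d'.hom.app (op (Over.mk (k ≫ f))) (Q.obj.map k.op q)) ?_ ?_ ?_ R hR ?_
    · rintro W W' k l x ⟨h1, h2, h3⟩
      refine ⟨by rw [B.πP_map, h1, ares_res], by rw [B.πQ_map, h2, ares_res], ?_⟩
      rw [← hr, h3, ← overHom_map, ares_res]
      exact HomSh.app_over_mk_congr J d' (Category.assoc l k f).symm _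
    · rintro W k x y ⟨h1, h2, h3⟩ ⟨h1', h2', h3'⟩
      obtain ⟨t, rfl⟩ := exists_act (B := B) (h1.trans h1'.symm) (h2.trans h2'.symm)
      have h4 : ι.hom.app (op W) t = 0 := by
        have h5 := hact W t x
        rw [h3', ← h3] at h5
        exact right_eq_add.1 h5
      have h6 : t = 0 := hιinj W (h4.trans (map_zero _).symm)
      rw [h6, B.zero_act]
    · intro x R hR h
      refine ⟨aext_local P R hR _ _ fun W k hk => ?_, aext_local Q R hR _ _ fun W k hk => ?_,
        aext_local I R hR _ _ fun W k hk => ?_⟩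
      · rw [← B.πP_map, (h k hk).1, ares_id]
      · rw [← B.πQ_map, (h k hk).2.1, ares_id]
      · rw [hr, (h k hk).2.2, ← overHom_map, ares_id]
        exact HomSh.app_over_mk_congr J d' (by rw [Category.id_comp]) _
    · intro W k hk
      obtain ⟨x, h1, h2⟩ := hex k hk
      obtain ⟨t, ht⟩ := hker W ((show I.obj.obj (op W) from d'.hom.app (op (Over.mk (k ≫ f))) (Q.obj.map k.op q)) - r W x) (by
        refine (map_sub (ρ.hom.app (op W)).hom _ _).trans (sub_eq_zero.2 ?_)
        refine (hρd W (k ≫ f) (Q.obj.map k.op q)).trans ?_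
        rw [← ares_res P f k, ← h1, ← h2]
        exact hcr W x)
      refine ⟨B.act W t x, by rw [B.πP_act, h1], by rw [B.πQ_act, h2], ?_⟩
      rw [hact, ht, sub_add_cancel]
  have key' : ∀ (V : C) (f : V ⟶ T') (q : Q.obj.obj (op V)), ∃ x : B.E.obj.obj (op V),
      (B.πP V x = P.obj.map f.op (P.obj.map g.op p) ∧ B.πQ V x = q ∧ r V x = d'.hom.app (op (Over.mk f)) q) ∧
      ∀ y : B.E.obj.obj (op V), B.πP V y = P.obj.map f.op (P.obj.map g.op p) → B.πQ V y = q →
        r V y = d'.hom.app (op (Over.mk f)) q → y = x := by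
    intro V f q
    obtain ⟨x, ⟨h1, h2, h3⟩, hu⟩ := key V f q
    rw [ares_id] at h1 h2 h3
    have h0 := HomSh.app_over_mk_congr J d' (Category.id_comp f) q
    refine ⟨x, ⟨h1, h2, h3.trans h0⟩, fun y hy1 hy2 hy3 => hu y ⟨?_, ?_, ?_⟩⟩
    · rw [ares_id, hy1]
    · rw [ares_id, hy2]
    · rw [ares_id]; exact hy3.trans h0.symm
  choose s hs hsu using key'
  refine ⟨⟨P.obj.map g.op p, s, fun V f q => (hs V f q).1, fun V f q => (hs V f q).2.1, ?_, ?_⟩, rfl⟩
  · intro V V' k f q
    refine hsu V' (k ≫ f) _ _ ?_ ?_ ?_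
    · rw [B.πP_map, (hs V f q).1, ares_res]
    · rw [B.πQ_map, (hs V f q).2.1]
    · rw [← hr, (hs V f q).2.2, overHom_map]
  · intro V f q q'
    have h := (hs V f q).1.trans (hs V f q').1.symm
    refine (hsu V f _ _ ?_ ?_ ?_).symm
    · rw [πP_ad₂ h, (hs V f q).1]
    · rw [πQ_ad₂ h, (hs V f q).2.1, (hs V f q').2.1]
    · rw [hadd V _ _ h, (hs V f q).2.2, (hs V f q').2.2, overHom_add]
      rfl

end K454.BX
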