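import Groth.Agent.AbSch.K454.Calc
import Mathlib.CategoryTheory.Sites.EpiMono
import Mathlib.CategoryTheory.Abelian.GrothendieckAxioms.Sheaf
import Mathlib.CategoryTheory.ConcreteCategory.EpiMono
import Mathlib.Algebra.Category.Grp.EpiMono
import Mathlib.Algebra.Category.Grp.Abelian
import Mathlib.CategoryTheory.Sites.Abelian

/-!
# Partial splittings of a biextension over morphisms `α : P' ⟶ P`, `β : Q' ⟶ Q`, and their descent
-/

universe u

open CategoryTheory Opposite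
open K454.Glue

namespace K454.BX

variable {C : Type (u + 1)} [Category.{u} C] {J : GrothendieckTopology C}
variable {P Q G P' Q' G' P'' Q'' G'' : Sheaf J AddCommGrpCat.{u + 1}}

/-- Every section of the target is locally the image of a section of the source. -/
def LocSurj (α : P' ⟶ P) : Prop :=
  ∀ (T : C) (p : P.obj.obj (op T)), ∃ R ∈ J T, ∀ ⦃T' : C⦄ (f : T' ⟶ T), R f →
    ∃ p' : P'.obj.obj (op T'), α.hom.app (op T') p' = P.obj.map f.op p

theorem locSurj_of_isLocallySurjective (α : P' ⟶ P) [Sheaf.IsLocallySurjective α] : LocSurj α := by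
  intro T p
  refine ⟨Presheaf.imageSieve α.hom p, Presheaf.imageSieve_mem J α.hom (U := op T) p, fun T' f hf => ?_⟩
  exact hf

theorem locSurj_of_epi [HasSheafify J AddCommGrpCat.{u + 1}] [J.HasSheafCompose (forget AddCommGrpCat.{u + 1})]
    [J.WEqualsLocallyBijective AddCommGrpCat.{u + 1}] (α : P' ⟶ P) [Epi α] : LocSurj α := by
  have : Sheaf.IsLocallySurjective α := (Sheaf.isLocallySurjective_iff_epi' _ α).2 inferInstance
  exact locSurj_of_isLocallySurjective α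

theorem nat_apply (α : P' ⟶ P) {T T' : C} (f : T' ⟶ T) (p : P'.obj.obj (op T)) :
    P.obj.map f.op (α.hom.app (op T) p) = α.hom.app (op T') (P'.obj.map f.op p) :=
  (NatTrans.naturality_apply α.hom f.op p).symm

theorem zsmul_app (n : ℤ) (T : C) (p : P.obj.obj (op T)) : (n • 𝟙 P : P ⟶ P).hom.app (op T) p = n • p := by
  let e : (P ⟶ P) →+ (P.obj.obj (op T) →+ P.obj.obj (op T)) :=
    { toFun := fun φ => (φ.hom.app (op T)).hom
      map_zero' := rfl
      map_add' := fun _ _ => rfl }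
  have h : e (n • 𝟙 P) = n • e (𝟙 P) := map_zsmul e n (𝟙 P)
  exact congrArg (fun k : P.obj.obj (op T) →+ P.obj.obj (op T) => k p) h

/-- A partial splitting of `B` over `(α, β)`: sections `τ(p, q)` of `B` above `(α p, β q)`, natural and biadditive. -/
structure PSplit (α : P' ⟶ P) (β : Q' ⟶ Q) (B : Biext J P Q G) where
  τ : ∀ T : C, P'.obj.obj (op T) → Q'.obj.obj (op T) → B.E.obj.obj (op T)
  πP_τ : ∀ (T : C) (p : P'.obj.obj (op T)) (q : Q'.obj.obj (op T)), B.πP T (τ T p q) = α.hom.app (op T) p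
  πQ_τ : ∀ (T : C) (p : P'.obj.obj (op T)) (q : Q'.obj.obj (op T)), B.πQ T (τ T p q) = β.hom.app (op T) q
  τ_map : ∀ {T T' : C} (f : T' ⟶ T) (p : P'.obj.obj (op T)) (q : Q'.obj.obj (op T)),
    B.E.obj.map f.op (τ T p q) = τ T' (P'.obj.map f.op p) (Q'.obj.map f.op q)
  τ_ad₁ : ∀ (T : C) (p p' : P'.obj.obj (op T)) (q : Q'.obj.obj (op T)),
    τ T (p + p') q = ad₁ B T (τ T p q) (τ T p' q)
  τ_ad₂ : ∀ (T : C) (p : P'.obj.obj (op T)) (q q' : Q'.obj.obj (op T)),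
    τ T p (q + q') = ad₂ B T (τ T p q) (τ T p q')

namespace PSplit

variable {α : P' ⟶ P} {β : Q' ⟶ Q} {B : Biext J P Q G}

/-- exchange of the two variables -/
def swap (s : PSplit α β B) : PSplit β α (BX.swap B) where
  τ T q p := s.τ T p q
  πP_τ T q p := s.πQ_τ T p q
  πQ_τ T q p := s.πP_τ T p q
  τ_map f q p := s.τ_map f p q
  τ_ad₁ T q q' p := s.τ_ad₂ T p q q'
  τ_ad₂ T q p p' := s.τ_ad₁ T p p' q

/-- a splitting is a partial splitting over the identities -/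
def ofSplitting (s : Biext.Splitting J B) : PSplit (𝟙 P) (𝟙 Q) B where
  τ := s.σ
  πP_τ := s.πP_σ
  πQ_τ := s.πQ_σ
  τ_map := s.σ_map
  τ_ad₁ T p p' q := by rw [s.σ_add₁, ad₁_eq]
  τ_ad₂ T p q q' := by rw [s.σ_add₂, ad₂_eq]

/-- a partial splitting over the identities is a splitting -/
def toSplitting (s : PSplit (𝟙 P) (𝟙 Q) B) : Biext.Splitting J B where
  σ := s.τ
  πP_σ := s.πP_τ
  πQ_σ := s.πQ_τ
  σ_map := s.τ_map
  σ_add₁ T p p' q := by rw [s.τ_ad₁, ad₁_eq]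
  σ_add₂ T p q q' := by rw [s.τ_ad₂, ad₂_eq]

/-- restriction along morphisms to the sources -/
def comp (s : PSplit α β B) (α' : P'' ⟶ P') (β' : Q'' ⟶ Q') : PSplit (α' ≫ α) (β' ≫ β) B where
  τ T p q := s.τ T (α'.hom.app (op T) p) (β'.hom.app (op T) q)
  πP_τ T p q := s.πP_τ T _ _
  πQ_τ T p q := s.πQ_τ T _ _
  τ_map f p q := by rw [s.τ_map, nat_apply, nat_apply]
  τ_ad₁ T p p' q := by
    rw [← s.τ_ad₁]
    exact congrArg (fun t => s.τ T t _) (map_add _ _ _)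
  τ_ad₂ T p q q' := by
    rw [← s.τ_ad₂]
    exact congrArg (fun t => s.τ T _ t) (map_add _ _ _)

/-- image under a morphism of biextensions -/
def push {α : P' ⟶ P} {β : Q' ⟶ Q} {B : Biext J P Q G} {P₁ Q₁ G₁ : Sheaf J AddCommGrpCat.{u + 1}}
    {α₁ : P ⟶ P₁} {β₁ : Q ⟶ Q₁} {γ₁ : G ⟶ G₁} {B₁ : Biext J P₁ Q₁ G₁}
    (s : PSplit α β B) (φ : Biext.HomOver J α₁ β₁ γ₁ B B₁) : PSplit (α ≫ α₁) (β ≫ β₁) B₁ where
  τ T p q := φ.map T (s.τ T p q)
  πP_τ T p q := by rw [φ.πP_map, s.πP_τ]; rfl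
  πQ_τ T p q := by rw [φ.πQ_map, s.πQ_τ]; rfl
  τ_map f p q := by rw [← φ.map_res, s.τ_map]
  τ_ad₁ T p p' q := by
    have h : B.πQ T (s.τ T p q) = B.πQ T (s.τ T p' q) := by rw [s.πQ_τ, s.πQ_τ]
    rw [s.τ_ad₁, ad₁_eq B h, φ.map_add₁, ad₁_eq]
  τ_ad₂ T p q q' := by
    have h : B.πP T (s.τ T p q) = B.πP T (s.τ T p q') := by rw [s.πP_τ, s.πP_τ]
    rw [s.τ_ad₂, ad₂_eq B h, φ.map_add₂, ad₂_eq]

/-- transport along equalities of the two morphisms -/
def cast {α₀ : P' ⟶ P} {β₀ : Q' ⟶ Q} (s : PSplit α β B) (hα : α = α₀) (hβ : β = β₀) : PSplit α₀ β₀ B where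
  τ := s.τ
  πP_τ T p q := hα ▸ s.πP_τ T p q
  πQ_τ T p q := hβ ▸ s.πQ_τ T p q
  τ_map := s.τ_map
  τ_ad₁ := s.τ_ad₁
  τ_ad₂ := s.τ_ad₂

/-- Descent of a partial splitting along a locally surjective morphism in the first variable. -/
theorem descend₁ {α : P'' ⟶ P'} {α₁ : P' ⟶ P} (hα : LocSurj α) (s : PSplit (α ≫ α₁) β B)
    (hs : ∀ (T : C) (p₁ p₂ : P''.obj.obj (op T)) (q : Q'.obj.obj (op T)),
      α.hom.app (op T) p₁ = α.hom.app (op T) p₂ → s.τ T p₁ q = s.τ T p₂ q) : Nonempty (PSplit α₁ β B) := by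
  have key : ∀ (T : C) (p : P'.obj.obj (op T)) (q : Q'.obj.obj (op T)),
      ∃ x : B.E.obj.obj (op T), ∀ ⦃T' : C⦄ (f : T' ⟶ T) (p'' : P''.obj.obj (op T')),
        α.hom.app (op T') p'' = P'.obj.map f.op p → B.E.obj.map f.op x = s.τ T' p'' (Q'.obj.map f.op q) := by
    intro T p q
    obtain ⟨R, hR, hex⟩ := hα T p
    obtain ⟨x, hx⟩ := glue B.E (T := T)
      (fun T' f x => ∃ p'' : P''.obj.obj (op T'), α.hom.app (op T') p'' = P'.obj.map f.op p ∧
        x = s.τ T' p'' (Q'.obj.map f.op q))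
      (by
        rintro T' T'' f g x ⟨p'', h1, rfl⟩
        refine ⟨P''.obj.map g.op p'', by rw [← nat_apply, h1, ares_res], ?_⟩
        rw [s.τ_map, ares_res])
      (by
        rintro T' f x y ⟨p₁, h1, rfl⟩ ⟨p₂, h2, rfl⟩
        exact hs _ _ _ _ (h1.trans h2.symm))
      R hR
      (by
        intro T' f hf
        obtain ⟨p'', h⟩ := hex f hf
        exact ⟨_, p'', h, rfl⟩)
    refine ⟨x, fun T' f p'' h => ?_⟩
    refine ext_local B.E (R.pullback f) (J.pullback_stable f hR) _ _ fun T'' g hg => ?_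
    obtain ⟨p₁, h1, h2⟩ := hx (g ≫ f) hg
    rw [res_res, h2, s.τ_map, ares_res]
    refine hs _ _ _ _ ?_
    rw [h1, ← nat_apply, h, ares_res]
  choose x hx using key
  have huniq : ∀ (T : C) (p : P'.obj.obj (op T)) (q : Q'.obj.obj (op T)) (y : B.E.obj.obj (op T)) (R : Sieve T)
      (_ : R ∈ J T) (_ : ∀ ⦃T' : C⦄ (f : T' ⟶ T), R f → ∃ p'' : P''.obj.obj (op T'),
        α.hom.app (op T') p'' = P'.obj.map f.op p ∧ B.E.obj.map f.op y = s.τ T' p'' (Q'.obj.map f.op q)), y = x T p q := by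
    intro T p q y R hR h
    refine ext_local B.E R hR _ _ fun T' f hf => ?_
    obtain ⟨p'', h1, h2⟩ := h f hf
    rw [h2, hx T p q f p'' h1]
  have hQ : ∀ (T : C) (p : P'.obj.obj (op T)) (q : Q'.obj.obj (op T)), B.πQ T (x T p q) = β.hom.app (op T) q := by
    intro T p q
    obtain ⟨R, hR, hex⟩ := hα T p
    refine aext_local Q R hR _ _ fun T' f hf => ?_
    obtain ⟨p'', h⟩ := hex f hf
    rw [← B.πQ_map, hx T p q f p'' h, s.πQ_τ, nat_apply]
  have hP : ∀ (T : C) (p : P'.obj.obj (op T)) (q : Q'.obj.obj (op T)), B.πP T (x T p q) = α₁.hom.app (op T) p := by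
    intro T p q
    obtain ⟨R, hR, hex⟩ := hα T p
    refine aext_local P R hR _ _ fun T' f hf => ?_
    obtain ⟨p'', h⟩ := hex f hf
    rw [← B.πP_map, hx T p q f p'' h, s.πP_τ, nat_apply, ← h]
    rfl
  refine ⟨⟨x, hP, hQ, ?_, ?_, ?_⟩⟩
  · intro T T' f p q
    obtain ⟨R, hR, hex⟩ := hα T' (P'.obj.map f.op p)
    refine huniq _ _ _ _ R hR fun T'' g hg => ?_
    obtain ⟨p'', h⟩ := hex g hg
    refine ⟨p'', h, ?_⟩
    rw [res_res, hx T p q (g ≫ f) p'' (by rw [h, ares_res]), ares_res]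
  · intro T p₁ p₂ q
    obtain ⟨R₁, hR₁, hex₁⟩ := hα T p₁
    obtain ⟨R₂, hR₂, hex₂⟩ := hα T p₂
    refine (huniq _ _ _ _ (R₁ ⊓ R₂) (J.intersection_covering hR₁ hR₂) fun T' f hf => ?_).symm
    obtain ⟨p₁', h1⟩ := hex₁ f hf.1
    obtain ⟨p₂', h2⟩ := hex₂ f hf.2
    refine ⟨p₁' + p₂', ?_, ?_⟩
    · exact (map_add _ _ _).trans ((congrArg₂ (· + ·) h1 h2).trans (map_add _ _ _).symm)
    · rw [ad₁_map f (by rw [hQ, hQ]), hx T p₁ q f p₁' h1, hx T p₂ q f p₂' h2, s.τ_ad₁]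
  · intro T p q₁ q₂
    obtain ⟨R₁, hR₁, hex₁⟩ := hα T p
    refine (huniq _ _ _ _ R₁ hR₁ fun T' f hf => ?_).symm
    obtain ⟨p₁', h1⟩ := hex₁ f hf
    refine ⟨p₁', h1, ?_⟩
    rw [ad₂_map f (by rw [hP, hP]), hx T p q₁ f p₁' h1, hx T p q₂ f p₁' h1, ← s.τ_ad₂]
    exact congrArg (fun t => s.τ T' _ t) (map_add _ _ _).symm

theorem descend₂ {β : Q'' ⟶ Q'} {β₁ : Q' ⟶ Q} {α : P' ⟶ P} (hβ : LocSurj β) (s : PSplit α (β ≫ β₁) B)
    (hs : ∀ (T : C) (p : P'.obj.obj (op T)) (q₁ q₂ : Q''.obj.obj (op T)),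
      β.hom.app (op T) q₁ = β.hom.app (op T) q₂ → s.τ T p q₁ = s.τ T p q₂) : Nonempty (PSplit α β₁ B) := by
  obtain ⟨t⟩ := s.swap.descend₁ hβ (fun T q₁ q₂ p h => hs T p q₁ q₂ h)
  exact ⟨t.swap⟩

/-- Compare two values with the same first coordinate. -/
theorem τ_eq_of_ker (s : PSplit α β B) {T : C} {p₁ p₂ : P'.obj.obj (op T)} {q : Q'.obj.obj (op T)}
    (h : s.τ T (p₁ - p₂) q = e₁ B T (β.hom.app (op T) q)) : s.τ T p₁ q = s.τ T p₂ q := by
  have h1 : s.τ T p₁ q = s.τ T (p₂ + (p₁ - p₂)) q := by rw [add_sub_cancel]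
  rw [h1, s.τ_ad₁, h, ad₁_e₁_right (s.πQ_τ _ _ _)]

/-- the difference of `τ(p, q)` with the unit section, for `p` in the kernel of `α` -/
theorem exists_dif (s : PSplit α β B) (T : C) (p : P'.obj.obj (op T)) (q : Q'.obj.obj (op T))
    (h : α.hom.app (op T) p = 0) : ∃ g : G.obj.obj (op T), B.act T g (e₁ B T (β.hom.app (op T) q)) = s.τ T p q :=
  exists_act (by rw [πP_e₁, s.πP_τ, h]) (by rw [πQ_e₁, s.πQ_τ])

/-- the biadditive map `ker α × Q' → G` measuring the difference of a partial splitting with the unit section -/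
noncomputable def dif (s : PSplit α β B) (T : C) (p : P'.obj.obj (op T)) (q : Q'.obj.obj (op T))
    (h : α.hom.app (op T) p = 0) : G.obj.obj (op T) := (s.exists_dif T p q h).choose

theorem act_dif (s : PSplit α β B) (T : C) (p : P'.obj.obj (op T)) (q : Q'.obj.obj (op T))
    (h : α.hom.app (op T) p = 0) : B.act T (s.dif T p q h) (e₁ B T (β.hom.app (op T) q)) = s.τ T p q :=
  (s.exists_dif T p q h).choose_spec

theorem dif_add₁ (s : PSplit α β B) (T : C) (p p' : P'.obj.obj (op T)) (q : Q'.obj.obj (op T))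
    (h : α.hom.app (op T) p = 0) (h' : α.hom.app (op T) p' = 0) (h'' : α.hom.app (op T) (p + p') = 0) :
    s.dif T (p + p') q h'' = s.dif T p q h + s.dif T p' q h' := by
  refine act_inj (B := B) (x := e₁ B T (β.hom.app (op T) q)) ?_
  rw [s.act_dif, s.τ_ad₁, ← s.act_dif T p q h, ← s.act_dif T p' q h',
    ad₁_act _ (by rw [B.πQ_act]), ad₁_act' _ rfl, ad₁_e₁_self, B.add_act]

theorem dif_zero₁ (s : PSplit α β B) (T : C) (q : Q'.obj.obj (op T))
    (h : α.hom.app (op T) 0 = 0) : s.dif T 0 q h = 0 := by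
  have h1 := s.dif_add₁ T 0 0 q h h (by rw [add_zero]; exact h)
  have h2 : s.dif T (0 + 0) q (by rw [add_zero]; exact h) = s.dif T 0 q h := by
    congr 1
    exact add_zero _
  exact left_eq_add.1 (h2.symm.trans h1)

theorem dif_add₂ (s : PSplit α β B) (T : C) (p : P'.obj.obj (op T)) (q q' : Q'.obj.obj (op T))
    (h : α.hom.app (op T) p = 0) :
    s.dif T p (q + q') h = s.dif T p q h + s.dif T p q' h := by
  refine act_inj (B := B) (x := e₁ B T (β.hom.app (op T) (q + q'))) ?_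
  have hb : β.hom.app (op T) (q + q') = β.hom.app (op T) q + β.hom.app (op T) q' := map_add _ _ _
  have he : B.πP T (e₁ B T (β.hom.app (op T) q)) = B.πP T (e₁ B T (β.hom.app (op T) q')) := by rw [πP_e₁, πP_e₁]
  rw [s.act_dif, s.τ_ad₂, ← s.act_dif T p q h, ← s.act_dif T p q' h,
    ad₂_act _ (by rw [B.πP_act, he]), ad₂_act' _ he, hb, e₁_add, B.add_act]

theorem dif_map (s : PSplit α β B) {T T' : C} (f : T' ⟶ T) (p : P'.obj.obj (op T)) (q : Q'.obj.obj (op T))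
    (h : α.hom.app (op T) p = 0) (h' : α.hom.app (op T') (P'.obj.map f.op p) = 0) :
    G.obj.map f.op (s.dif T p q h) = s.dif T' (P'.obj.map f.op p) (Q'.obj.map f.op q) h' := by
  refine act_inj (B := B) (x := e₁ B T' (β.hom.app (op T') (Q'.obj.map f.op q))) ?_
  rw [s.act_dif, ← s.τ_map, ← s.act_dif T p q h, B.act_map, e₁_map, nat_apply]

end PSplit

end K454.BX
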