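import Groth.Agent.AbSch.K454.Biadd
import Groth.Agent.AbSch.K454.HomEx
import Groth.Agent.AbSch.K448.RigidOver

/-!
# Biadditive maps of sheaves of points; no nonzero biadditive map between abelian schemes
-/

universe u

open CategoryTheory CategoryTheory.Limits MonoidalCategory CartesianMonoidalCategory MonObj Opposite AlgebraicGeometry
open K454.Glue

namespace K454.BX

section Generic

variable {C : Type (u + 1)} [Category.{u} C] {J : GrothendieckTopology C}
variable {P Q G : Sheaf J AddCommGrpCat.{u + 1}}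

theorem Biadd.eq_zero_of_ofHom (φ : P ⟶ HomSh.homSh J Q G)
    (h : ∀ (T : C) (p : P.obj.obj (op T)) (q : Q.obj.obj (op T)), (Biadd.ofHom φ).b T p q = 0) : φ = 0 := by
  refine Sheaf.hom_ext (NatTrans.ext (funext fun T => AddCommGrpCat.ext fun p => ?_))
  change φ.hom.app T p = (0 : Q.over T.unop ⟶ G.over T.unop)
  let ψ : Q.over T.unop ⟶ G.over T.unop := φ.hom.app T p
  refine overHom_ext (h := ψ) fun V f q => ?_
  have h1 := h V (P.obj.map f.op p) q
  have h2 : φ.hom.app (op V) (P.obj.map f.op p) = (HomSh.homSh J Q G).obj.map f.op (φ.hom.app T p) :=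
    NatTrans.naturality_apply φ.hom f.op p
  have h3 : HomSh.ev J (F := Q) (M := G) (φ.hom.app (op V) (P.obj.map f.op p)) q = 0 := h1
  rw [h2] at h3
  have h4 : ψ.hom.app (op (Over.mk (𝟙 V ≫ f))) q = (0 : G.obj.obj (op V)) := h3
  have h5 := HomSh.app_over_mk_congr J ψ (Category.id_comp f) q
  exact h5.symm.trans h4

end Generic

section Pts

variable {S : Scheme.{u}} {K : Precoverage Scheme.{u}} [(QuotSh.J K S).Subcanonical]
variable {G H L : Over S} [GrpObj G] [IsCommMonObj G] [GrpObj H] [IsCommMonObj H] [GrpObj L] [IsCommMonObj L]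

/-- the morphism `G × H ⟶ L` of a biadditive map of sheaves of points -/
noncomputable def Biadd.mor (β : Biadd (CGrpSh.pts K G) (CGrpSh.pts K H) (CGrpSh.pts K L)) : G ⊗ H ⟶ L :=
  (β.b (G ⊗ H) (ULift.up (Additive.ofMul (fst G H))) (ULift.up (Additive.ofMul (snd G H)))).down.toMul

theorem Biadd.b_eq (β : Biadd (CGrpSh.pts K G) (CGrpSh.pts K H) (CGrpSh.pts K L)) (T : Over S)
    (x : T ⟶ G) (y : T ⟶ H) :
    (β.b T (ULift.up (Additive.ofMul x)) (ULift.up (Additive.ofMul y))).down.toMul = lift x y ≫ β.mor := by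
  have h := β.b_map (lift x y) (ULift.up (Additive.ofMul (fst G H))) (ULift.up (Additive.ofMul (snd G H)))
  have h1 : (CGrpSh.pts K G).obj.map (lift x y).op (ULift.up (Additive.ofMul (fst G H))) = ULift.up (Additive.ofMul x) := by
    refine ULift.ext _ _ ?_
    change Additive.ofMul (lift x y ≫ fst G H) = Additive.ofMul x
    rw [lift_fst]
  have h2 : (CGrpSh.pts K H).obj.map (lift x y).op (ULift.up (Additive.ofMul (snd G H))) = ULift.up (Additive.ofMul y) := by
    refine ULift.ext _ _ ?_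
    change Additive.ofMul (lift x y ≫ snd G H) = Additive.ofMul y
    rw [lift_snd]
  rw [h1, h2] at h
  rw [← h]
  rfl

theorem Biadd.one_right (β : Biadd (CGrpSh.pts K G) (CGrpSh.pts K H) (CGrpSh.pts K L)) {T : Over S} (x : T ⟶ G) :
    lift x (1 : T ⟶ H) ≫ β.mor = 1 := by
  rw [← Biadd.b_eq]
  have h : β.b T (ULift.up (Additive.ofMul x)) (ULift.up (Additive.ofMul (1 : T ⟶ H))) = 0 := β.b_zero₂ T _
  rw [h]
  rfl

theorem Biadd.one_left (β : Biadd (CGrpSh.pts K G) (CGrpSh.pts K H) (CGrpSh.pts K L)) {T : Over S} (y : T ⟶ H) :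
    lift (1 : T ⟶ G) y ≫ β.mor = 1 := by
  rw [← Biadd.b_eq]
  have h : β.b T (ULift.up (Additive.ofMul (1 : T ⟶ G))) (ULift.up (Additive.ofMul y)) = 0 := β.b_zero₁ T _
  rw [h]
  rfl

theorem Biadd.eq_zero_of_mor (φ : CGrpSh.pts K G ⟶ HomSh.homSh (QuotSh.J K S) (CGrpSh.pts K H) (CGrpSh.pts K L))
    (h : (Biadd.ofHom φ).mor = 1) : φ = 0 := by
  refine Biadd.eq_zero_of_ofHom φ fun T x y => ?_
  refine ULift.ext _ _ ?_
  have h1 := Biadd.b_eq (Biadd.ofHom φ) T x.down.toMul y.down.toMul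
  rw [h, MonObj.comp_one] at h1
  exact h1

/-- There is no nonzero biadditive map `G × H → L` if `G`, `H` are proper, flat, finitely presented with geometrically
connected and reduced fibres and `L` is separated. -/
theorem eq_zero_of_proper [IsProper G.hom] [Flat G.hom] [LocallyOfFinitePresentation G.hom]
    [GeometricallyConnected G.hom] [GeometricallyReduced G.hom] [GeometricallyConnected H.hom] [IsSeparated L.hom]
    (φ : CGrpSh.pts K G ⟶ HomSh.homSh (QuotSh.J K S) (CGrpSh.pts K H) (CGrpSh.pts K L)) : φ = 0 := by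
  refine Biadd.eq_zero_of_mor φ ?_
  set β := Biadd.ofHom φ
  have h1 : G ◁ η[H] ≫ β.mor = toUnit _ ≫ η[L] := by
    have h := β.one_right (T := G ⊗ 𝟙_ (Over S)) (fst G (𝟙_ (Over S)))
    refine Eq.trans ?_ h
    congr 1
    ext1
    · simp
    · rw [whiskerLeft_snd, lift_snd, toUnit_unique (snd G (𝟙_ (Over S))) (toUnit _)]
      rfl
  have h2 := K448.RigidOver.eq_of_section β.mor η[H] η[G] η[L] h1
  rw [h2]
  have h := β.one_left (T := H) (𝟙 H)
  have h3 : (1 : H ⟶ G) = toUnit H ≫ η[G] := rfl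
  rw [h3] at h
  rw [h, MonObj.comp_one]

end Pts

end K454.BX
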