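import Groth.Agent.AlgSp.K594.FamRep
import Groth.Agent.AbSch.K452.TorsRep
import Groth.Agent.Sga3.H828.FpqcRep

/-!
# fppf descent of representability, quasi-affine case; extensions by quasi-affine group schemes

* `exists_rep_of_fppf_local_qaff`: a presheaf on `Over S` which is a Zariski sheaf, satisfies descent along fppf
  morphisms and is fppf-locally on `S` represented by a quasi-affine object is representable;
* `exists_isRep_of_fam_qaff`;
* `exists_grp_qaff`: if `0 → pts N → E → pts H → 0` is exact on the big fppf site and `N` is quasi-affine over `S` then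
  `E` is the sheaf of points of a commutative group scheme.
-/

set_option autoImplicit false
set_option backward.isDefEq.respectTransparency false
set_option backward.isDefEq.respectTransparency.types false
universe u
open CategoryTheory CategoryTheory.Limits AlgebraicGeometry Opposite
open _root_.Desc Groth.Agent.Desc.SecFunctor Groth.Agent.Desc.SecPresheaf
  Groth.Agent.Desc.SecDescent Groth.Agent.Picfga.OverRep Groth.Agent.Desc.ZarGlue
  Groth.Agent.Ega2.QuasiAffine

namespace K454.QaffRep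

/-- fppf local representability, quasi-affine case. -/
theorem exists_rep_of_fppf_local_qaff {S : Scheme.{u}} (F : (Over S)ᵒᵖ ⥤ Type u)
    (hZ : IsZarSheaf F)
    (hF : ∀ {T' T : Over S} (g : T' ⟶ T), Flat g.left → LocallyOfFinitePresentation g.left →
      Surjective g.left → IsDesc F g)
    (H : ∀ s : S, ∃ (T : Over S) (_ : Flat T.hom) (_ : LocallyOfFinitePresentation T.hom)
      (t : T.left) (_ : T.hom t = s) (E : Over T.left), QAff E.hom ∧
        Nonempty ((restr T.hom F).RepresentableBy E)) :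
    ∃ E : Over S, Nonempty (F.RepresentableBy E) := by
  have key : ∀ s : S, ∃ (W : S.Opens) (_ : s ∈ W) (U : Over W.toScheme),
      Nonempty ((restr W.ι F).RepresentableBy U) := by
    intro s
    obtain ⟨T, hT, hT', t, hts, E, hE1, ⟨e⟩⟩ := H s
    obtain ⟨W₀, hW₀, hsW⟩ : ∃ W₀ : S.Opens, IsAffineOpen W₀ ∧ s ∈ W₀ := by
      obtain ⟨_, ⟨W₀, hW₀, rfl⟩, hsW, -⟩ := S.isBasis_affineOpens.exists_subset_of_mem_open
        (Set.mem_univ s) isOpen_univ
      exact ⟨W₀, hW₀, hsW⟩
    obtain ⟨T₁, hT₁, htT, hTW⟩ : ∃ T₁ : T.left.Opens, IsAffineOpen T₁ ∧ t ∈ T₁ ∧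
        T₁ ≤ T.hom ⁻¹ᵁ W₀ := by
      obtain ⟨_, ⟨T₁, hT₁, rfl⟩, htT, hTW⟩ :=
        T.left.isBasis_affineOpens.exists_subset_of_mem_open (a := t)
        (show t ∈ T.hom ⁻¹ᵁ W₀ by change T.hom t ∈ W₀; rw [hts]; exact hsW) (T.hom ⁻¹ᵁ W₀).2
      exact ⟨T₁, hT₁, htT, hTW⟩
    have : IsAffine T₁.toScheme := hT₁
    have : IsAffine W₀.toScheme := hW₀
    let q₀ : T₁.toScheme ⟶ W₀.toScheme := T.hom.resLE W₀ T₁ hTW
    have hq₀ : q₀ ≫ W₀.ι = T₁.ι ≫ T.hom := by simp [q₀]
    let r : T₁.toScheme ⟶ S := T₁.ι ≫ T.hom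
    have hr : Flat r := inferInstance
    have hr' : LocallyOfFinitePresentation r := inferInstance
    have hro : IsOpenMap r := r.isOpenMap
    let W : S.Opens := ⟨Set.range r, hro.isOpen_range⟩
    have hsW' : s ∈ W := by
      refine ⟨⟨t, htT⟩, ?_⟩
      rw [← hts]
      rfl
    let q : T₁.toScheme ⟶ W.toScheme := IsOpenImmersion.lift W.ι r (by simp [W])
    have hq : q ≫ W.ι = r := IsOpenImmersion.lift_fac _ _ _
    have hWι : IsOpenImmersion W.ι := inferInstance
    have hqe : Flat q := MorphismProperty.of_postcomp (W := @Flat) q W.ι hWι (by rwa [hq])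
    have hqe' : LocallyOfFinitePresentation q :=
      MorphismProperty.of_postcomp (W := @LocallyOfFinitePresentation) q W.ι hWι (by rwa [hq])
    have hqs : Surjective q := by
      refine ⟨fun w => ?_⟩
      obtain ⟨t', ht'⟩ := w.2
      refine ⟨t', ?_⟩
      apply W.ι.injective
      rw [← Scheme.Hom.comp_apply, hq]
      exact ht'
    have hqc : QuasiCompact q := by
      have hWW : W ≤ W₀ := by
        rintro _ ⟨t', rfl⟩
        exact hTW t'.2
      have h1 : q ≫ S.homOfLE hWW = q₀ := by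
        rw [← cancel_mono W₀.ι, Category.assoc, Scheme.homOfLE_ι, hq, hq₀]
      have : QuasiCompact (q ≫ S.homOfLE hWW) := by rw [h1]; infer_instance
      exact QuasiCompact.of_comp q (S.homOfLE hWW)
    let E₁ : Over T₁.toScheme := (Over.pullback T₁.ι).obj E
    have i1 : QAff E₁.hom := MorphismProperty.pullback_snd (P := QAff) E.hom T₁.ι hE1
    let e₁ : (restr q (restr W.ι F)).RepresentableBy E₁ :=
      (pullRep T₁.ι e).ofIso (restrCompIso rfl F ≪≫ (restrCompIso hq F).symm)
    have hsh : IsPSheaf q (restr W.ι F) := by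
      intro T₂
      apply IsDesc.restr
      have h1 : Flat ((Over.map W.ι).map (projT q T₂)).left := by
        change Flat (pullback.snd q T₂.hom)
        infer_instance
      have h2 : Surjective ((Over.map W.ι).map (projT q T₂)).left := by
        change Surjective (pullback.snd q T₂.hom)
        infer_instance
      have h3 : LocallyOfFinitePresentation ((Over.map W.ι).map (projT q T₂)).left := by
        change LocallyOfFinitePresentation (pullback.snd q T₂.hom)
        infer_instance
      exact hF _ h1 h3 h2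
    obtain ⟨U, hU, -⟩ := Groth.Agent.Desc.LocalRep.exists_rep_of_fpqc q hsh E₁ i1 e₁
    exact ⟨W, hsW', U, hU⟩
  choose W hW U e using key
  obtain ⟨E, hE, -⟩ := exists_rep_of_openCover W (fun s => ⟨s, hW s⟩) U (fun s => (e s).some) hZ
  exact ⟨E, hE⟩

section Fam

open K594.Elem K594.Cover K594.FibSh K594.Basic K594.FamRep AlgSp

variable {S : Scheme.{u}} {F G : Sp S} {f : F ⟶ G}

/-- fppf descent of representing objects along a covering family, quasi-affine case. -/
theorem exists_isRep_of_fam_qaff {U : Over S} {y : G.obj.obj (op U)} {ι : Type u}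
    {U' V' : ι → Over S} {t : ∀ i, U' i ⟶ U} (ht : Fam t) {v : ∀ i, V' i ⟶ U' i}
    {ξ : ∀ i, F.obj.obj (op (V' i))} (h : ∀ i, IsRep f (G.obj.map (t i).op y) (v i) (ξ i))
    (h1 : ∀ i, QAff (v i).left) : ∃ (V : Over S) (v : V ⟶ U) (ξ : F.obj.obj (op V)),
      IsRep f y v ξ := by
  have := small_fib_fam ht h
  obtain ⟨E, ⟨hE⟩⟩ := exists_rep_of_fppf_local_qaff (sfib f y) (isZarSheaf_sfib f y)
    (fun {T' T} g g1 g2 g3 => isDesc_sfib f y g ⟨g1, g2, g3⟩) (by
      intro s
      obtain ⟨i, s', hs'⟩ := ht.surj s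
      obtain ⟨r⟩ := rep_restr (t i) (h i)
      exact ⟨Over.mk (t i).left, ht.flat i, ht.lfp i, s', hs', Over.mk (v i).left, h1 i, ⟨r⟩⟩)
  obtain ⟨ξ', hξ'⟩ := isRep_of_rep hE
  exact ⟨_, _, ξ', hξ'⟩

end Fam

section Grp

open K594.Elem K594.Cover K594.FibSh K594.Basic K594.FamRep AlgSp K452.TorsRep CGrpSh MonoidalCategory
  CartesianMonoidalCategory

variable {S : Scheme.{u}} {N H : Over S} [GrpObj N] [IsCommMonObj N] [GrpObj H] [IsCommMonObj H]

/-- **Representability of extensions**, the kernel being quasi-affine over the base. -/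
theorem exists_grp_qaff {E : BigSite.Ab Scheme.fppfPrecoverage S} (i : pts Scheme.fppfPrecoverage N ⟶ E)
    (q : E ⟶ pts Scheme.fppfPrecoverage H) (w : i ≫ q = 0) (hex : (ShortComplex.mk i q w).ShortExact)
    (hQ : QAff N.hom) :
    ∃ (G : Over S) (_ : GrpObj G) (_ : IsCommMonObj G) (v : G ⟶ H) (_ : IsMonHom v)
    (e : pts Scheme.fppfPrecoverage G ≅ E), e.hom ≫ q = ptsMap Scheme.fppfPrecoverage v ∧
      ∀ (P : MorphismProperty Scheme.{u}) [P.IsStableUnderBaseChange] [P.IsLocalAtTarget Scheme.fppfPrecoverage],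
        P N.hom → P v.left := by
  have he : Epi q := hex.epi_g
  obtain ⟨J, U, r, hr, hg⟩ := exists_fam q (𝟙 H)
  choose g hg using hg
  have hg' : ∀ j, q.hom.app _ (g j) = up (r j) := fun j => by rw [hg, Category.comp_id]
  have hloc : ∀ j, IsRep (sets.map q) ((sets.obj (pts Scheme.fppfPrecoverage H)).obj.map (r j).op (up (𝟙 H)))
      (snd N (U j)) (i.hom.app (op (N ⊗ U j)) (up (fst N (U j))) + E.obj.map (snd N (U j)).op (g j)) := by
    intro j
    rw [map_up_sets]
    exact locRep i q w hex (r j) (g j) (hg' j)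
  have hS : ∀ (P : MorphismProperty Scheme.{u}) [P.IsStableUnderBaseChange], P N.hom → ∀ j, P (snd N (U j)).left :=
    fun P _ hN j => P.pullback_snd N.hom (U j).hom hN
  obtain ⟨V, v, ξ, hξ⟩ := exists_isRep_of_fam_qaff hr hloc (fun j => hS QAff hQ j)
  obtain ⟨g1, g2, e, hv, h1⟩ := exists_grp_of_isRep q v ξ hξ
  refine ⟨V, g1, g2, v, hv, e, ?_, fun P _ _ hP => prop_of_isRep_fam P hr hloc (hS P hP) hξ⟩
  subst h1
  exact (K731.Full.ptsMap_hom _).symm

end Grp

end K454.QaffRep
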