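import Groth.Agent.AbSch.K454.PSplit
import Mathlib.CategoryTheory.Sites.LocallySurjective

/-!
# Quotients of sheaves of sets by natural equivalence relations, and quotients of biextensions
-/

universe u

open CategoryTheory Opposite
open K454.Glue

namespace K454.BX

variable {C : Type (u + 1)} [Category.{u} C] {J : GrothendieckTopology C}

section QSh

variable (E : Sheaf J (Type (u + 1)))

/-- A natural equivalence relation on the sections of a sheaf of sets. -/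
structure NRel where
  r : ∀ T : C, E.obj.obj (op T) → E.obj.obj (op T) → Prop
  eqv : ∀ T : C, Equivalence (r T)
  res : ∀ {T T' : C} (f : T' ⟶ T) (x y : E.obj.obj (op T)), r T x y → r T' (E.obj.map f.op x) (E.obj.map f.op y)

variable {E}

namespace NRel

variable (R : NRel E)

/-- the presheaf quotient -/
def pre : Cᵒᵖ ⥤ Type (u + 1) where
  obj T := Quot (R.r T.unop)
  map {T T'} f := TypeCat.ofHom (Quot.map (E.obj.map f) (fun x y h => R.res f.unop x y h))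
  map_id T := by
    ext x
    obtain ⟨x, rfl⟩ := Quot.exists_rep x
    refine congrArg (Quot.mk _) ?_
    exact congrFun (congrArg (fun k => (ConcreteCategory.hom k : _ → _)) (E.obj.map_id T)) x
  map_comp {T T' T''} f g := by
    ext x
    obtain ⟨x, rfl⟩ := Quot.exists_rep x
    refine congrArg (Quot.mk _) ?_
    exact congrFun (congrArg (fun k => (ConcreteCategory.hom k : _ → _)) (E.obj.map_comp f g)) x

/-- the quotient sheaf -/
noncomputable def sh : Sheaf J (Type (u + 1)) := (presheafToSheaf J (Type (u + 1))).obj R.pre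

/-- the quotient map on sections -/
noncomputable def π (T : C) (x : E.obj.obj (op T)) : R.sh.obj.obj (op T) :=
  (toSheafify J R.pre).app (op T) (Quot.mk _ x)

theorem π_map {T T' : C} (f : T' ⟶ T) (x : E.obj.obj (op T)) :
    R.sh.obj.map f.op (R.π T x) = R.π T' (E.obj.map f.op x) :=
  (NatTrans.naturality_apply (toSheafify J R.pre) f.op (Quot.mk _ x : R.pre.obj (op T))).symm

theorem π_surj (T : C) (y : R.sh.obj.obj (op T)) : ∃ S ∈ J T, ∀ ⦃T' : C⦄ (f : T' ⟶ T), S f →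
    ∃ x : E.obj.obj (op T'), R.π T' x = R.sh.obj.map f.op y := by
  refine ⟨Presheaf.imageSieve (toSheafify J R.pre) y,
    Presheaf.imageSieve_mem J (toSheafify J R.pre) (U := op T) y, fun T' f hf => ?_⟩
  obtain ⟨x, hx⟩ := hf
  obtain ⟨x, rfl⟩ := Quot.exists_rep x
  exact ⟨x, hx⟩

theorem π_eq {T : C} {x y : E.obj.obj (op T)} (h : R.r T x y) : R.π T x = R.π T y :=
  congrArg ((toSheafify J R.pre).app (op T)) (Quot.sound h)

theorem of_π_eq {T : C} {x y : E.obj.obj (op T)} (h : R.π T x = R.π T y) : ∃ S ∈ J T,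
    ∀ ⦃T' : C⦄ (f : T' ⟶ T), S f → R.r T' (E.obj.map f.op x) (E.obj.map f.op y) := by
  refine ⟨Presheaf.equalizerSieve (F := R.pre) (X := op T) (Quot.mk _ x) (Quot.mk _ y),
    Presheaf.equalizerSieve_mem J (toSheafify J R.pre) (X := op T) _ _ h, fun T' f hf => ?_⟩
  have h1 : Quot.mk (R.r T') (E.obj.map f.op x) = Quot.mk (R.r T') (E.obj.map f.op y) := hf
  exact (Quot.eqvGen_exact h1).rec (fun _ _ h => h) (fun _ => (R.eqv T').refl _) (fun _ _ _ h => (R.eqv T').symm h)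
    (fun _ _ _ _ _ h h' => (R.eqv T').trans h h')

/-- natural maps constant on the classes descend to the quotient -/
theorem exists_desc (F : Sheaf J (Type (u + 1)))
    (δ : ∀ T : C, E.obj.obj (op T) → F.obj.obj (op T))
    (hδ : ∀ {T T' : C} (f : T' ⟶ T) (x : E.obj.obj (op T)), F.obj.map f.op (δ T x) = δ T' (E.obj.map f.op x))
    (hinv : ∀ (T : C) (x y : E.obj.obj (op T)), R.r T x y → δ T x = δ T y) :
    ∃ b : ∀ T : C, R.sh.obj.obj (op T) → F.obj.obj (op T),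
      (∀ {T T' : C} (f : T' ⟶ T) (x : R.sh.obj.obj (op T)), F.obj.map f.op (b T x) = b T' (R.sh.obj.map f.op x)) ∧
      ∀ (T : C) (x : E.obj.obj (op T)), b T (R.π T x) = δ T x := by
  let φ : R.pre ⟶ F.obj :=
    { app := fun T => TypeCat.ofHom (Quot.lift (δ T.unop) (hinv T.unop))
      naturality := fun T T' f => by
        ext x
        obtain ⟨x, rfl⟩ := Quot.exists_rep x
        exact (hδ f.unop x).symm }
  let ψ : R.sh.obj ⟶ F.obj := sheafifyLift J φ F.property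
  refine ⟨fun T => ψ.app (op T), fun f x => (NatTrans.naturality_apply ψ f.op x).symm, fun T x => ?_⟩
  have h : toSheafify J R.pre ≫ ψ = φ := toSheafify_sheafifyLift J φ F.property
  exact congrFun (congrArg (fun k : R.pre ⟶ F.obj => (ConcreteCategory.hom (k.app (op T)) : _ → _)) h) (Quot.mk _ x)

end NRel

end QSh

section BQuot

variable {P Q G P'' G'' : Sheaf J AddCommGrpCat.{u + 1}}

/-- Data for forming the quotient of a biextension `B` of `(P, Q)` by `G`: a natural equivalence relation on the sections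
of `E`, inducing locally surjective `α : P ⟶ P''`, `γ : G ⟶ G''`, compatible with all the structure. -/
structure BQ (B : Biext J P Q G) (α : P ⟶ P'') (γ : G ⟶ G'') where
  hα : LocSurj α
  hγ : LocSurj γ
  R : NRel B.E
  rP : ∀ {T : C} {x y : B.E.obj.obj (op T)}, R.r T x y → α.hom.app (op T) (B.πP T x) = α.hom.app (op T) (B.πP T y)
  rQ : ∀ {T : C} {x y : B.E.obj.obj (op T)}, R.r T x y → B.πQ T x = B.πQ T y
  rAct : ∀ {T : C} (g : G.obj.obj (op T)) {x y : B.E.obj.obj (op T)}, R.r T x y → R.r T (B.act T g x) (B.act T g y)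
  rKer : ∀ {T : C} (g : G.obj.obj (op T)) (x : B.E.obj.obj (op T)), γ.hom.app (op T) g = 0 → R.r T (B.act T g x) x
  rFree : ∀ {T : C} (g : G.obj.obj (op T)) (x : B.E.obj.obj (op T)), R.r T (B.act T g x) x → γ.hom.app (op T) g = 0
  rTrans : ∀ {T : C} (x y : B.E.obj.obj (op T)), α.hom.app (op T) (B.πP T x) = α.hom.app (op T) (B.πP T y) →
    B.πQ T x = B.πQ T y → ∃ S ∈ J T, ∀ ⦃T' : C⦄ (f : T' ⟶ T), S f → ∃ g : G.obj.obj (op T'),
      R.r T' (B.act T' g (B.E.obj.map f.op x)) (B.E.obj.map f.op y)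
  rAd₁ : ∀ {T : C} {x x' z z' : B.E.obj.obj (op T)}, R.r T x x' → R.r T z z' → B.πQ T x = B.πQ T z →
    R.r T (ad₁ B T x z) (ad₁ B T x' z')
  rMove : ∀ {T : C} (x y : B.E.obj.obj (op T)), α.hom.app (op T) (B.πP T x) = α.hom.app (op T) (B.πP T y) →
    ∃ S ∈ J T, ∀ ⦃T' : C⦄ (f : T' ⟶ T), S f → ∃ y' : B.E.obj.obj (op T'), R.r T' (B.E.obj.map f.op y) y' ∧
      B.πP T' y' = B.πP T' (B.E.obj.map f.op x)
  rAd₂ : ∀ {T : C} {x x' y y' : B.E.obj.obj (op T)}, R.r T x x' → R.r T y y' → B.πP T x = B.πP T y →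
    B.πP T x' = B.πP T y' → R.r T (ad₂ B T x y) (ad₂ B T x' y')

namespace BQ

variable {B : Biext J P Q G} {α : P ⟶ P''} {γ : G ⟶ G''} (D : BQ B α γ)

theorem res_res' {T T' T'' : C} (f : T' ⟶ T) (g : T'' ⟶ T') (x : D.R.sh.obj.obj (op T)) :
    D.R.sh.obj.map g.op (D.R.sh.obj.map f.op x) = D.R.sh.obj.map (g ≫ f).op x := by
  rw [op_comp, D.R.sh.obj.map_comp]; rfl

theorem res_id' {T : C} (x : D.R.sh.obj.obj (op T)) : D.R.sh.obj.map (𝟙 T).op x = x := by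
  rw [op_id, D.R.sh.obj.map_id]; rfl

theorem π_congr_local {T : C} {x y : B.E.obj.obj (op T)} (S : Sieve T) (hS : S ∈ J T)
    (h : ∀ ⦃T' : C⦄ (f : T' ⟶ T), S f → D.R.π T' (B.E.obj.map f.op x) = D.R.π T' (B.E.obj.map f.op y)) :
    D.R.π T x = D.R.π T y :=
  ext_local D.R.sh S hS _ _ fun T' f hf => by rw [D.R.π_map, D.R.π_map, h f hf]

/-- operations on the quotient sheaf: a natural operation `o` defined on pairs of sections satisfying a natural
condition `c`, compatible with the classes, descends to the quotient. -/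
theorem exists_op (c : ∀ T : C, B.E.obj.obj (op T) → B.E.obj.obj (op T) → Prop)
    (o : ∀ T : C, B.E.obj.obj (op T) → B.E.obj.obj (op T) → B.E.obj.obj (op T))
    (hc : ∀ {T T' : C} (f : T' ⟶ T) (x y : B.E.obj.obj (op T)), c T x y → c T' (B.E.obj.map f.op x) (B.E.obj.map f.op y))
    (ho : ∀ {T T' : C} (f : T' ⟶ T) (x y : B.E.obj.obj (op T)), c T x y →
      B.E.obj.map f.op (o T x y) = o T' (B.E.obj.map f.op x) (B.E.obj.map f.op y))
    (hinv : ∀ {T : C} {x x' y y' : B.E.obj.obj (op T)}, D.R.r T x x' → D.R.r T y y' → c T x y → c T x' y' →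
      D.R.r T (o T x y) (o T x' y'))
    (T : C) (X Y : D.R.sh.obj.obj (op T))
    (hex : ∃ S ∈ J T, ∀ ⦃T' : C⦄ (f : T' ⟶ T), S f → ∃ x y : B.E.obj.obj (op T'), D.R.π T' x = D.R.sh.obj.map f.op X ∧
      D.R.π T' y = D.R.sh.obj.map f.op Y ∧ c T' x y) :
    ∃ Z : D.R.sh.obj.obj (op T), ∀ ⦃T' : C⦄ (f : T' ⟶ T) (x y : B.E.obj.obj (op T')),
      D.R.π T' x = D.R.sh.obj.map f.op X → D.R.π T' y = D.R.sh.obj.map f.op Y → c T' x y →
      D.R.sh.obj.map f.op Z = D.R.π T' (o T' x y) := by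
  have hinv' : ∀ {T : C} {x x' y y' : B.E.obj.obj (op T)}, D.R.π T x = D.R.π T x' → D.R.π T y = D.R.π T y' →
      c T x y → c T x' y' → D.R.π T (o T x y) = D.R.π T (o T x' y') := by
    intro T x x' y y' hx hy h h'
    obtain ⟨S, hS, h1⟩ := D.R.of_π_eq hx
    obtain ⟨S', hS', h2⟩ := D.R.of_π_eq hy
    refine D.π_congr_local (S ⊓ S') (J.intersection_covering hS hS') fun T' f hf => ?_
    rw [ho f _ _ h, ho f _ _ h']
    exact D.R.π_eq (hinv (h1 f hf.1) (h2 f hf.2) (hc f _ _ h) (hc f _ _ h'))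
  obtain ⟨S, hS, hex⟩ := hex
  obtain ⟨Z, hZ⟩ := glue D.R.sh (T := T)
    (fun T' f Z => ∃ x y : B.E.obj.obj (op T'), D.R.π T' x = D.R.sh.obj.map f.op X ∧
      D.R.π T' y = D.R.sh.obj.map f.op Y ∧ c T' x y ∧ Z = D.R.π T' (o T' x y))
    (by
      rintro T' T'' f g _ ⟨x, y, h1, h2, h3, rfl⟩
      refine ⟨B.E.obj.map g.op x, B.E.obj.map g.op y, ?_, ?_, hc g _ _ h3, ?_⟩
      · rw [← D.R.π_map, h1, D.res_res']
      · rw [← D.R.π_map, h2, D.res_res']
      · rw [D.R.π_map, ho g _ _ h3])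
    (by
      rintro T' f _ _ ⟨x, y, h1, h2, h3, rfl⟩ ⟨x', y', h1', h2', h3', rfl⟩
      exact hinv' (h1.trans h1'.symm) (h2.trans h2'.symm) h3 h3')
    S hS
    (by
      intro T' f hf
      obtain ⟨x, y, h1, h2, h3⟩ := hex f hf
      exact ⟨_, x, y, h1, h2, h3, rfl⟩)
  refine ⟨Z, fun T' f x y h1 h2 h3 => ?_⟩
  refine ext_local D.R.sh (S.pullback f) (J.pullback_stable f hS) _ _ fun T'' g hg => ?_
  obtain ⟨x', y', h1', h2', h3', h4⟩ := hZ (g ≫ f) hg
  rw [D.res_res', h4, D.R.π_map, ho g _ _ h3]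
  refine hinv' ?_ ?_ h3' (hc g _ _ h3)
  · rw [h1', ← D.R.π_map, h1, D.res_res']
  · rw [h2', ← D.R.π_map, h2, D.res_res']

/-! The projections of the quotient. -/

theorem exists_πP : ∃ b : ∀ T : C, D.R.sh.obj.obj (op T) → P''.obj.obj (op T),
      (∀ {T T' : C} (f : T' ⟶ T) (x : D.R.sh.obj.obj (op T)), P''.obj.map f.op (b T x) = b T' (D.R.sh.obj.map f.op x)) ∧
      ∀ (T : C) (x : B.E.obj.obj (op T)), b T (D.R.π T x) = α.hom.app (op T) (B.πP T x) :=
  D.R.exists_desc (Biext.uSh J P'') (fun T x => α.hom.app (op T) (B.πP T x))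
    (fun f x => (nat_apply α f _).trans (by rw [B.πP_map])) (fun T x y h => D.rP h)

theorem exists_πQ : ∃ b : ∀ T : C, D.R.sh.obj.obj (op T) → Q.obj.obj (op T),
      (∀ {T T' : C} (f : T' ⟶ T) (x : D.R.sh.obj.obj (op T)), Q.obj.map f.op (b T x) = b T' (D.R.sh.obj.map f.op x)) ∧
      ∀ (T : C) (x : B.E.obj.obj (op T)), b T (D.R.π T x) = B.πQ T x :=
  D.R.exists_desc (Biext.uSh J Q) (fun T x => B.πQ T x)
    (fun f x => (B.πQ_map f x).symm) (fun T x y h => D.rQ h)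

noncomputable def pP (T : C) (X : D.R.sh.obj.obj (op T)) : P''.obj.obj (op T) := D.exists_πP.choose T X
noncomputable def pQ (T : C) (X : D.R.sh.obj.obj (op T)) : Q.obj.obj (op T) := D.exists_πQ.choose T X

theorem pP_map {T T' : C} (f : T' ⟶ T) (X : D.R.sh.obj.obj (op T)) :
    D.pP T' (D.R.sh.obj.map f.op X) = P''.obj.map f.op (D.pP T X) := (D.exists_πP.choose_spec.1 f X).symm
theorem pQ_map {T T' : C} (f : T' ⟶ T) (X : D.R.sh.obj.obj (op T)) :
    D.pQ T' (D.R.sh.obj.map f.op X) = Q.obj.map f.op (D.pQ T X) := (D.exists_πQ.choose_spec.1 f X).symm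
theorem pP_π {T : C} (x : B.E.obj.obj (op T)) : D.pP T (D.R.π T x) = α.hom.app (op T) (B.πP T x) :=
  D.exists_πP.choose_spec.2 T x
theorem pQ_π {T : C} (x : B.E.obj.obj (op T)) : D.pQ T (D.R.π T x) = B.πQ T x := D.exists_πQ.choose_spec.2 T x

/-- local lifts of two sections -/
theorem lift₂ {T : C} (X Y : D.R.sh.obj.obj (op T)) : ∃ S ∈ J T, ∀ ⦃T' : C⦄ (f : T' ⟶ T), S f →
    ∃ x y : B.E.obj.obj (op T'), D.R.π T' x = D.R.sh.obj.map f.op X ∧ D.R.π T' y = D.R.sh.obj.map f.op Y := by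
  obtain ⟨S, hS, h⟩ := D.R.π_surj T X
  obtain ⟨S', hS', h'⟩ := D.R.π_surj T Y
  refine ⟨S ⊓ S', J.intersection_covering hS hS', fun T' f hf => ?_⟩
  obtain ⟨x, hx⟩ := h f hf.1
  obtain ⟨y, hy⟩ := h' f hf.2
  exact ⟨x, y, hx, hy⟩

/-- transitivity: build a covering sieve from local coverings -/
theorem bind {T : C} {p : ∀ ⦃T' : C⦄, (T' ⟶ T) → Prop} (S : Sieve T) (hS : S ∈ J T)
    (hp : ∀ ⦃T' T'' : C⦄ (f : T' ⟶ T) (g : T'' ⟶ T'), p f → p (g ≫ f))
    (h : ∀ ⦃T' : C⦄ (f : T' ⟶ T), S f → ∃ S' ∈ J T', ∀ ⦃T'' : C⦄ (g : T'' ⟶ T'), S' g → p (g ≫ f)) :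
    ∃ S ∈ J T, ∀ ⦃T' : C⦄ (f : T' ⟶ T), S f → p f := by
  refine ⟨⟨fun T' f => p f, fun hf g => hp _ g hf⟩, ?_, fun T' f hf => hf⟩
  refine J.transitive hS _ fun T' f hf => ?_
  obtain ⟨S', hS', h'⟩ := h f hf
  exact J.superset_covering (fun T'' g hg => h' g hg) hS'

/-- moving a lift of `Y` so that it has a prescribed image in `P` -/
theorem lift_move {T : C} (x : B.E.obj.obj (op T)) (Y : D.R.sh.obj.obj (op T))
    (h : α.hom.app (op T) (B.πP T x) = D.pP T Y) : ∃ S ∈ J T, ∀ ⦃T' : C⦄ (f : T' ⟶ T), S f →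
    ∃ y : B.E.obj.obj (op T'), D.R.π T' y = D.R.sh.obj.map f.op Y ∧ B.πP T' y = B.πP T' (B.E.obj.map f.op x) := by
  obtain ⟨S, hS, h1⟩ := D.R.π_surj T Y
  refine bind S hS ?_ fun T' f hf => ?_
  · rintro T' T'' f g ⟨y, h2, h3⟩
    exact ⟨B.E.obj.map g.op y, by rw [← D.R.π_map, h2, D.res_res'], by rw [B.πP_map, h3, ← B.πP_map, res_res]⟩
  · obtain ⟨y, hy⟩ := h1 f hf
    obtain ⟨S', hS', h2⟩ := D.rMove (B.E.obj.map f.op x) y (by
      rw [B.πP_map, ← D.pP_π, hy, D.pP_map, ← h, nat_apply])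
    refine ⟨S', hS', fun T'' g hg => ?_⟩
    obtain ⟨y', h3, h4⟩ := h2 g hg
    refine ⟨y', ?_, by rw [h4, res_res]⟩
    rw [← D.R.π_eq h3, ← D.R.π_map, hy, D.res_res']

/-- local lifts of two sections with the same image in `P''` to sections with the same image in `P` -/
theorem lift₂' {T : C} (X Y : D.R.sh.obj.obj (op T)) (h : D.pP T X = D.pP T Y) :
    ∃ S ∈ J T, ∀ ⦃T' : C⦄ (f : T' ⟶ T), S f →
    ∃ x y : B.E.obj.obj (op T'), D.R.π T' x = D.R.sh.obj.map f.op X ∧ D.R.π T' y = D.R.sh.obj.map f.op Y ∧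
      B.πP T' x = B.πP T' y := by
  obtain ⟨S, hS, h1⟩ := D.R.π_surj T X
  refine bind S hS ?_ fun T' f hf => ?_
  · rintro T' T'' f g ⟨x, y, h2, h3, h4⟩
    exact ⟨B.E.obj.map g.op x, B.E.obj.map g.op y, by rw [← D.R.π_map, h2, D.res_res'],
      by rw [← D.R.π_map, h3, D.res_res'], by rw [B.πP_map, B.πP_map, h4]⟩
  · obtain ⟨x, hx⟩ := h1 f hf
    obtain ⟨S', hS', h2⟩ := D.lift_move x (D.R.sh.obj.map f.op Y) (by
      rw [← D.pP_π, hx, D.pP_map, D.pP_map, h])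
    refine ⟨S', hS', fun T'' g hg => ?_⟩
    obtain ⟨y, h3, h4⟩ := h2 g hg
    exact ⟨B.E.obj.map g.op x, y, by rw [← D.R.π_map, hx, D.res_res'], by rw [h3, D.res_res'], h4.symm⟩

theorem exists_add₁ (T : C) (X Y : D.R.sh.obj.obj (op T)) (h : D.pQ T X = D.pQ T Y) :
    ∃ Z : D.R.sh.obj.obj (op T), ∀ ⦃T' : C⦄ (f : T' ⟶ T) (x y : B.E.obj.obj (op T')),
      D.R.π T' x = D.R.sh.obj.map f.op X → D.R.π T' y = D.R.sh.obj.map f.op Y → B.πQ T' x = B.πQ T' y →
      D.R.sh.obj.map f.op Z = D.R.π T' (ad₁ B T' x y) :=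
  D.exists_op (fun T x y => B.πQ T x = B.πQ T y) (fun T x y => ad₁ B T x y)
    (fun f x y h => by rw [B.πQ_map, B.πQ_map, h]) (fun f x y h => ad₁_map f h)
    (fun h1 h2 h3 h4 => D.rAd₁ h1 h2 h3) T X Y (by
      obtain ⟨S, hS, h1⟩ := D.lift₂ X Y
      refine ⟨S, hS, fun T' f hf => ?_⟩
      obtain ⟨x, y, hx, hy⟩ := h1 f hf
      exact ⟨x, y, hx, hy, by rw [← D.pQ_π, ← D.pQ_π, hx, hy, D.pQ_map, D.pQ_map, h]⟩)

theorem exists_add₂ (T : C) (X Y : D.R.sh.obj.obj (op T)) (h : D.pP T X = D.pP T Y) :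
    ∃ Z : D.R.sh.obj.obj (op T), ∀ ⦃T' : C⦄ (f : T' ⟶ T) (x y : B.E.obj.obj (op T')),
      D.R.π T' x = D.R.sh.obj.map f.op X → D.R.π T' y = D.R.sh.obj.map f.op Y → B.πP T' x = B.πP T' y →
      D.R.sh.obj.map f.op Z = D.R.π T' (ad₂ B T' x y) :=
  D.exists_op (fun T x y => B.πP T x = B.πP T y) (fun T x y => ad₂ B T x y)
    (fun f x y h => by rw [B.πP_map, B.πP_map, h]) (fun f x y h => ad₂_map f h)
    (fun h1 h2 h3 h4 => D.rAd₂ h1 h2 h3 h4) T X Y (D.lift₂' X Y h)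

theorem exists_act' (T : C) (g : G''.obj.obj (op T)) (X : D.R.sh.obj.obj (op T)) :
    ∃ Z : D.R.sh.obj.obj (op T), ∀ ⦃T' : C⦄ (f : T' ⟶ T) (k : G.obj.obj (op T')) (x : B.E.obj.obj (op T')),
      γ.hom.app (op T') k = G''.obj.map f.op g → D.R.π T' x = D.R.sh.obj.map f.op X →
      D.R.sh.obj.map f.op Z = D.R.π T' (B.act T' k x) := by
  have hinv : ∀ {T : C} {k k' : G.obj.obj (op T)} {x x' : B.E.obj.obj (op T)},
      γ.hom.app (op T) k = γ.hom.app (op T) k' → D.R.π T x = D.R.π T x' →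
      D.R.π T (B.act T k x) = D.R.π T (B.act T k' x') := by
    intro T k k' x x' hk hx
    obtain ⟨S, hS, h1⟩ := D.R.of_π_eq hx
    refine D.π_congr_local S hS fun T' f hf => ?_
    have h0 : γ.hom.app (op T') (G.obj.map f.op k - G.obj.map f.op k') = 0 := by
      have e1 : γ.hom.app (op T') (G.obj.map f.op k - G.obj.map f.op k') =
        γ.hom.app (op T') (G.obj.map f.op k) - γ.hom.app (op T') (G.obj.map f.op k') := map_sub _ _ _
      rw [e1, ← nat_apply, ← nat_apply, hk, sub_self]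
    rw [B.act_map, B.act_map]
    have e2 : B.act T' (G.obj.map f.op k) (B.E.obj.map f.op x) =
        B.act T' (G.obj.map f.op k - G.obj.map f.op k') (B.act T' (G.obj.map f.op k') (B.E.obj.map f.op x)) := by
      rw [← B.add_act, sub_add_cancel]
    rw [e2, D.R.π_eq (D.rKer _ _ h0)]
    exact D.R.π_eq (D.rAct _ (h1 f hf))
  obtain ⟨S₁, hS₁, hex₁⟩ := D.hγ T g
  obtain ⟨S₂, hS₂, hex₂⟩ := D.R.π_surj T X
  obtain ⟨Z, hZ⟩ := glue D.R.sh (T := T)
    (fun T' f Z => ∃ (k : G.obj.obj (op T')) (x : B.E.obj.obj (op T')), γ.hom.app (op T') k = G''.obj.map f.op g ∧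
      D.R.π T' x = D.R.sh.obj.map f.op X ∧ Z = D.R.π T' (B.act T' k x))
    (by
      rintro T' T'' f h _ ⟨k, x, h1, h2, rfl⟩
      refine ⟨G.obj.map h.op k, B.E.obj.map h.op x, ?_, ?_, ?_⟩
      · rw [← nat_apply, h1, ares_res]
      · rw [← D.R.π_map, h2, D.res_res']
      · rw [D.R.π_map, B.act_map])
    (by
      rintro T' f _ _ ⟨k, x, h1, h2, rfl⟩ ⟨k', x', h1', h2', rfl⟩
      exact hinv (h1.trans h1'.symm) (h2.trans h2'.symm))
    (S₁ ⊓ S₂) (J.intersection_covering hS₁ hS₂)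
    (by
      intro T' f hf
      obtain ⟨k, h1⟩ := hex₁ f hf.1
      obtain ⟨x, h2⟩ := hex₂ f hf.2
      exact ⟨_, k, x, h1, h2, rfl⟩)
  refine ⟨Z, fun T' f k x h1 h2 => ?_⟩
  refine ext_local D.R.sh ((S₁ ⊓ S₂).pullback f) (J.pullback_stable f (J.intersection_covering hS₁ hS₂)) _ _
    fun T'' h hh => ?_
  obtain ⟨k', x', h1', h2', h3⟩ := hZ (h ≫ f) hh
  rw [D.res_res', h3, D.R.π_map, B.act_map]
  refine hinv ?_ ?_
  · rw [h1', ← nat_apply, h1, ares_res]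
  · rw [h2', ← D.R.π_map, h2, D.res_res']

noncomputable def a₁ (T : C) (X Y : D.R.sh.obj.obj (op T)) (h : D.pQ T X = D.pQ T Y) : D.R.sh.obj.obj (op T) :=
  (D.exists_add₁ T X Y h).choose
noncomputable def a₂ (T : C) (X Y : D.R.sh.obj.obj (op T)) (h : D.pP T X = D.pP T Y) : D.R.sh.obj.obj (op T) :=
  (D.exists_add₂ T X Y h).choose
noncomputable def ac (T : C) (g : G''.obj.obj (op T)) (X : D.R.sh.obj.obj (op T)) : D.R.sh.obj.obj (op T) :=
  (D.exists_act' T g X).choose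

theorem a₁_spec {T T' : C} {X Y : D.R.sh.obj.obj (op T)} (h : D.pQ T X = D.pQ T Y) (f : T' ⟶ T)
    {x y : B.E.obj.obj (op T')} (h1 : D.R.π T' x = D.R.sh.obj.map f.op X) (h2 : D.R.π T' y = D.R.sh.obj.map f.op Y) :
    D.R.sh.obj.map f.op (D.a₁ T X Y h) = D.R.π T' (ad₁ B T' x y) :=
  (D.exists_add₁ T X Y h).choose_spec f x y h1 h2 (by rw [← D.pQ_π, ← D.pQ_π, h1, h2, D.pQ_map, D.pQ_map, h])
theorem a₂_spec {T T' : C} {X Y : D.R.sh.obj.obj (op T)} (h : D.pP T X = D.pP T Y) (f : T' ⟶ T)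
    {x y : B.E.obj.obj (op T')} (h1 : D.R.π T' x = D.R.sh.obj.map f.op X) (h2 : D.R.π T' y = D.R.sh.obj.map f.op Y)
    (h3 : B.πP T' x = B.πP T' y) : D.R.sh.obj.map f.op (D.a₂ T X Y h) = D.R.π T' (ad₂ B T' x y) :=
  (D.exists_add₂ T X Y h).choose_spec f x y h1 h2 h3
theorem ac_spec {T T' : C} {g : G''.obj.obj (op T)} {X : D.R.sh.obj.obj (op T)} (f : T' ⟶ T)
    {k : G.obj.obj (op T')} {x : B.E.obj.obj (op T')} (h1 : γ.hom.app (op T') k = G''.obj.map f.op g)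
    (h2 : D.R.π T' x = D.R.sh.obj.map f.op X) : D.R.sh.obj.map f.op (D.ac T g X) = D.R.π T' (B.act T' k x) :=
  (D.exists_act' T g X).choose_spec f k x h1 h2

end BQ

end BQuot

end K454.BX
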