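import Groth.Agent.AbSch.K454.Quot

/-!
# The quotient of a biextension by a compatible natural equivalence relation is a biextension
-/

universe u

open CategoryTheory Opposite
open K454.Glue

namespace K454.BX

variable {C : Type (u + 1)} [Category.{u} C] {J : GrothendieckTopology C}
variable {P Q G P'' G'' : Sheaf J AddCommGrpCat.{u + 1}}

namespace BQ

variable {B : Biext J P Q G} {α : P ⟶ P''} {γ : G ⟶ G''} (D : BQ B α γ)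

open Classical in
/-- first law on the quotient, total version -/
noncomputable def t₁ (T : C) (X Y : D.R.sh.obj.obj (op T)) : D.R.sh.obj.obj (op T) :=
  if h : D.pQ T X = D.pQ T Y then D.a₁ T X Y h else X

open Classical in
/-- second law on the quotient, total version -/
noncomputable def t₂ (T : C) (X Y : D.R.sh.obj.obj (op T)) : D.R.sh.obj.obj (op T) :=
  if h : D.pP T X = D.pP T Y then D.a₂ T X Y h else X

variable {D}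

theorem t₁_π {T : C} {x y : B.E.obj.obj (op T)} (h : B.πQ T x = B.πQ T y) :
    D.t₁ T (D.R.π T x) (D.R.π T y) = D.R.π T (ad₁ B T x y) := by
  have h' : D.pQ T (D.R.π T x) = D.pQ T (D.R.π T y) := by rw [D.pQ_π, D.pQ_π, h]
  rw [t₁, dif_pos h', ← D.a₁_spec h' (𝟙 T) (x := x) (y := y) (D.res_id' _).symm (D.res_id' _).symm, D.res_id']

theorem t₂_π {T : C} {x y : B.E.obj.obj (op T)} (h : B.πP T x = B.πP T y) :
    D.t₂ T (D.R.π T x) (D.R.π T y) = D.R.π T (ad₂ B T x y) := by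
  have h' : D.pP T (D.R.π T x) = D.pP T (D.R.π T y) := by rw [D.pP_π, D.pP_π, h]
  rw [t₂, dif_pos h', ← D.a₂_spec h' (𝟙 T) (x := x) (y := y) (D.res_id' _).symm (D.res_id' _).symm h, D.res_id']

theorem ac_π {T : C} {x : B.E.obj.obj (op T)} {k : G.obj.obj (op T)} :
    D.ac T (γ.hom.app (op T) k) (D.R.π T x) = D.R.π T (B.act T k x) := by
  rw [← D.ac_spec (g := γ.hom.app (op T) k) (X := D.R.π T x) (𝟙 T) (k := k) (x := x) (by rw [ares_id])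
    (D.res_id' _).symm, D.res_id']

theorem t₁_map {T T' : C} (f : T' ⟶ T) {X Y : D.R.sh.obj.obj (op T)} (h : D.pQ T X = D.pQ T Y) :
    D.R.sh.obj.map f.op (D.t₁ T X Y) = D.t₁ T' (D.R.sh.obj.map f.op X) (D.R.sh.obj.map f.op Y) := by
  have h' : D.pQ T' (D.R.sh.obj.map f.op X) = D.pQ T' (D.R.sh.obj.map f.op Y) := by rw [D.pQ_map, D.pQ_map, h]
  rw [t₁, dif_pos h, t₁, dif_pos h']
  obtain ⟨S, hS, hl⟩ := D.lift₂ (D.R.sh.obj.map f.op X) (D.R.sh.obj.map f.op Y)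
  refine ext_local D.R.sh S hS _ _ fun T'' g hg => ?_
  obtain ⟨x, y, hx, hy⟩ := hl g hg
  rw [D.a₁_spec h' g hx hy, D.res_res', D.a₁_spec h (g ≫ f) (by rw [hx, D.res_res']) (by rw [hy, D.res_res'])]

theorem t₂_map {T T' : C} (f : T' ⟶ T) {X Y : D.R.sh.obj.obj (op T)} (h : D.pP T X = D.pP T Y) :
    D.R.sh.obj.map f.op (D.t₂ T X Y) = D.t₂ T' (D.R.sh.obj.map f.op X) (D.R.sh.obj.map f.op Y) := by
  have h' : D.pP T' (D.R.sh.obj.map f.op X) = D.pP T' (D.R.sh.obj.map f.op Y) := by rw [D.pP_map, D.pP_map, h]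
  rw [t₂, dif_pos h, t₂, dif_pos h']
  obtain ⟨S, hS, hl⟩ := D.lift₂' (D.R.sh.obj.map f.op X) (D.R.sh.obj.map f.op Y) h'
  refine ext_local D.R.sh S hS _ _ fun T'' g hg => ?_
  obtain ⟨x, y, hx, hy, hxy⟩ := hl g hg
  rw [D.a₂_spec h' g hx hy hxy, D.res_res', D.a₂_spec h (g ≫ f) (by rw [hx, D.res_res']) (by rw [hy, D.res_res']) hxy]

/-- local lifts of a section of `G''` -/
theorem ac_map {T T' : C} (f : T' ⟶ T) (g : G''.obj.obj (op T)) (X : D.R.sh.obj.obj (op T)) :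
    D.R.sh.obj.map f.op (D.ac T g X) = D.ac T' (G''.obj.map f.op g) (D.R.sh.obj.map f.op X) := by
  obtain ⟨S₁, hS₁, h₁⟩ := D.hγ T' (G''.obj.map f.op g)
  obtain ⟨S₂, hS₂, h₂⟩ := D.R.π_surj T' (D.R.sh.obj.map f.op X)
  refine ext_local D.R.sh (S₁ ⊓ S₂) (J.intersection_covering hS₁ hS₂) _ _ fun T'' h hh => ?_
  obtain ⟨k, hk⟩ := h₁ h hh.1
  obtain ⟨x, hx⟩ := h₂ h hh.2
  rw [D.ac_spec h hk hx, D.res_res', D.ac_spec (h ≫ f) (by rw [hk, ares_res]) (by rw [hx, D.res_res'])]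

theorem pQ_ac {T : C} (g : G''.obj.obj (op T)) (X : D.R.sh.obj.obj (op T)) : D.pQ T (D.ac T g X) = D.pQ T X := by
  obtain ⟨S₁, hS₁, h₁⟩ := D.hγ T g
  obtain ⟨S₂, hS₂, h₂⟩ := D.R.π_surj T X
  refine aext_local Q (S₁ ⊓ S₂) (J.intersection_covering hS₁ hS₂) _ _ fun T'' h hh => ?_
  obtain ⟨k, hk⟩ := h₁ h hh.1
  obtain ⟨x, hx⟩ := h₂ h hh.2
  rw [← D.pQ_map, ← D.pQ_map, ac_map, ← hx, ← hk, ac_π, D.pQ_π, D.pQ_π, B.πQ_act]

theorem pP_ac {T : C} (g : G''.obj.obj (op T)) (X : D.R.sh.obj.obj (op T)) : D.pP T (D.ac T g X) = D.pP T X := by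
  obtain ⟨S₁, hS₁, h₁⟩ := D.hγ T g
  obtain ⟨S₂, hS₂, h₂⟩ := D.R.π_surj T X
  refine aext_local P'' (S₁ ⊓ S₂) (J.intersection_covering hS₁ hS₂) _ _ fun T'' h hh => ?_
  obtain ⟨k, hk⟩ := h₁ h hh.1
  obtain ⟨x, hx⟩ := h₂ h hh.2
  rw [← D.pP_map, ← D.pP_map, ac_map, ← hx, ← hk, ac_π, D.pP_π, D.pP_π, B.πP_act]

theorem pQ_t₁ {T : C} {X Y : D.R.sh.obj.obj (op T)} (h : D.pQ T X = D.pQ T Y) : D.pQ T (D.t₁ T X Y) = D.pQ T X := by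
  obtain ⟨S, hS, hl⟩ := D.lift₂ X Y
  refine aext_local Q S hS _ _ fun T' f hf => ?_
  obtain ⟨x, y, hx, hy⟩ := hl f hf
  have hxy : B.πQ T' x = B.πQ T' y := by rw [← D.pQ_π, ← D.pQ_π, hx, hy, D.pQ_map, D.pQ_map, h]
  rw [← D.pQ_map, ← D.pQ_map, t₁_map f h, ← hx, ← hy, t₁_π hxy, D.pQ_π, D.pQ_π, πQ_ad₁ hxy]

theorem pP_t₁ {T : C} {X Y : D.R.sh.obj.obj (op T)} (h : D.pQ T X = D.pQ T Y) :
    D.pP T (D.t₁ T X Y) = D.pP T X + D.pP T Y := by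
  obtain ⟨S, hS, hl⟩ := D.lift₂ X Y
  refine aext_local P'' S hS _ _ fun T' f hf => ?_
  obtain ⟨x, y, hx, hy⟩ := hl f hf
  have hxy : B.πQ T' x = B.πQ T' y := by rw [← D.pQ_π, ← D.pQ_π, hx, hy, D.pQ_map, D.pQ_map, h]
  have e : P''.obj.map f.op (D.pP T X + D.pP T Y) = P''.obj.map f.op (D.pP T X) + P''.obj.map f.op (D.pP T Y) :=
    map_add _ _ _
  rw [e, ← D.pP_map, ← D.pP_map, ← D.pP_map, t₁_map f h, ← hx, ← hy, t₁_π hxy, D.pP_π, D.pP_π, D.pP_π, πP_ad₁ hxy]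
  exact map_add _ _ _

theorem pP_t₂ {T : C} {X Y : D.R.sh.obj.obj (op T)} (h : D.pP T X = D.pP T Y) : D.pP T (D.t₂ T X Y) = D.pP T X := by
  obtain ⟨S, hS, hl⟩ := D.lift₂' X Y h
  refine aext_local P'' S hS _ _ fun T' f hf => ?_
  obtain ⟨x, y, hx, hy, hxy⟩ := hl f hf
  rw [← D.pP_map, ← D.pP_map, t₂_map f h, ← hx, ← hy, t₂_π hxy, D.pP_π, D.pP_π, πP_ad₂ hxy]

theorem pQ_t₂ {T : C} {X Y : D.R.sh.obj.obj (op T)} (h : D.pP T X = D.pP T Y) :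
    D.pQ T (D.t₂ T X Y) = D.pQ T X + D.pQ T Y := by
  obtain ⟨S, hS, hl⟩ := D.lift₂' X Y h
  refine aext_local Q S hS _ _ fun T' f hf => ?_
  obtain ⟨x, y, hx, hy, hxy⟩ := hl f hf
  have e : Q.obj.map f.op (D.pQ T X + D.pQ T Y) = Q.obj.map f.op (D.pQ T X) + Q.obj.map f.op (D.pQ T Y) :=
    map_add _ _ _
  rw [e, ← D.pQ_map, ← D.pQ_map, ← D.pQ_map, t₂_map f h, ← hx, ← hy, t₂_π hxy, D.pQ_π, D.pQ_π, D.pQ_π, πQ_ad₂ hxy]

/-- three lifts -/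
theorem _root_.K454.BX.BQ.lift₃ (D : BQ B α γ) {T : C} (X Y Z : D.R.sh.obj.obj (op T)) :
    ∃ S ∈ J T, ∀ ⦃T' : C⦄ (f : T' ⟶ T), S f →
    ∃ x y z : B.E.obj.obj (op T'), D.R.π T' x = D.R.sh.obj.map f.op X ∧ D.R.π T' y = D.R.sh.obj.map f.op Y ∧
      D.R.π T' z = D.R.sh.obj.map f.op Z := by
  obtain ⟨S, hS, h⟩ := D.lift₂ X Y
  obtain ⟨S', hS', h'⟩ := D.R.π_surj T Z
  refine ⟨S ⊓ S', J.intersection_covering hS hS', fun T' f hf => ?_⟩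
  obtain ⟨x, y, hx, hy⟩ := h f hf.1
  obtain ⟨z, hz⟩ := h' f hf.2
  exact ⟨x, y, z, hx, hy, hz⟩

theorem _root_.K454.BX.BQ.lift₃' (D : BQ B α γ) {T : C} (X Y Z : D.R.sh.obj.obj (op T)) (h : D.pP T X = D.pP T Y)
    (h' : D.pP T X = D.pP T Z) :
    ∃ S ∈ J T, ∀ ⦃T' : C⦄ (f : T' ⟶ T), S f →
    ∃ x y z : B.E.obj.obj (op T'), D.R.π T' x = D.R.sh.obj.map f.op X ∧ D.R.π T' y = D.R.sh.obj.map f.op Y ∧
      D.R.π T' z = D.R.sh.obj.map f.op Z ∧ B.πP T' x = B.πP T' y ∧ B.πP T' x = B.πP T' z := by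
  obtain ⟨S, hS, h1⟩ := D.R.π_surj T X
  refine bind S hS ?_ fun T' f hf => ?_
  · rintro T' T'' f g ⟨x, y, z, h2, h3, h3', h4, h4'⟩
    exact ⟨B.E.obj.map g.op x, B.E.obj.map g.op y, B.E.obj.map g.op z, by rw [← D.R.π_map, h2, D.res_res'],
      by rw [← D.R.π_map, h3, D.res_res'], by rw [← D.R.π_map, h3', D.res_res'], by rw [B.πP_map, B.πP_map, h4],
      by rw [B.πP_map, B.πP_map, h4']⟩
  · obtain ⟨x, hx⟩ := h1 f hf
    obtain ⟨S', hS', h2⟩ := D.lift_move x (D.R.sh.obj.map f.op Y) (by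
      rw [← D.pP_π, hx, D.pP_map, D.pP_map, h])
    obtain ⟨S'', hS'', h2'⟩ := D.lift_move x (D.R.sh.obj.map f.op Z) (by
      rw [← D.pP_π, hx, D.pP_map, D.pP_map, h'])
    refine ⟨S' ⊓ S'', J.intersection_covering hS' hS'', fun T'' g hg => ?_⟩
    obtain ⟨y, h3, h4⟩ := h2 g hg.1
    obtain ⟨z, h5, h6⟩ := h2' g hg.2
    exact ⟨B.E.obj.map g.op x, y, z, by rw [← D.R.π_map, hx, D.res_res'], by rw [h3, D.res_res'],
      by rw [h5, D.res_res'], h4.symm, h6.symm⟩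

theorem ac_free {T : C} {g g' : G''.obj.obj (op T)} {X : D.R.sh.obj.obj (op T)} (h : D.ac T g X = D.ac T g' X) :
    g = g' := by
  obtain ⟨S₁, hS₁, h₁⟩ := D.hγ T g
  obtain ⟨S₁', hS₁', h₁'⟩ := D.hγ T g'
  obtain ⟨S₂, hS₂, h₂⟩ := D.R.π_surj T X
  refine aext_local G'' (S₁ ⊓ S₁' ⊓ S₂) (J.intersection_covering (J.intersection_covering hS₁ hS₁') hS₂) _ _
    fun T' f hf => ?_
  obtain ⟨k, hk⟩ := h₁ f hf.1.1
  obtain ⟨k', hk'⟩ := h₁' f hf.1.2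
  obtain ⟨x, hx⟩ := h₂ f hf.2
  have e := congrArg (D.R.sh.obj.map f.op) h
  rw [ac_map, ac_map, ← hx, ← hk, ← hk', ac_π, ac_π] at e
  obtain ⟨S, hS, h3⟩ := D.R.of_π_eq e
  rw [← hk, ← hk']
  refine aext_local G'' S hS _ _ fun T'' f' hf' => ?_
  have h4 := h3 f' hf'
  rw [B.act_map, B.act_map] at h4
  have h5 := D.rAct (- G.obj.map f'.op k') h4
  rw [act_neg_act, ← B.add_act] at h5
  have h6 := D.rFree _ _ h5
  have e1 : γ.hom.app (op T'') (-G.obj.map f'.op k' + G.obj.map f'.op k) =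
    - γ.hom.app (op T'') (G.obj.map f'.op k') + γ.hom.app (op T'') (G.obj.map f'.op k) :=
      (map_add _ _ _).trans (congrArg (· + _) (map_neg _ _))
  rw [e1, neg_add_eq_zero] at h6
  rw [nat_apply, nat_apply, h6]

theorem ac_add {T : C} (g g' : G''.obj.obj (op T)) (X : D.R.sh.obj.obj (op T)) :
    D.ac T (g + g') X = D.ac T g (D.ac T g' X) := by
  obtain ⟨S₁, hS₁, h₁⟩ := D.hγ T g
  obtain ⟨S₁', hS₁', h₁'⟩ := D.hγ T g'
  obtain ⟨S₂, hS₂, h₂⟩ := D.R.π_surj T X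
  refine ext_local D.R.sh (S₁ ⊓ S₁' ⊓ S₂) (J.intersection_covering (J.intersection_covering hS₁ hS₁') hS₂) _ _
    fun T' f hf => ?_
  obtain ⟨k, hk⟩ := h₁ f hf.1.1
  obtain ⟨k', hk'⟩ := h₁' f hf.1.2
  obtain ⟨x, hx⟩ := h₂ f hf.2
  have e1 : G''.obj.map f.op (g + g') = γ.hom.app (op T') (k + k') := by
    refine (map_add _ _ _).trans ((congrArg₂ (fun a b : G''.obj.obj (op T') => a + b) hk.symm hk'.symm).trans
      (map_add _ _ _).symm)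
  rw [ac_map, ac_map, ac_map, ← hx, e1, ← hk, ← hk', ac_π, ac_π, ac_π, B.add_act]

theorem ac_zero {T : C} (X : D.R.sh.obj.obj (op T)) : D.ac T 0 X = X := by
  obtain ⟨S₂, hS₂, h₂⟩ := D.R.π_surj T X
  refine ext_local D.R.sh S₂ hS₂ _ _ fun T' f hf => ?_
  obtain ⟨x, hx⟩ := h₂ f hf
  have e1 : G''.obj.map f.op 0 = γ.hom.app (op T') 0 := (map_zero _).trans (map_zero _).symm
  rw [ac_map, ← hx, e1, ac_π, B.zero_act]

theorem exists_ac {T : C} (X Y : D.R.sh.obj.obj (op T)) (hP : D.pP T X = D.pP T Y) (hQ : D.pQ T X = D.pQ T Y) :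
    ∃ g : G''.obj.obj (op T), D.ac T g X = Y := by
  obtain ⟨S, hS, hex⟩ : ∃ S ∈ J T, ∀ ⦃T' : C⦄ (f : T' ⟶ T), S f → ∃ g : G''.obj.obj (op T'),
      D.ac T' g (D.R.sh.obj.map f.op X) = D.R.sh.obj.map f.op Y := by
    obtain ⟨S, hS, hl⟩ := D.lift₂ X Y
    refine bind S hS ?_ fun T' f hf => ?_
    · rintro T' T'' f h ⟨g, hg⟩
      exact ⟨G''.obj.map h.op g, by rw [← D.res_res', ← ac_map, hg, D.res_res']⟩
    · obtain ⟨x, y, hx, hy⟩ := hl f hf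
      obtain ⟨S', hS', h2⟩ := D.rTrans x y
        (by rw [← D.pP_π, ← D.pP_π, hx, hy, D.pP_map, D.pP_map, hP])
        (by rw [← D.pQ_π, ← D.pQ_π, hx, hy, D.pQ_map, D.pQ_map, hQ])
      refine ⟨S', hS', fun T'' h hh => ?_⟩
      obtain ⟨k, hk⟩ := h2 h hh
      refine ⟨γ.hom.app (op T'') k, ?_⟩
      rw [← D.res_res', ← D.res_res', ← hx, ← hy, D.R.π_map, D.R.π_map, ac_π, D.R.π_eq hk]
  obtain ⟨g, hg⟩ := aglue G'' (T := T) (fun T' f g => D.ac T' g (D.R.sh.obj.map f.op X) = D.R.sh.obj.map f.op Y)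
    (by
      intro T' T'' f h g hg
      rw [← D.res_res', ← ac_map, hg, D.res_res'])
    (by
      intro T' f g g' h h'
      exact ac_free (h.trans h'.symm))
    S hS hex
  refine ⟨g, ext_local D.R.sh S hS _ _ fun T' f hf => ?_⟩
  rw [ac_map, hg f hf]

theorem t₁_comm {T : C} {X Y : D.R.sh.obj.obj (op T)} (h : D.pQ T X = D.pQ T Y) : D.t₁ T X Y = D.t₁ T Y X := by
  obtain ⟨S, hS, hl⟩ := D.lift₂ X Y
  refine ext_local D.R.sh S hS _ _ fun T' f hf => ?_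
  obtain ⟨x, y, hx, hy⟩ := hl f hf
  have hxy : B.πQ T' x = B.πQ T' y := by rw [← D.pQ_π, ← D.pQ_π, hx, hy, D.pQ_map, D.pQ_map, h]
  rw [t₁_map f h, t₁_map f h.symm, ← hx, ← hy, t₁_π hxy, t₁_π hxy.symm, ad₁_comm hxy]

theorem t₂_comm {T : C} {X Y : D.R.sh.obj.obj (op T)} (h : D.pP T X = D.pP T Y) : D.t₂ T X Y = D.t₂ T Y X := by
  obtain ⟨S, hS, hl⟩ := D.lift₂' X Y h
  refine ext_local D.R.sh S hS _ _ fun T' f hf => ?_
  obtain ⟨x, y, hx, hy, hxy⟩ := hl f hf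
  rw [t₂_map f h, t₂_map f h.symm, ← hx, ← hy, t₂_π hxy, t₂_π hxy.symm, ad₂_comm hxy]

theorem t₁_assoc {T : C} {X Y Z : D.R.sh.obj.obj (op T)} (h : D.pQ T X = D.pQ T Y) (h' : D.pQ T Y = D.pQ T Z) :
    D.t₁ T (D.t₁ T X Y) Z = D.t₁ T X (D.t₁ T Y Z) := by
  obtain ⟨S, hS, hl⟩ := D.lift₃ X Y Z
  refine ext_local D.R.sh S hS _ _ fun T' f hf => ?_
  obtain ⟨x, y, z, hx, hy, hz⟩ := hl f hf
  have hxy : B.πQ T' x = B.πQ T' y := by rw [← D.pQ_π, ← D.pQ_π, hx, hy, D.pQ_map, D.pQ_map, h]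
  have hyz : B.πQ T' y = B.πQ T' z := by rw [← D.pQ_π, ← D.pQ_π, hz, hy, D.pQ_map, D.pQ_map, h']
  rw [t₁_map f ((pQ_t₁ h).trans (h.trans h')), t₁_map f h, t₁_map f (h.trans (pQ_t₁ h').symm), t₁_map f h',
    ← hx, ← hy, ← hz, t₁_π hxy, t₁_π hyz, t₁_π ((πQ_ad₁ hxy).trans (hxy.trans hyz)),
    t₁_π (hxy.trans (πQ_ad₁ hyz).symm), ad₁_assoc hxy hyz]

theorem t₂_assoc {T : C} {X Y Z : D.R.sh.obj.obj (op T)} (h : D.pP T X = D.pP T Y) (h' : D.pP T Y = D.pP T Z) :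
    D.t₂ T (D.t₂ T X Y) Z = D.t₂ T X (D.t₂ T Y Z) := by
  obtain ⟨S, hS, hl⟩ := D.lift₃' X Y Z h (h.trans h')
  refine ext_local D.R.sh S hS _ _ fun T' f hf => ?_
  obtain ⟨x, y, z, hx, hy, hz, hxy, hxz⟩ := hl f hf
  have hyz : B.πP T' y = B.πP T' z := hxy.symm.trans hxz
  rw [t₂_map f ((pP_t₂ h).trans (h.trans h')), t₂_map f h, t₂_map f (h.trans (pP_t₂ h').symm), t₂_map f h',
    ← hx, ← hy, ← hz, t₂_π hxy, t₂_π hyz, t₂_π ((πP_ad₂ hxy).trans (hxy.trans hyz)),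
    t₂_π (hxy.trans (πP_ad₂ hyz).symm), ad₂_assoc hxy hyz]

theorem t₁_ac {T : C} (g : G''.obj.obj (op T)) {X Y : D.R.sh.obj.obj (op T)} (h : D.pQ T X = D.pQ T Y) :
    D.t₁ T (D.ac T g X) Y = D.ac T g (D.t₁ T X Y) := by
  obtain ⟨S₁, hS₁, h₁⟩ := D.hγ T g
  obtain ⟨S, hS, hl⟩ := D.lift₂ X Y
  refine ext_local D.R.sh (S₁ ⊓ S) (J.intersection_covering hS₁ hS) _ _ fun T' f hf => ?_
  obtain ⟨k, hk⟩ := h₁ f hf.1
  obtain ⟨x, y, hx, hy⟩ := hl f hf.2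
  have hxy : B.πQ T' x = B.πQ T' y := by rw [← D.pQ_π, ← D.pQ_π, hx, hy, D.pQ_map, D.pQ_map, h]
  rw [t₁_map f ((pQ_ac g X).trans h), ac_map, ac_map, t₁_map f h, ← hx, ← hy, ← hk, ac_π, t₁_π hxy, ac_π,
    t₁_π ((B.πQ_act _ _ _).trans hxy), ad₁_act _ hxy]

theorem t₂_ac {T : C} (g : G''.obj.obj (op T)) {X Y : D.R.sh.obj.obj (op T)} (h : D.pP T X = D.pP T Y) :
    D.t₂ T (D.ac T g X) Y = D.ac T g (D.t₂ T X Y) := by
  obtain ⟨S₁, hS₁, h₁⟩ := D.hγ T g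
  obtain ⟨S, hS, hl⟩ := D.lift₂' X Y h
  refine ext_local D.R.sh (S₁ ⊓ S) (J.intersection_covering hS₁ hS) _ _ fun T' f hf => ?_
  obtain ⟨k, hk⟩ := h₁ f hf.1
  obtain ⟨x, y, hx, hy, hxy⟩ := hl f hf.2
  rw [t₂_map f ((pP_ac g X).trans h), ac_map, ac_map, t₂_map f h, ← hx, ← hy, ← hk, ac_π, t₂_π hxy, ac_π,
    t₂_π ((B.πP_act _ _ _).trans hxy), ad₂_act _ hxy]

theorem t_compat {T : C} {X Y Z W : D.R.sh.obj.obj (op T)} (hXY : D.pP T X = D.pP T Y) (hZW : D.pP T Z = D.pP T W)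
    (hXZ : D.pQ T X = D.pQ T Z) (hYW : D.pQ T Y = D.pQ T W) :
    D.t₁ T (D.t₂ T X Y) (D.t₂ T Z W) = D.t₂ T (D.t₁ T X Z) (D.t₁ T Y W) := by
  obtain ⟨S, hS, hl⟩ := D.lift₂' X Y hXY
  obtain ⟨S', hS', hl'⟩ := D.lift₂' Z W hZW
  refine ext_local D.R.sh (S ⊓ S') (J.intersection_covering hS hS') _ _ fun T' f hf => ?_
  obtain ⟨x, y, hx, hy, hxy⟩ := hl f hf.1
  obtain ⟨z, w, hz, hw, hzw⟩ := hl' f hf.2
  have hxz : B.πQ T' x = B.πQ T' z := by rw [← D.pQ_π, ← D.pQ_π, hx, hz, D.pQ_map, D.pQ_map, hXZ]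
  have hyw : B.πQ T' y = B.πQ T' w := by rw [← D.pQ_π, ← D.pQ_π, hy, hw, D.pQ_map, D.pQ_map, hYW]
  have h1 : D.pQ T (D.t₂ T X Y) = D.pQ T (D.t₂ T Z W) := by rw [pQ_t₂ hXY, pQ_t₂ hZW, hXZ, hYW]
  have h2 : D.pP T (D.t₁ T X Z) = D.pP T (D.t₁ T Y W) := by rw [pP_t₁ hXZ, pP_t₁ hYW, hXY, hZW]
  have h3 : B.πQ T' (ad₂ B T' x y) = B.πQ T' (ad₂ B T' z w) := by rw [πQ_ad₂ hxy, πQ_ad₂ hzw, hxz, hyw]
  have h4 : B.πP T' (ad₁ B T' x z) = B.πP T' (ad₁ B T' y w) := by rw [πP_ad₁ hxz, πP_ad₁ hyw, hxy, hzw]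
  rw [t₁_map f h1, t₂_map f h2, t₁_map f hXZ, t₁_map f hYW, t₂_map f hXY, t₂_map f hZW, ← hx, ← hy, ← hz, ← hw,
    t₂_π hxy, t₂_π hzw, t₁_π hxz, t₁_π hyw, t₁_π h3, t₂_π h4, compat' hxy hzw hxz hyw]

variable (D)

/-- The quotient biextension. -/
noncomputable def quot : Biext J P'' Q G'' where
  E := D.R.sh
  πP := D.pP
  πQ := D.pQ
  πP_map := D.pP_map
  πQ_map := D.pQ_map
  act := D.ac
  act_map := ac_map
  πP_act _ := pP_ac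
  πQ_act _ := pQ_ac
  zero_act _ := ac_zero
  add_act _ := ac_add
  existsUnique_act T X Y hP hQ := by
    obtain ⟨g, hg⟩ := exists_ac X Y hP hQ
    exact ⟨g, hg, fun g' hg' => ac_free (hg'.trans hg.symm)⟩
  locallySurjective T p q := by
    obtain ⟨S, hS, h⟩ := D.hα T p
    refine bind S hS ?_ fun T' f hf => ?_
    · rintro T' T'' f g ⟨X, h1, h2⟩
      exact ⟨D.R.sh.obj.map g.op X, by rw [D.pP_map, h1, ares_res], by rw [D.pQ_map, h2, ares_res]⟩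
    · obtain ⟨p', hp'⟩ := h f hf
      obtain ⟨S', hS', h2⟩ := B.locallySurjective T' p' (Q.obj.map f.op q)
      refine ⟨S', hS', fun T'' g hg => ?_⟩
      obtain ⟨x, h3, h4⟩ := h2 g hg
      exact ⟨D.R.π T'' x, by rw [D.pP_π, h3, ← nat_apply, hp', ares_res], by rw [D.pQ_π, h4, ares_res]⟩
  add₁ T X Y _ := D.t₁ T X Y
  πP_add₁ _ _ _ h := pP_t₁ h
  πQ_add₁ _ _ _ h := pQ_t₁ h
  add₁_map f _ _ h := t₁_map f h
  add₁_comm _ _ _ h := t₁_comm h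
  add₁_assoc _ _ _ _ h h' := t₁_assoc h h'
  add₁_act _ g _ _ h := t₁_ac g h
  add₂ T X Y _ := D.t₂ T X Y
  πP_add₂ _ _ _ h := pP_t₂ h
  πQ_add₂ _ _ _ h := pQ_t₂ h
  add₂_map f _ _ h := t₂_map f h
  add₂_comm _ _ _ h := t₂_comm h
  add₂_assoc _ _ _ _ h h' := t₂_assoc h h'
  add₂_act _ g _ _ h := t₂_ac g h
  compat _ _ _ _ _ h1 h2 h3 h4 := t_compat h1 h2 h3 h4

/-- The morphism from `B` to its quotient. -/
noncomputable def toQuot : Biext.HomOver J α (𝟙 Q) γ B D.quot where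
  map := D.R.π
  map_res f x := (D.R.π_map f x).symm
  πP_map T x := D.pP_π x
  πQ_map T x := D.pQ_π x
  map_act T g x := (ac_π (D := D) (k := g) (x := x)).symm
  map_add₁ T x y h := by
    rw [← ad₁_eq B h]
    exact (t₁_π (D := D) h).symm
  map_add₂ T x y h := by
    rw [← ad₂_eq B h]
    exact (t₂_π (D := D) h).symm

end BQ

end K454.BX
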