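import Groth.Agent.AbSch.K454.Pull

/-!
# Reduction of the structure group: a biextension by `G` whose image by `γ : G ⟶ G''` is trivial comes from the kernel of `γ`
-/

universe u

open CategoryTheory Opposite MonoidalCategory
open K454.Glue

namespace K454.BX

variable {C : Type (u + 1)} [Category.{u} C] {J : GrothendieckTopology C}
variable {P Q G G' G'' : Sheaf J AddCommGrpCat.{u + 1}}

section Reduce

variable {B : Biext J P Q G} {B₁ : Biext J P Q G''} {ι : G' ⟶ G} {γ : G ⟶ G''}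
  (ψ : Biext.HomOver J (𝟙 P) (𝟙 Q) γ B B₁) (s : Biext.Splitting J B₁)

/-- sections of `B` whose image is the splitting of `B₁` -/
def redPre : Cᵒᵖ ⥤ Type (u + 1) where
  obj T := {x : B.E.obj.obj T // ψ.map T.unop x = s.σ T.unop (B.πP T.unop x) (B.πQ T.unop x)}
  map {T T'} f := TypeCat.ofHom fun x => ⟨B.E.obj.map f x.1, by
    refine (ψ.map_res f.unop x.1).trans ?_
    rw [x.2]
    refine (s.σ_map f.unop _ _).trans ?_
    exact congrArg₂ (s.σ T'.unop) (B.πP_map f.unop x.1).symm (B.πQ_map f.unop x.1).symm⟩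
  map_id T := ConcreteCategory.hom_ext _ _ fun t => Subtype.ext (res_id B (T := T.unop) t.1)
  map_comp {T T' T''} f g := ConcreteCategory.hom_ext _ _ fun t => Subtype.ext (res_res B f.unop g.unop t.1).symm

theorem isSheaf_redPre : Presheaf.IsSheaf J (redPre ψ s) := by
  let i : redPre ψ s ⟶ B.E.obj := { app := fun T => TypeCat.ofHom fun x => x.1 }
  refine isSheaf_of_injective_of_local B.E i (fun T x y h => Subtype.ext h) ?_
  intro T x R hR h
  refine ⟨⟨x, ?_⟩, rfl⟩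
  refine ext_local B₁.E R hR _ _ fun T' f hf => ?_
  obtain ⟨y, hy⟩ := h f hf
  have hy' : y.1 = B.E.obj.map f.op x := hy
  have h1 := y.2
  rw [hy'] at h1
  refine (ψ.map_res f x).symm.trans (h1.trans ?_)
  refine (congrArg₂ (s.σ T') (B.πP_map f x) (B.πQ_map f x)).trans ?_
  exact (s.σ_map f _ _).symm

/-- The reduction of `B` to the kernel of `γ`. -/
noncomputable def reduce (hγ : LocSurj γ) (hι : ∀ T : C, Function.Injective (ι.hom.app (op T)))
    (h0 : ∀ (T : C) (p : G'.obj.obj (op T)), γ.hom.app (op T) (ι.hom.app (op T) p) = 0)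
    (hex : ∀ (T : C) (p : G.obj.obj (op T)), γ.hom.app (op T) p = 0 → ∃ p' : G'.obj.obj (op T), ι.hom.app (op T) p' = p) :
    Biext J P Q G' where
  E := ⟨redPre ψ s, isSheaf_redPre ψ s⟩
  πP T x := B.πP T x.1
  πQ T x := B.πQ T x.1
  πP_map f x := B.πP_map f x.1
  πQ_map f x := B.πQ_map f x.1
  act T g x := ⟨B.act T (ι.hom.app (op T) g) x.1, by
    rw [ψ.map_act, h0, B₁.zero_act, B.πP_act, B.πQ_act]; exact x.2⟩
  act_map f g x := Subtype.ext ((B.act_map f _ x.1).trans (by rw [nat_apply]; rfl))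
  πP_act T g x := B.πP_act T _ x.1
  πQ_act T g x := B.πQ_act T _ x.1
  zero_act T x := Subtype.ext ((congrArg (fun t => B.act T t x.1) (map_zero (ι.hom.app (op T)).hom)).trans (B.zero_act T x.1))
  add_act T g g' x := Subtype.ext ((congrArg (fun t => B.act T t x.1) (map_add (ι.hom.app (op T)).hom g g')).trans
    (B.add_act T _ _ x.1))
  existsUnique_act T x y hP hQ := by
    obtain ⟨g, hg⟩ := exists_act hP hQ
    have h1 : γ.hom.app (op T) g = 0 := by
      refine act_eq_self (B := B₁) (x := ψ.map T x.1) ?_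
      rw [← ψ.map_act, hg, x.2, y.2, hP, hQ]
    obtain ⟨g', hg'⟩ := hex T g h1
    refine ⟨g', Subtype.ext ((congrArg (fun t => B.act T t x.1) hg').trans hg), fun k hk => hι T ?_⟩
    have hk' : B.act T (ι.hom.app (op T) k) x.1 = y.1 := congrArg Subtype.val hk
    rw [hg']
    exact act_inj (B := B) (hk'.trans hg.symm)
  locallySurjective T p q := by
    obtain ⟨R, hR, hex⟩ := B.locallySurjective T p q
    refine BQ.bind R hR ?_ fun T' f hf => ?_
    · rintro T' T'' f g ⟨x, h1, h2⟩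
      exact ⟨(redPre ψ s).map g.op x, (B.πP_map g x.1).trans (by rw [h1, ares_res]),
        (B.πQ_map g x.1).trans (by rw [h2, ares_res])⟩
    · obtain ⟨x, h1, h2⟩ := hex f hf
      obtain ⟨g, hg⟩ := exists_act (B := B₁) (T := T') (x := ψ.map T' x) (y := s.σ T' (B.πP T' x) (B.πQ T' x))
        (by rw [ψ.πP_map, s.πP_σ]; rfl) (by rw [ψ.πQ_map, s.πQ_σ]; rfl)
      obtain ⟨R', hR', hex'⟩ := hγ T' g
      refine ⟨R', hR', fun T'' f' hf' => ?_⟩
      obtain ⟨k, hk⟩ := hex' f' hf'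
      refine ⟨⟨B.act T'' k (B.E.obj.map f'.op x), ?_⟩, ?_, ?_⟩
      · rw [ψ.map_act, hk, ψ.map_res, ← B₁.act_map, hg, s.σ_map, B.πP_act, B.πQ_act, B.πP_map, B.πQ_map]
      · change B.πP T'' (B.act T'' k (B.E.obj.map f'.op x)) = _
        rw [B.πP_act, B.πP_map, h1, ares_res]
      · change B.πQ T'' (B.act T'' k (B.E.obj.map f'.op x)) = _
        rw [B.πQ_act, B.πQ_map, h2, ares_res]
  add₁ T x z h := ⟨B.add₁ T x.1 z.1 h, by
    have e : s.σ T (B.πP T z.1) (B.πQ T x.1) = s.σ T (B.πP T z.1) (B.πQ T z.1) := congrArg _ h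
    rw [ψ.map_add₁, B.πP_add₁, B.πQ_add₁, s.σ_add₁]
    simp only [x.2, z.2, e]⟩
  πP_add₁ T x z h := B.πP_add₁ T _ _ h
  πQ_add₁ T x z h := B.πQ_add₁ T _ _ h
  add₁_map f x z h := Subtype.ext (B.add₁_map f _ _ _)
  add₁_comm T x z h := Subtype.ext (B.add₁_comm T _ _ _)
  add₁_assoc T x z w _ _ := Subtype.ext (B.add₁_assoc T _ _ _ _ _)
  add₁_act T g x z _ := Subtype.ext (B.add₁_act T _ _ _ _)
  add₂ T x z h := ⟨B.add₂ T x.1 z.1 h, by
    have e : s.σ T (B.πP T x.1) (B.πQ T z.1) = s.σ T (B.πP T z.1) (B.πQ T z.1) := congrArg (fun t => s.σ T t _) h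
    rw [ψ.map_add₂, B.πP_add₂, B.πQ_add₂, s.σ_add₂]
    simp only [x.2, z.2, e]⟩
  πP_add₂ T x z h := B.πP_add₂ T _ _ h
  πQ_add₂ T x z h := B.πQ_add₂ T _ _ h
  add₂_map f x z h := Subtype.ext (B.add₂_map f _ _ _)
  add₂_comm T x z h := Subtype.ext (B.add₂_comm T _ _ _)
  add₂_assoc T x z w _ _ := Subtype.ext (B.add₂_assoc T _ _ _ _ _)
  add₂_act T g x z _ := Subtype.ext (B.add₂_act T _ _ _ _)
  compat T x y z t _ _ _ _ := Subtype.ext (B.compat T _ _ _ _ _ _ _ _)

include ψ s in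
/-- If the image of `B` by `γ : G ⟶ G''` is trivial, then `B` is the image by `ι : G' ⟶ G` (kernel of `γ`) of a
biextension by `G'`. -/
theorem exists_reduce (hγ : LocSurj γ) (hι : ∀ T : C, Function.Injective (ι.hom.app (op T)))
    (h0 : ∀ (T : C) (p : G'.obj.obj (op T)), γ.hom.app (op T) (ι.hom.app (op T) p) = 0)
    (hex : ∀ (T : C) (p : G.obj.obj (op T)), γ.hom.app (op T) p = 0 → ∃ p' : G'.obj.obj (op T), ι.hom.app (op T) p' = p) :
    ∃ B' : Biext J P Q G', Nonempty (Biext.HomOver J (𝟙 P) (𝟙 Q) ι B' B) :=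
  ⟨reduce ψ s hγ hι h0 hex, ⟨
    { map := fun _ x => x.1
      map_res := fun _ _ => rfl
      πP_map := fun _ _ => rfl
      πQ_map := fun _ _ => rfl
      map_act := fun _ _ _ => rfl
      map_add₁ := fun _ _ _ _ => rfl
      map_add₂ := fun _ _ _ _ => rfl }⟩⟩

end Reduce

end K454.BX
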