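import Groth.Agent.AbSch.K454.Main
import Groth.Agent.AbSch.K454.AbSh

/-!
# `Ext¹(P, 𝓗om(Q, G)) = 0` and `Hom(P, 𝓔xt¹(Q, G)) = 0` give triviality of biextensions of `(P, Q)` by `G`
-/

universe u

open CategoryTheory CategoryTheory.Limits CategoryTheory.Abelian Opposite
open K454.Glue

namespace K454.BX

variable {C : Type (u + 1)} [Category.{u} C] {J : GrothendieckTopology C}
variable {P Q G P' : Sheaf J AddCommGrpCat.{u + 1}}

/-- if every morphism `P ⟶ 𝓔xt¹(Q, G)` is zero then every biextension of `(P, Q)` by `G` splits over `Q` locally on `P` -/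
theorem locSurj_Fπ [HasInjectiveResolutions (Sheaf J AddCommGrpCat.{u + 1})] (B : Biext J P Q G)
    (h₂ : ∀ φ : P ⟶ (HomSh.extSh J Q 1).obj G, φ = 0) : LocSurj (Fπ B) := by
  obtain ⟨φ, hφ⟩ := exists_class B
  have h0 := h₂ φ
  intro T p
  exact hφ T p (by rw [h0]; rfl)

/-- the triviality criterion -/
theorem isTrivial_of_vanish [HasInjectiveResolutions (Sheaf J AddCommGrpCat.{u + 1})]
    [HasExt.{u + 1} (Sheaf J AddCommGrpCat.{u + 1})] (B : Biext J P Q G)
    (h₁ : ∀ e : Ext P (HomSh.homSh J Q G) 1, e = 0)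
    (h₂ : ∀ φ : P ⟶ (HomSh.extSh J Q 1).obj G, φ = 0) : Biext.IsTrivial J B := by
  have hS := shortExact_of_sections (Fι B) (Fπ B) (Fι_Fπ B) (Fι_inj B) (F_exact B) (locSurj_Fπ B h₂)
  obtain ⟨t, ht⟩ := ExtSplit.exists_section _ hS h₁
  exact ⟨(PSplit.ofLift B t ht).toSplitting⟩

end K454.BX
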