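import Groth.Agent.AbSch.K454.Reduce
import Groth.Agent.AbSch.K454.PtsBiadd
import Groth.Agent.AbSch.K454.Triv
import Groth.Agent.AbSch.K454.AbSh

/-!
# Dévissage of biextensions along short exact sequences

`P' → P → P''`, `Q' → Q → Q''`, `G' → G → G''` short exact sequences of abelian sheaves.
-/

universe w v u

open CategoryTheory CategoryTheory.Limits CategoryTheory.Abelian Opposite
open K454.Glue

namespace K454.BX

section Abs

variable {A : Type u} [Category.{v} A] [Abelian A]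

/-- `Hom(X₂, H) = 0` if `Hom(X₁, H) = 0` and `Hom(X₃, H) = 0` -/
theorem hom_zero_of_shortExact {S : ShortComplex A} (hS : S.ShortExact) {H : A} (h₁ : ∀ φ : S.X₁ ⟶ H, φ = 0)
    (h₃ : ∀ φ : S.X₃ ⟶ H, φ = 0) (φ : S.X₂ ⟶ H) : φ = 0 := by
  have := hS.epi_g
  obtain ⟨k, hk⟩ := CokernelCofork.IsColimit.desc' hS.gIsCokernel φ (h₁ _)
  have hk' : S.g ≫ k = φ := hk
  rw [← hk', h₃ k, comp_zero]

/-- `Ext¹(X₂, H) = 0` if `Ext¹(X₁, H) = 0` and `Ext¹(X₃, H) = 0` -/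
theorem ext_zero_of_shortExact [HasExt.{w} A] {S : ShortComplex A} (hS : S.ShortExact) {H : A}
    (h₁ : ∀ e : Ext.{w} S.X₁ H 1, e = 0) (h₃ : ∀ e : Ext.{w} S.X₃ H 1, e = 0) (e : Ext.{w} S.X₂ H 1) : e = 0 := by
  obtain ⟨x, hx⟩ := Ext.contravariant_sequence_exact₂ hS H e (h₁ _)
  rw [← hx, h₃ x, Ext.comp_zero]

end Abs

variable {C : Type (u + 1)} [Category.{u} C] {J : GrothendieckTopology C}
variable {P Q G P' Q' P'' Q'' G' G'' : Sheaf J AddCommGrpCat.{u + 1}}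

theorem hom_zero_swap (h : ∀ φ : P ⟶ HomSh.homSh J Q G, φ = 0) (ψ : Q ⟶ HomSh.homSh J P G) : ψ = 0 := by
  refine Biadd.eq_zero_of_ofHom ψ fun T q p => ?_
  exact Biadd.b_eq_zero_of_toHom (Biadd.ofHom ψ).swap (h _) T p q

theorem hom_zero_of_isZero {H : Sheaf J AddCommGrpCat.{u + 1}} (h : IsZero H) (φ : P ⟶ H) : φ = 0 := h.eq_of_tgt _ _

theorem ext_zero_of_isZero [HasExt.{u + 1} (Sheaf J AddCommGrpCat.{u + 1})] {H : Sheaf J AddCommGrpCat.{u + 1}}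
    (h : IsZero H) (e : Ext P H 1) : e = 0 := by
  have h1 : e.comp (Ext.mk₀ (𝟙 H)) (add_zero 1) = 0 := by
    rw [h.eq_of_src (𝟙 H) 0, Ext.mk₀_zero, Ext.comp_zero]
  rwa [Ext.comp_mk₀_id] at h1

/-- The four conditions used in the descent, from a short exact sequence. -/
theorem sections_of_shortExact {f : P' ⟶ P} {g : P ⟶ P''} {w : f ≫ g = 0} (h : (ShortComplex.mk f g w).ShortExact) :
    LocSurj g ∧ (∀ T : C, Function.Injective (f.hom.app (op T))) ∧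
    (∀ (T : C) (p : P'.obj.obj (op T)), g.hom.app (op T) (f.hom.app (op T) p) = 0) ∧
    (∀ (T : C) (p : P.obj.obj (op T)), g.hom.app (op T) p = 0 → ∃ p' : P'.obj.obj (op T), f.hom.app (op T) p' = p) := by
  have := h.mono_f
  have := h.epi_g
  have h1 : Epi g := h.epi_g
  have h2 : Mono f := h.mono_f
  refine ⟨locSurj_of_epi g, fun T => injective_of_mono f T, fun T p => ?_, fun T p hp => ?_⟩
  · have h3 : (f ≫ g).hom.app (op T) p = 0 := by rw [w]; rfl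
    exact h3
  · exact exists_of_exact_of_mono _ h.exact p hp

/-- **Dévissage, first two variables**: `B` biextension of `(P, Q)` by `G`, whose restrictions to `(P', Q)` is
trivial, and such that every biextension of `(P'', Q')` by `G` is trivial, comes from `(P'', Q'')`. -/
theorem exists_desc₁₂ {f : P' ⟶ P} {g : P ⟶ P''} {w : f ≫ g = 0} (h : (ShortComplex.mk f g w).ShortExact)
    {f₂ : Q' ⟶ Q} {g₂ : Q ⟶ Q''} {w₂ : f₂ ≫ g₂ = 0} (h₂ : (ShortComplex.mk f₂ g₂ w₂).ShortExact)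
    (B : Biext J P Q G) (hB : Biext.IsTrivial J (pull f (𝟙 Q) B))
    (hB₂ : ∀ B₂ : Biext J P'' Q' G, Biext.IsTrivial J B₂) :
    ∃ B'' : Biext J P'' Q'' G, Nonempty (Biext.HomOver J g g₂ (𝟙 G) B B'') := by
  obtain ⟨hπ, hι, h0, hex⟩ := sections_of_shortExact h
  obtain ⟨hπ₂, hι₂, h0₂, hex₂⟩ := sections_of_shortExact h₂
  obtain ⟨s⟩ := hB
  obtain ⟨B₁, ⟨φ₁⟩⟩ := exists_desc₁ B (PSplit.ofPull f (𝟙 Q) B s) hπ hι h0 hex
  obtain ⟨s₂⟩ := hB₂ (pull (𝟙 P'') f₂ B₁)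
  obtain ⟨B₂, ⟨φ₂⟩⟩ := exists_desc₂ B₁ (PSplit.ofPull (𝟙 P'') f₂ B₁ s₂) hπ₂ hι₂ h0₂ hex₂
  have φ := φ₁.comp J φ₂
  rw [Category.comp_id, Category.id_comp, Category.comp_id] at φ
  exact ⟨B₂, ⟨φ⟩⟩

/-- triviality is symmetric -/
theorem isTrivial_swap {B : Biext J P Q G} (h : Biext.IsTrivial J (swap B)) : Biext.IsTrivial J B := by
  obtain ⟨s⟩ := h
  exact ⟨((PSplit.ofSplitting s).swap).toSplitting⟩

end K454.BX
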