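import Groth.Agent.S2992
import Groth.Agent.SGA3x.K8.TrivClopen
import Groth.Agent.Sga3B.TorusBc
import Groth.Agent.Sga3B.IsoFam
import Groth.Agent.AbSch.K453.FppfCov

/-!
# Local sections of homomorphisms onto tori

`exists_cover`: a homomorphism `v : G ⟶ T` from a smooth affine commutative group scheme to a torus which has a
homomorphic section at (some field-valued point over) every point of the base has a homomorphic section fppf-locally.
-/

set_option autoImplicit false
universe u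
open CategoryTheory CategoryTheory.Limits MonoidalCategory CartesianMonoidalCategory MonObj AlgebraicGeometry

namespace K454.TorSec

open Groth.Agent Groth.Agent.Sga3B Groth.Agent.Sga3B.BcPts Groth.Agent.Sga3B.IsoFam
  Groth.Agent.Sga3.H800.LocRig K8.TrivLocus K8.TrivClopen

variable {S : Scheme.{u}}

theorem isMultTypeFT_of_isTorus {T : Over S} [GrpObj T] (h : Red.IsTorus T) : SGA3x.IsMultTypeFT T := by
  obtain ⟨S', f, h1, h2, h3, h4⟩ := h
  refine ⟨S', f, h1, h2, h3, fun s' => ?_⟩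
  obtain ⟨U, hU, r, hr⟩ := h4 s'
  exact ⟨U, hU, Fin r → ℤ, inferInstance, inferInstance, hr⟩

theorem ev_comp_map {S' : Scheme.{u}} {f : S' ⟶ S} {X Y Z : Over S} (φ : Red.bc f X ⟶ Red.bc f Y) (v : Y ⟶ Z)
    {T : Over S} (x : T ⟶ X) (t : T ⟶ Over.mk f) : ev φ x t ≫ v = ev (φ ≫ (Over.pullback f).map v) x t := by
  simp only [ev, Category.assoc]
  rw [← bcEquiv_symm_comp]
  simp only [Category.assoc]

/-- triviality of the homomorphism of base changes attached to a family -/
theorem trivOver_unfam_iff {T G A Y : Over S} [GrpObj G] (δ : T ⊗ A ⟶ G) (a : Y ⟶ A) :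
    TrivOver a.left (unfam δ) ↔ ∀ (X : Over S) (g : X ⟶ T) (t : X ⟶ Y), lift g (t ≫ a) ≫ δ = 1 := by
  constructor
  · intro h X g t
    let X' : Over A.left := Over.mk (t.left ≫ a.left)
    let e : (Over.map A.hom).obj X' ≅ X := Over.isoMk (Iso.refl _) (by
      simp only [X', Over.map_obj_hom, Over.mk_hom, Category.assoc]
      erw [Category.id_comp]
      rw [Over.w, Over.w])
    have h1 := h X' (Over.homMk t.left rfl) (bcEquiv A.hom X' T (e.hom ≫ g))
    rw [comp_unfam, Equiv.symm_apply_apply, ← bcEquiv_one A.hom (T := X') (G := G)] at h1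
    have h2 := (bcEquiv A.hom X' G).injective h1
    have h3 : st X' = e.hom ≫ t ≫ a := by
      ext1
      change t.left ≫ a.left = 𝟙 _ ≫ t.left ≫ a.left
      rw [Category.id_comp]
    rw [h3, ← comp_lift, Category.assoc] at h2
    rw [← cancel_epi e.hom, h2, MonObj.comp_one]
  · intro h X t p
    rw [comp_unfam]
    have h3 : st X = (Over.homMk t.left (by
        have := Over.w t
        simp only [Over.mk_hom] at this
        simp only [Over.map_obj_hom]
        rw [← this, Category.assoc, Over.w]) : (Over.map A.hom).obj X ⟶ Y) ≫ a := by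
      ext1
      have := Over.w t
      simp only [Over.mk_hom] at this
      exact this.symm
    rw [h3, h, bcEquiv_one]

section Main

variable {T G : Over S} [GrpObj T] [IsCommMonObj T] [GrpObj G]

/-- The sieve of base changes on which a family of sections is defined. -/
theorem exists_cover (hT : Red.IsTorus T) (hG : Smooth G.hom) (hGa : IsAffineHom G.hom) (v : G ⟶ T) [IsMonHom v]
    (h : ∀ s : S, ∃ (K : Type u) (_ : Field K) (x : Spec (CommRingCat.of K) ⟶ S) (σ : Red.bc x T ⟶ Red.bc x G),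
      s ∈ Set.range x ∧ IsMonHom σ ∧ σ ≫ (Over.pullback x).map v = 𝟙 _) :
    ∃ R ∈ Scheme.fppfPrecoverage.toGrothendieck S, ∀ ⦃Z : Scheme.{u}⦄ (f : Z ⟶ S), R f →
      ∃ σ : Red.bc f T ⟶ Red.bc f G, IsMonHom σ ∧ σ ≫ (Over.pullback f).map v = 𝟙 _ := by
  obtain ⟨A, υ, ⟨hυ, huniv⟩, hA, hA'⟩ := S2992.result T G hT hG hGa
  let δ : T ⊗ A ⟶ T := (υ ≫ v) * (fst T A)⁻¹
  have hδ' : ∀ (X : Over S) (g : X ⟶ T) (t : X ⟶ A), lift g t ≫ δ = (lift g t ≫ υ ≫ v) * g⁻¹ := by
    intro X g t
    simp only [δ, MonObj.comp_mul, GrpObj.comp_inv, lift_fst]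
  have hδ : AutFam.IsHomFamily T T δ := by
    intro X g₁ g₂ t
    rw [hδ', hδ', hδ', ← Category.assoc, hυ, MonObj.mul_comp, _root_.mul_inv, Category.assoc, Category.assoc]
    exact mul_mul_mul_comm _ _ _ _
  have hu := isMonHom_unfam hδ
  have hTb : SGA3x.IsMultTypeFT (Red.bc A.hom T) := isMultTypeFT_of_isTorus (TorusBc.isTorus_bc A.hom hT)
  have hTa : IsAffineHom T.hom := TorusAlgClosed.isAffineHom_of_isTorus hT
  have hTs : Smooth T.hom := TorusAlgClosed.smooth_of_isTorus hT
  have i1 : IsAffineHom (Red.bc A.hom T).hom := 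
    TorusAlgClosed.isAffineHom_of_isTorus (TorusBc.isTorus_bc A.hom hT)
  have i2 : LocallyOfFiniteType (Red.bc A.hom T).hom :=
    inferInstanceAs (LocallyOfFiniteType (pullback.snd T.hom A.hom))
  obtain ⟨U, -, hU, hUt⟩ := exists_clopen hTb (Or.inr i2) (unfam δ)
  obtain ⟨Z, t, ht, -, hZ⟩ := exists_triv (K21.MultLoc.isMult_of_isMultTypeFT hTb) (unfam δ)
  have hrange : ∀ y : A.left, y ∈ Set.range t → y ∈ U := by
    rintro _ ⟨z, rfl⟩
    exact (hU _).2 ((hZ _).1 (exists_factor_residue t z))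
  let W : Over S := Over.mk (U.ι ≫ A.hom)
  let w : W ⟶ A := Over.homMk U.ι
  have hw := (trivOver_unfam_iff δ w).1 hUt
  have hsurj : ∀ s : S, s ∈ Set.range W.hom := by
    intro s
    obtain ⟨K, _, x, σ, ⟨p, hp⟩, hσ, hσv⟩ := h s
    obtain ⟨a, ha, -⟩ := huniv (Over.mk x) (fam σ) (isHomFamily_fam σ)
    have h1 : TrivOver a.left (unfam δ) := by
      rw [trivOver_unfam_iff]
      intro X g c
      rw [hδ']
      have h2 : lift g (c ≫ a) = lift g c ≫ (T ◁ a) := by rw [lift_whiskerLeft]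
      have h3 : lift g (c ≫ a) ≫ υ ≫ v = g := by
        rw [h2, Category.assoc, ← Category.assoc (T ◁ a), ha, ← Category.assoc, lift_fam, ev_comp_map, hσv, ev_id]
      rw [h3, mul_inv_cancel]
    obtain ⟨g', hg'⟩ := (hZ a.left).2 h1
    have h4 : a.left p ∈ U := hrange _ ⟨g' p, by rw [← Scheme.Hom.comp_apply, hg']⟩
    refine ⟨⟨a.left p, h4⟩, ?_⟩
    change A.hom (a.left p) = s
    rw [← Scheme.Hom.comp_apply, Over.w]
    exact hp
  have hWs : Smooth W.hom := inferInstanceAs (Smooth (U.ι ≫ A.hom))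
  let R : Sieve S :=
    { arrows := fun Z f => ∃ c : Z ⟶ W.left, c ≫ W.hom = f
      downward_closed := by
        rintro Y Z f ⟨c, hc⟩ g
        exact ⟨g ≫ c, by rw [Category.assoc, hc]⟩ }
  refine ⟨R, K453.FppfCov.mem_fppf_iff.mpr fun s => ⟨W.left, W.hom, ⟨𝟙 _, Category.id_comp _⟩, inferInstance,
    inferInstance, hsurj s⟩, ?_⟩
  rintro Z f ⟨c, hc⟩
  let b : Over.mk f ⟶ W := Over.homMk c hc
  let φ : T ⊗ Over.mk f ⟶ G := (T ◁ (b ≫ w)) ≫ υ
  have hφ : AutFam.IsHomFamily T G φ := isHomFamily_pull hυ _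
  refine ⟨unfam φ, isMonHom_unfam hφ, ?_⟩
  have h5 : ∀ (X : Over Z) (p : X ⟶ Red.bc f T), p ≫ unfam φ ≫ (Over.pullback f).map v = p := by
    intro X p
    rw [← Category.assoc]
    have h6 : p ≫ unfam φ = bcEquiv f X G (lift ((bcEquiv f X T).symm p) (st (T := Over.mk f) X) ≫ φ) :=
      comp_unfam (T := Over.mk f) φ p
    rw [h6, ← bcEquiv_comp]
    apply (bcEquiv f X T).symm.injective
    rw [Equiv.symm_apply_apply]
    simp only [φ]
    rw [Category.assoc, Category.assoc, ← Category.assoc, lift_whiskerLeft, ← Category.assoc (st _)]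
    have h7 := hw _ ((bcEquiv f X T).symm p) (st (T := Over.mk f) X ≫ b)
    rw [hδ', mul_inv_eq_one] at h7
    exact h7
  have h8 := h5 _ (𝟙 _)
  rwa [Category.id_comp] at h8

end Main

end K454.TorSec
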