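import Groth.Agent.AbSch.K454.ToriExt
import Groth.Agent.AbSch.K454.TorSec

/-!
# `𝓔xt¹(T₁, T₂) = 0` for tori `T₁`, `T₂` on the big fppf site

* `exists_local_splitting`: extensions of tori by tori over an affine base split fppf-locally;
* `isZero_extSh_torus`.
-/

set_option autoImplicit false
universe u
open CategoryTheory CategoryTheory.Limits MonoidalCategory CartesianMonoidalCategory MonObj AlgebraicGeometry
open CGrpSh Opposite

namespace K454.ToriVan

open K453.Slice ToriExt AffGrp Groth.Agent.Sga3B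

variable {S : Scheme.{u}}

/-- transport of a homomorphic section to sheaves -/
theorem splitting_of_section {G H : Over S} [GrpObj G] [IsCommMonObj G] [GrpObj H] [IsCommMonObj H]
    {E : BigSite.Ab Scheme.fppfPrecoverage S} (p : E ⟶ pts Scheme.fppfPrecoverage H) (v : G ⟶ H) [IsMonHom v]
    (e : pts Scheme.fppfPrecoverage G ≅ E) (he : e.hom ≫ p = ptsMap Scheme.fppfPrecoverage v) (Y : Over S)
    (σ : Red.bc Y.hom H ⟶ Red.bc Y.hom G) [IsMonHom σ] (hσ : σ ≫ (Over.pullback Y.hom).map v = 𝟙 _) :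
    ∃ s : (restr Scheme.fppfPrecoverage Y).obj (pts Scheme.fppfPrecoverage H) ⟶
      (restr Scheme.fppfPrecoverage Y).obj E, s ≫ (restr Scheme.fppfPrecoverage Y).map p = 𝟙 _ := by
  refine ⟨(ptsIso _ Y H).hom ≫ ptsMap _ σ ≫ (ptsIso _ Y G).inv ≫ (restr _ Y).map e.hom, ?_⟩
  have h1 := ptsMap_bc Scheme.fppfPrecoverage Y v
  have h2 : ptsMap Scheme.fppfPrecoverage σ ≫ ptsMap Scheme.fppfPrecoverage (G := Red.bc Y.hom G)
      (H := Red.bc Y.hom H) ((Over.pullback Y.hom).map v) = 𝟙 _ := by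
    rw [← ptsMap_comp]
    apply pts_hom_ext
    rw [K731.Full.hom_ptsMap, K731.Full.hom_id, hσ]
  have h3 : (restr Scheme.fppfPrecoverage Y).map (ptsMap Scheme.fppfPrecoverage v) =
      (ptsIso Scheme.fppfPrecoverage Y G).hom ≫ ptsMap Scheme.fppfPrecoverage (G := Red.bc Y.hom G)
        (H := Red.bc Y.hom H) ((Over.pullback Y.hom).map v) ≫ (ptsIso Scheme.fppfPrecoverage Y H).inv := by
    rw [← Category.assoc, ← h1, Category.assoc, Iso.hom_inv_id, Category.comp_id]
  simp only [Category.assoc]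
  rw [← Functor.map_comp, he, h3, Iso.inv_hom_id_assoc, reassoc_of% h2, Iso.hom_inv_id]

/-- the homomorphic section attached to a splitting of sheaves -/
theorem section_of_splitting {G H : Over S} [GrpObj G] [IsCommMonObj G] [GrpObj H] [IsCommMonObj H]
    {E : BigSite.Ab Scheme.fppfPrecoverage S} (p : E ⟶ pts Scheme.fppfPrecoverage H) (v : G ⟶ H) [IsMonHom v]
    (e : pts Scheme.fppfPrecoverage G ≅ E) (he : e.hom ≫ p = ptsMap Scheme.fppfPrecoverage v) (Y : Over S)
    (s : pts Scheme.fppfPrecoverage (Red.bc Y.hom H) ⟶ (restr Scheme.fppfPrecoverage Y).obj E)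
    (hs : s ≫ (restr Scheme.fppfPrecoverage Y).map p ≫ (ptsIso _ Y H).hom = 𝟙 _) :
    ∃ σ : Red.bc Y.hom H ⟶ Red.bc Y.hom G, IsMonHom σ ∧ σ ≫ (Over.pullback Y.hom).map v = 𝟙 _ := by
  let f : pts Scheme.fppfPrecoverage (Red.bc Y.hom H) ⟶ pts Scheme.fppfPrecoverage (Red.bc Y.hom G) :=
    s ≫ (restr Scheme.fppfPrecoverage Y).map e.inv ≫ (ptsIso _ Y G).hom
  refine ⟨K731.Full.hom f, inferInstance, ?_⟩
  have h1 := ptsMap_bc Scheme.fppfPrecoverage Y v
  have he' : e.inv ≫ ptsMap Scheme.fppfPrecoverage v = p := by rw [← he, Iso.inv_hom_id_assoc]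
  have h2 : f ≫ ptsMap Scheme.fppfPrecoverage (G := Red.bc Y.hom G)
      (H := Red.bc Y.hom H) ((Over.pullback Y.hom).map v) = 𝟙 _ := by
    simp only [f, Category.assoc]
    rw [← h1, ← Category.assoc ((restr Scheme.fppfPrecoverage Y).map e.inv), ← Functor.map_comp, he', hs]
  have h3 := congrArg K731.Full.hom h2
  rw [K731.Full.hom_comp, K731.Full.hom_ptsMap, K731.Full.hom_id] at h3
  exact h3

/-- **Extensions of tori by tori split fppf-locally.** -/
theorem exists_local_splitting (T₁ T₂ : Over S) [GrpObj T₁] [IsCommMonObj T₁] [GrpObj T₂] [IsCommMonObj T₂]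
    (h₁ : Red.IsTorus T₁) (h₂ : Red.IsTorus T₂) (E : BigSite.Ab Scheme.fppfPrecoverage S)
    (i : pts Scheme.fppfPrecoverage T₂ ⟶ E) (p : E ⟶ pts Scheme.fppfPrecoverage T₁) (w : i ≫ p = 0)
    (hE : (ShortComplex.mk i p w).ShortExact) :
    ∃ R ∈ Scheme.fppfPrecoverage.toGrothendieck S, ∀ ⦃Z : Scheme.{u}⦄ (f : Z ⟶ S), R f →
        ∃ s : (restr Scheme.fppfPrecoverage (Over.mk f)).obj (pts Scheme.fppfPrecoverage T₁) ⟶
            (restr Scheme.fppfPrecoverage (Over.mk f)).obj E,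
          s ≫ (restr Scheme.fppfPrecoverage (Over.mk f)).map p = 𝟙 _ := by
  have a1 := TorusAlgClosed.isAffineHom_of_isTorus h₁
  have a2 := TorusAlgClosed.smooth_of_isTorus h₁
  have b1 := TorusAlgClosed.isAffineHom_of_isTorus h₂
  have b2 := TorusAlgClosed.smooth_of_isTorus h₂
  obtain ⟨G, _, _, v, _, j, _, e, he, hj, k1, k2, k3, hP⟩ := exists_grp_affine i p w hE b1
  have l1 := K594.Local.isAffineHom.{u}
  have l2 := K594.Local.smooth.{u}
  have c1 : IsAffineHom v.left := hP @IsAffineHom b1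
  have c2 : Smooth v.left := hP @Smooth b2
  have d1 : IsAffineHom G.hom := by rw [← Over.w v]; infer_instance
  have d2 : Smooth G.hom := by rw [← Over.w v]; infer_instance
  obtain ⟨R, hR, hR'⟩ := TorSec.exists_cover h₁ d2 d1 v (fun s => by
    let x := Red.geomPt s
    obtain ⟨t, ht⟩ := allSplit_torus (Red.bc x T₁) (Red.bc x T₂) (TorusBc.isTorus_bc x h₁) (TorusBc.isTorus_bc x h₂)
      ((restr Scheme.fppfPrecoverage (Over.mk x)).obj E)
      ((ptsIso Scheme.fppfPrecoverage (Over.mk x) T₂).inv ≫ (restr Scheme.fppfPrecoverage (Over.mk x)).map i)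
      ((restr Scheme.fppfPrecoverage (Over.mk x)).map p ≫ (ptsIso Scheme.fppfPrecoverage (Over.mk x) T₁).hom)
      (by
        rw [Category.assoc, ← Category.assoc ((restr Scheme.fppfPrecoverage (Over.mk x)).map i),
          ← Functor.map_comp, w, Functor.map_zero, zero_comp, comp_zero])
      (by
        refine ShortComplex.shortExact_of_iso (ShortComplex.isoMk
          (S₁ := (ShortComplex.mk i p w).map (restr Scheme.fppfPrecoverage (Over.mk x)))
          (ptsIso Scheme.fppfPrecoverage (Over.mk x) T₂) (Iso.refl _)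
          (ptsIso Scheme.fppfPrecoverage (Over.mk x) T₁) ?_ ?_) (shortExact_restr Scheme.fppfPrecoverage (Over.mk x) hE)
        · change (ptsIso Scheme.fppfPrecoverage (Over.mk x) T₂).hom ≫
            (ptsIso Scheme.fppfPrecoverage (Over.mk x) T₂).inv ≫
            (restr Scheme.fppfPrecoverage (Over.mk x)).map i = (restr Scheme.fppfPrecoverage (Over.mk x)).map i ≫ 𝟙 _
          rw [Iso.hom_inv_id_assoc, Category.comp_id]
        · exact Category.id_comp _)
    obtain ⟨σ, hσ, hσ'⟩ := section_of_splitting p v e he (Over.mk x) t ht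
    refine ⟨AlgebraicClosure (S.residueField s), inferInstance, x, σ, ?_, hσ, hσ'⟩
    rw [IsoFam.range_geomPt]
    exact Set.mem_singleton s)
  refine ⟨R, hR, fun Z f hf => ?_⟩
  obtain ⟨σ, _, hσ⟩ := hR' f hf
  exact splitting_of_section p v e he (Over.mk f) σ hσ

/-- **`𝓔xt¹(T₁, T₂) = 0` for tori `T₁`, `T₂`**, on the big fppf site of any base. -/
theorem isZero_extSh_torus (T₁ T₂ : Over S) [GrpObj T₁] [IsCommMonObj T₁] [GrpObj T₂] [IsCommMonObj T₂]
    (h₁ : Red.IsTorus T₁) (h₂ : Red.IsTorus T₂) :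
    IsZero ((HomSh.extSh (QuotSh.J Scheme.fppfPrecoverage S) (pts Scheme.fppfPrecoverage T₁) 1).obj
      (pts Scheme.fppfPrecoverage T₂)) :=
  K453.ExtTors.isZero_extSh_of_affine T₁ T₂ fun Y _ E i p w hE =>
    exists_local_splitting (Red.bc Y.hom T₁) (Red.bc Y.hom T₂) (TorusBc.isTorus_bc Y.hom h₁)
      (TorusBc.isTorus_bc Y.hom h₂) E i p w hE

end K454.ToriVan
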