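import Groth.Agent.AbSch.K454.LatHom
import Groth.Agent.AbSch.K454.ToriVan
import Groth.Agent.AbSch.K454.AbConn
import Groth.Agent.AbSch.K454.Triv
import Groth.Agent.S19288

/-!
# Biextensions of `(P, T₁)` by `T₂`: the vanishing statements
-/

set_option autoImplicit false
universe u
open CategoryTheory CategoryTheory.Limits MonoidalCategory CartesianMonoidalCategory MonObj AlgebraicGeometry
open CategoryTheory.Abelian

namespace K454.TorTriv

variable {S : Scheme.{u}} (P T₁ T₂ : Over S) [GrpObj P] [IsCommMonObj P] [GrpObj T₁] [IsCommMonObj T₁]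
  [GrpObj T₂] [IsCommMonObj T₂]

/-- `Hom(P, 𝓗om(T₁, T₂)) = 0` for `P` of finite presentation with connected fibres. -/
theorem hom_eq_zero [QuasiCompact P.hom] [QuasiSeparated P.hom] [LocallyOfFinitePresentation P.hom]
    (hP : ∀ s : S, ConnectedSpace ↥(P.hom.fiber s)) (h₁ : Red.IsTorus T₁) (h₂ : Red.IsTorus T₂)
    (φ : CGrpSh.pts Scheme.fppfPrecoverage P ⟶ HomSh.homSh (QuotSh.J Scheme.fppfPrecoverage S)
      (CGrpSh.pts Scheme.fppfPrecoverage T₁) (CGrpSh.pts Scheme.fppfPrecoverage T₂)) : φ = 0 := by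
  obtain ⟨X, _, _, hX, ⟨θ⟩⟩ := LatHom.exists_lat T₁ T₂ h₁ h₂
  have := K452.LatExt.etale hX
  have := K452.LatExt.isSeparated hX
  have h3 : φ ≫ θ.inv = 0 := by
    apply ToriExt.pts_hom_ext
    rw [Groth.Agent.S19288.result P X hP (K731.Full.hom (φ ≫ θ.inv)), ← CGrpSh.ptsMap_one, K731.Full.hom_ptsMap]
  rw [← Category.comp_id φ, ← θ.inv_hom_id, ← Category.assoc, h3, zero_comp]

/-- Extensions of `P` by `𝓗om(T₁, T₂)` split, `P` smooth of finite presentation with connected fibres. -/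
theorem allSplit [Smooth P.hom] [QuasiCompact P.hom] [QuasiSeparated P.hom]
    (hP : ∀ s : S, ConnectedSpace ↥(P.hom.fiber s)) (h₁ : Red.IsTorus T₁) (h₂ : Red.IsTorus T₂) :
    ToriExt.AllSplit (CGrpSh.pts Scheme.fppfPrecoverage P) (HomSh.homSh (QuotSh.J Scheme.fppfPrecoverage S)
      (CGrpSh.pts Scheme.fppfPrecoverage T₁) (CGrpSh.pts Scheme.fppfPrecoverage T₂)) := by
  obtain ⟨X, _, _, hX, ⟨θ⟩⟩ := LatHom.exists_lat T₁ T₂ h₁ h₂
  have := geometricallyConnected_of_fibres P hP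
  intro E i p w hE
  refine K452.LatExt.exists_section hX (θ.hom ≫ i) p (by rw [Category.assoc, w, comp_zero]) ?_
  exact ShortComplex.shortExact_of_iso (ShortComplex.isoMk (S₁ := ShortComplex.mk i p w)
    (S₂ := ShortComplex.mk (θ.hom ≫ i) p _) θ.symm (Iso.refl _) (Iso.refl _) (by simp) (by simp)) hE

end K454.TorTriv
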