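import Groth.Agent.AbSch.K454.SemiAb
import Groth.Agent.AbSch.K454.DivEt
import Groth.Agent.AbSch.K454.TorTriv
import Groth.Agent.Sga3.H784.Neutral
import Groth.Agent.S19290
import Groth.Agent.AbSch.K448.SmoothConn

/-!
# Biextensions by abelian schemes, from the representability of `𝓔xt¹(T, A)` by étale group schemes
-/

set_option autoImplicit false
universe u
open CategoryTheory CategoryTheory.Limits MonoidalCategory CartesianMonoidalCategory MonObj AlgebraicGeometry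
open CategoryTheory.Abelian AbSch
open K454.BX

namespace K454.TorAb

variable {S : Scheme.{u}}

/-- `𝓔xt¹(T, A)` is represented by a separated étale group scheme. -/
def RepEt (T A : Over S) [GrpObj T] [IsCommMonObj T] [GrpObj A] [IsCommMonObj A] : Prop :=
    ∃ (D : Over S) (_ : GrpObj D) (_ : IsCommMonObj D),
      LocallyOfFinitePresentation D.hom ∧ IsSeparated D.hom ∧ Etale D.hom ∧
      Nonempty ((CGrpSh.pts Scheme.fppfPrecoverage D) ≅ (HomSh.extSh (QuotSh.J Scheme.fppfPrecoverage S) (CGrpSh.pts Scheme.fppfPrecoverage T) 1).obj (CGrpSh.pts Scheme.fppfPrecoverage A))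

variable {P T A : Over S} [GrpObj P] [IsCommMonObj P] [GrpObj T] [IsCommMonObj T] [GrpObj A] [IsCommMonObj A]

theorem hom_eq_zero_of_forall {D : Over S} [GrpObj D] [IsCommMonObj D] {E : BigSite.Ab Scheme.fppfPrecoverage S}
    (θ : CGrpSh.pts Scheme.fppfPrecoverage D ≅ E) (h : ∀ (f : P ⟶ D) [IsMonHom f], f = 1)
    (φ : CGrpSh.pts Scheme.fppfPrecoverage P ⟶ E) : φ = 0 := by
  have h3 : φ ≫ θ.inv = 0 := by
    apply ToriExt.pts_hom_ext
    rw [h (K731.Full.hom (φ ≫ θ.inv)), ← CGrpSh.ptsMap_one, K731.Full.hom_ptsMap]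
  rw [← Category.comp_id φ, ← θ.inv_hom_id, ← Category.assoc, h3, zero_comp]

/-- `Hom(P, 𝓔xt¹(T, A)) = 0`, `P` of finite presentation with connected fibres -/
theorem hom_extSh_eq_zero (hR : RepEt T A) [QuasiCompact P.hom] [QuasiSeparated P.hom] [LocallyOfFinitePresentation P.hom]
    (hP : ∀ s : S, ConnectedSpace ↥(P.hom.fiber s))
    (φ : CGrpSh.pts Scheme.fppfPrecoverage P ⟶ (HomSh.extSh (QuotSh.J Scheme.fppfPrecoverage S) (CGrpSh.pts Scheme.fppfPrecoverage T) 1).obj (CGrpSh.pts Scheme.fppfPrecoverage A)) : φ = 0 := by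
  obtain ⟨D, _, _, -, _, _, ⟨θ⟩⟩ := hR
  exact hom_eq_zero_of_forall θ (fun f _ => Groth.Agent.S19288.result P D hP f) φ

/-- `Hom(P, 𝓔xt¹(T, A)) = 0`, `P` quasi-compact and divisible -/
theorem hom_extSh_eq_zero_of_div (hR : RepEt T A) [QuasiCompact P.hom]
    (hP : ∀ n : ℤ, n ≠ 0 → Epi (n • 𝟙 (CGrpSh.pts Scheme.fppfPrecoverage P)))
    (φ : CGrpSh.pts Scheme.fppfPrecoverage P ⟶ (HomSh.extSh (QuotSh.J Scheme.fppfPrecoverage S) (CGrpSh.pts Scheme.fppfPrecoverage T) 1).obj (CGrpSh.pts Scheme.fppfPrecoverage A)) : φ = 0 := by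
  obtain ⟨D, _, _, -, _, _, ⟨θ⟩⟩ := hR
  exact hom_eq_zero_of_forall θ (fun f _ => DivEt.hom_eq_one hP f) φ

/-- **Biextensions of `(P, T)` by `A` are trivial** if `Hom(P, 𝓔xt¹(T, A)) = 0`. -/
theorem isTrivial_of_hom (hT : Red.IsTorus T) [Smooth A.hom] [IsProper A.hom]
    (hA : ∀ s : S, ConnectedSpace ↥(A.hom.fiber s)) {P' : BigSite.Ab Scheme.fppfPrecoverage S}
    (h : ∀ φ : P' ⟶ (HomSh.extSh (QuotSh.J Scheme.fppfPrecoverage S) (CGrpSh.pts Scheme.fppfPrecoverage T) 1).obj (CGrpSh.pts Scheme.fppfPrecoverage A), φ = 0)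
    (B : Biext (QuotSh.J Scheme.fppfPrecoverage S) P' (CGrpSh.pts Scheme.fppfPrecoverage T) (CGrpSh.pts Scheme.fppfPrecoverage A)) :
    Biext.IsTrivial (QuotSh.J Scheme.fppfPrecoverage S) B :=
  K454.BX.isTrivial_of_vanish B (ext_zero_of_isZero (Groth.Agent.S19290.result T A hT hA)) h

/-- the fibres of a torus are connected -/
theorem connected_torus (hT : Red.IsTorus T) (s : S) : ConnectedSpace ↥(T.hom.fiber s) := by
  obtain ⟨K, _, _, c, hc⟩ : ∃ (K : Type u) (_ : Field K) (_ : IsAlgClosed K)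
      (c : Spec (CommRingCat.of K) ⟶ Spec (S.residueField s)), Surjective c := by
    refine ⟨AlgebraicClosure (S.residueField s), inferInstance, inferInstance,
      Spec.map (CommRingCat.ofHom (algebraMap (S.residueField s) (AlgebraicClosure (S.residueField s)))), ⟨fun x => ?_⟩⟩
    have h1 : Subsingleton ↥(Spec (S.residueField s)) :=
      inferInstanceAs (Subsingleton (PrimeSpectrum (S.residueField s)))
    exact ⟨Classical.arbitrary _, Subsingleton.elim _ _⟩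
  let b := S.fromSpecResidueField s
  have h1 : Red.IsTorus (Red.bc c (Red.bc b T)) :=
    Groth.Agent.Sga3B.TorusBc.isTorus_bc c (Groth.Agent.Sga3B.TorusBc.isTorus_bc b hT)
  have h2 : ConnectedSpace ↥(pullback (pullback.snd T.hom b) c) :=
    Groth.Agent.Sga3.H784.Neutral.connectedSpace_of_isTorus h1
  have h3 : Surjective (pullback.fst (pullback.snd T.hom b) c) := inferInstance
  exact h3.1.connectedSpace (pullback.fst (pullback.snd T.hom b) c).continuous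

/-- the finiteness properties of tori -/
theorem torus_props (hT : Red.IsTorus T) :
    QuasiCompact T.hom ∧ QuasiSeparated T.hom ∧ Smooth T.hom ∧ LocallyOfFinitePresentation T.hom := by
  have h1 := Groth.Agent.Sga3B.TorusAlgClosed.isAffineHom_of_isTorus hT
  have h2 := Groth.Agent.Sga3B.TorusAlgClosed.smooth_of_isTorus hT
  exact ⟨inferInstance, inferInstance, inferInstance, inferInstance⟩

section Semi

variable {T₁ G₁ A₁ T₂ G₂ A₂ T₃ : Over S}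
    [GrpObj T₁] [IsCommMonObj T₁] [GrpObj G₁] [IsCommMonObj G₁]
    [GrpObj A₁] [IsCommMonObj A₁] [GrpObj T₂] [IsCommMonObj T₂] [GrpObj G₂] [IsCommMonObj G₂]
    [GrpObj A₂] [IsCommMonObj A₂] [GrpObj T₃] [IsCommMonObj T₃]

/-- `Hom(G₁, 𝓗om(G₂, A)) = 0`, `G₁`, `G₂` extensions of abelian schemes by tori -/
theorem hom_homSh_eq_zero (hT₁ : Red.IsTorus T₁) (hT₂ : Red.IsTorus T₂)
    [Smooth A₁.hom] [IsProper A₁.hom] (hA₁ : ∀ s : S, ConnectedSpace ↥(A₁.hom.fiber s))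
    [Smooth A₂.hom] [IsProper A₂.hom] (hA₂ : ∀ s : S, ConnectedSpace ↥(A₂.hom.fiber s))
    [Smooth A.hom] [IsProper A.hom] (hA : ∀ s : S, ConnectedSpace ↥(A.hom.fiber s))
    (ι₁ : T₁ ⟶ G₁) (π₁ : G₁ ⟶ A₁) [IsMonHom ι₁] [IsMonHom π₁] (w₁ : ι₁ ≫ π₁ = 1)
    (hex₁ : (CGrpSh.seq Scheme.fppfPrecoverage ι₁ π₁ w₁).ShortExact)
    (ι₂ : T₂ ⟶ G₂) (π₂ : G₂ ⟶ A₂) [IsMonHom ι₂] [IsMonHom π₂] (w₂ : ι₂ ≫ π₂ = 1)
    (hex₂ : (CGrpSh.seq Scheme.fppfPrecoverage ι₂ π₂ w₂).ShortExact)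
    (φ : CGrpSh.pts Scheme.fppfPrecoverage G₁ ⟶ HomSh.homSh (QuotSh.J Scheme.fppfPrecoverage S)
      (CGrpSh.pts Scheme.fppfPrecoverage G₂) (CGrpSh.pts Scheme.fppfPrecoverage A)) : φ = 0 := by
  have c₁ := K454.geometricallyConnected_of_fibres A₁ hA₁
  have c₂ := K454.geometricallyConnected_of_fibres A₂ hA₂
  have r₂ := K448.SmoothConn.geometricallyReduced A₂.hom
  refine hom_zero_of_shortExact hex₁ (fun ψ => ?_) (fun ψ => ?_) φ
  · exact hom_zero_swap (hom_zero_of_isZero (Groth.Agent.S19290.result T₁ A hT₁ hA)) ψ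
  · refine hom_zero_swap (fun χ => ?_) ψ
    refine hom_zero_of_shortExact hex₂ (fun ψ => ?_) (fun ψ => ?_) χ
    · exact hom_zero_swap (hom_zero_of_isZero (Groth.Agent.S19290.result T₂ A hT₂ hA)) ψ
    · exact eq_zero_of_proper ψ

/-- **Biextensions of `(G₁, G₂)` by `A` are trivial** -/
theorem isTrivial_semi (hR₁ : RepEt T₁ A) (hR₂ : RepEt T₂ A) (hT₁ : Red.IsTorus T₁) (hT₂ : Red.IsTorus T₂)
    [Smooth A₁.hom] [IsProper A₁.hom] (hA₁ : ∀ s : S, ConnectedSpace ↥(A₁.hom.fiber s))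
    [Smooth A₂.hom] [IsProper A₂.hom] (hA₂ : ∀ s : S, ConnectedSpace ↥(A₂.hom.fiber s))
    [Smooth A.hom] [IsProper A.hom] (hA : ∀ s : S, ConnectedSpace ↥(A.hom.fiber s))
    (ι₁ : T₁ ⟶ G₁) (π₁ : G₁ ⟶ A₁) [IsMonHom ι₁] [IsMonHom π₁] (w₁ : ι₁ ≫ π₁ = 1)
    (hex₁ : (CGrpSh.seq Scheme.fppfPrecoverage ι₁ π₁ w₁).ShortExact)
    (ι₂ : T₂ ⟶ G₂) (π₂ : G₂ ⟶ A₂) [IsMonHom ι₂] [IsMonHom π₂] (w₂ : ι₂ ≫ π₂ = 1)
    (hex₂ : (CGrpSh.seq Scheme.fppfPrecoverage ι₂ π₂ w₂).ShortExact)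
    (hA₁₂ : ∀ B₀ : Biext (QuotSh.J Scheme.fppfPrecoverage S) (CGrpSh.pts Scheme.fppfPrecoverage A₁) (CGrpSh.pts Scheme.fppfPrecoverage A₂) (CGrpSh.pts Scheme.fppfPrecoverage A), Biext.IsTrivial (QuotSh.J Scheme.fppfPrecoverage S) B₀)
    (B : Biext (QuotSh.J Scheme.fppfPrecoverage S) (CGrpSh.pts Scheme.fppfPrecoverage G₁) (CGrpSh.pts Scheme.fppfPrecoverage G₂) (CGrpSh.pts Scheme.fppfPrecoverage A)) :
    Biext.IsTrivial (QuotSh.J Scheme.fppfPrecoverage S) B := by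
  obtain ⟨q₂, s₂, m₂, f₂⟩ := torus_props hT₂
  obtain ⟨B'', ⟨ψ⟩⟩ := exists_desc₁₂ hex₁ hex₂ B
    (isTrivial_swap (isTrivial_of_hom hT₁ hA (hom_zero_of_shortExact hex₂
      (hom_extSh_eq_zero hR₁ (connected_torus hT₂)) (hom_extSh_eq_zero hR₁ hA₂)) _))
    (isTrivial_of_hom hT₂ hA (hom_extSh_eq_zero hR₂ hA₁))
  exact isTrivial_of_homOver ψ (hA₁₂ B'')

/-- Biextensions of `(G₁, G₂)` by a torus come from the abelian parts. -/
theorem exists_desc_torus (hT₁ : Red.IsTorus T₁) (hT₂ : Red.IsTorus T₂) (hT₃ : Red.IsTorus T₃)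
    [Smooth A₁.hom] [IsProper A₁.hom] (hA₁ : ∀ s : S, ConnectedSpace ↥(A₁.hom.fiber s))
    [Smooth A₂.hom] [IsProper A₂.hom] (hA₂ : ∀ s : S, ConnectedSpace ↥(A₂.hom.fiber s))
    (ι₁ : T₁ ⟶ G₁) (π₁ : G₁ ⟶ A₁) [IsMonHom ι₁] [IsMonHom π₁] (w₁ : ι₁ ≫ π₁ = 1)
    (hex₁ : (CGrpSh.seq Scheme.fppfPrecoverage ι₁ π₁ w₁).ShortExact)
    (ι₂ : T₂ ⟶ G₂) (π₂ : G₂ ⟶ A₂) [IsMonHom ι₂] [IsMonHom π₂] (w₂ : ι₂ ≫ π₂ = 1)
    (hex₂ : (CGrpSh.seq Scheme.fppfPrecoverage ι₂ π₂ w₂).ShortExact)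
    (B : Biext (QuotSh.J Scheme.fppfPrecoverage S) (CGrpSh.pts Scheme.fppfPrecoverage G₁) (CGrpSh.pts Scheme.fppfPrecoverage G₂) (CGrpSh.pts Scheme.fppfPrecoverage T₃)) :
    ∃ B₀ : Biext (QuotSh.J Scheme.fppfPrecoverage S) (CGrpSh.pts Scheme.fppfPrecoverage A₁) (CGrpSh.pts Scheme.fppfPrecoverage A₂) (CGrpSh.pts Scheme.fppfPrecoverage T₃),
      Nonempty (Biext.HomOver (QuotSh.J Scheme.fppfPrecoverage S) (CGrpSh.ptsMap Scheme.fppfPrecoverage π₁) (CGrpSh.ptsMap Scheme.fppfPrecoverage π₂) (𝟙 (CGrpSh.pts Scheme.fppfPrecoverage T₃)) B B₀) := by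
  obtain ⟨q₂, s₂, m₂, f₂⟩ := torus_props hT₂
  have := K453.OverEx.enoughInjectives (QuotSh.J Scheme.fppfPrecoverage S)
  refine exists_desc₁₂ hex₁ hex₂ B (isTrivial_swap (isTrivial_of_vanish _ ?_ ?_)) (fun B₂ => isTrivial_of_vanish B₂ ?_ ?_)
  · exact ext_zero_of_shortExact hex₂
      ((K454.ToriExt.allSplit_iff _ _).mp (K454.TorTriv.allSplit T₂ T₁ T₃ (connected_torus hT₂) hT₁ hT₃))
      ((K454.ToriExt.allSplit_iff _ _).mp (K454.TorTriv.allSplit A₂ T₁ T₃ hA₂ hT₁ hT₃))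
  · exact fun φ => (K454.ToriVan.isZero_extSh_torus T₁ T₃ hT₁ hT₃).eq_of_tgt _ _
  · exact (K454.ToriExt.allSplit_iff _ _).mp (K454.TorTriv.allSplit A₁ T₂ T₃ hA₁ hT₂ hT₃)
  · exact fun φ => (K454.ToriVan.isZero_extSh_torus T₂ T₃ hT₂ hT₃).eq_of_tgt _ _

end Semi

end K454.TorAb
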