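import Groth.Agent.AbSch.K454.ToriExt
import Groth.Agent.AbSch.K454.MulEpi
import Groth.Agent.Sga3B.TorusBc
import Groth.Agent.Sga3.H827.DSFlat
import Groth.Agent.Grpsch.AbBC
import Groth.Agent.Sga3B.TorusAlgClosed
import Groth.Agent.S0084
import Groth.Agent.Grpsch.MulFlat

/-!
# Multiplication by `n ≠ 0` on a torus is finite, flat and surjective
-/

set_option autoImplicit false
universe u
open CategoryTheory CategoryTheory.Limits MonoidalCategory CartesianMonoidalCategory MonObj AlgebraicGeometry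

namespace K454.TorPow

open Groth.Agent Groth.Agent.Sga3B

theorem map_zsmul_of_add {A G : Type*} [AddCommGroup A] [Group G] (f : A → G)
    (h : ∀ a b, f (a + b) = f a * f b) (n : ℤ) (a : A) : f (n • a) = f a ^ n := by
  let F : Multiplicative A →* G := MonoidHom.mk' (fun x => f (Multiplicative.toAdd x)) fun x y => h _ _
  exact map_zpow F (Multiplicative.ofAdd a) n

/-- `DSmap` of a multiple -/
theorem DSmap_zsmul (S : Scheme.{u}) {M N : Type} [AddCommGroup M] [AddCommGroup N] (φ : M →+ N) (n : ℤ) :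
    Red.DSmap S (n • φ) = Red.DSmap S φ ^ n := by
  have := map_zsmul_of_add (A := M →+ N) (G := Red.DS S N ⟶ Red.DS S M) (fun φ => Red.DSmap S φ)
    (fun a b => by exact ToriExt.DSmap_add a b) n φ
  exact this

theorem DSmap_id (S : Scheme.{u}) (M : Type) [AddCommGroup M] :
    Red.DSmap S (AddMonoidHom.id M) = 𝟙 (Red.DS S M) := by
  have h : ∀ (T : Over S) (x : T ⟶ Red.DS S M), x ≫ Red.DSmap S (AddMonoidHom.id M) = x := by
    intro T x
    refine (DSPts.dsEquiv T M).symm.injective ?_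
    change DSPts.dsChar _ = DSPts.dsChar _
    rw [DSPts.dsChar_DSmap]
    rfl
  rw [← h _ (𝟙 _), Category.id_comp]

theorem finite_DSmap (S : Scheme.{u}) {M N : Type} [AddCommGroup M] [AddCommGroup N] (φ : N →+ M)
    (hφ : Function.Injective φ) [Finite (M ⧸ φ.range)] : IsFinite (Red.DSmap S φ).left := by
  refine MorphismProperty.of_isPullback (P := @IsFinite) (Sga3.H827.DSFlat.isPullback φ S) ?_
  change IsFinite (Spec.map _)
  rw [IsFinite.SpecMap_iff]
  let f : Multiplicative N →* Multiplicative M := AddMonoidHom.toMultiplicative φ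
  have hf : Function.Injective f := hφ
  have : Finite (Multiplicative M ⧸ f.range) := inferInstanceAs (Finite (M ⧸ φ.range))
  let _ := Sga3.H827.FreeCoset.alg (R := ULift.{u} ℤ) f
  change Module.Finite (MonoidAlgebra (ULift.{u} ℤ) (Multiplicative N)) (MonoidAlgebra (ULift.{u} ℤ) (Multiplicative M))
  have e : ((Multiplicative M ⧸ f.range) →₀ MonoidAlgebra (ULift.{u} ℤ) (Multiplicative N)) ≃ₗ[MonoidAlgebra (ULift.{u} ℤ) (Multiplicative N)]
      MonoidAlgebra (ULift.{u} ℤ) (Multiplicative M) :=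
    { Sga3.H827.FreeCoset.addEquiv (R := ULift.{u} ℤ) f hf with
      map_smul' := fun a x => Sga3.H827.FreeCoset.addEquiv_smul f hf a x }
  exact Module.Finite.equiv e

attribute [local instance] Functor.grpObjObj

/-- A property of `[n]` on tori which is local for the fpqc topology can be checked on `𝔾ₘʳ`. -/
theorem prop_pow {P : MorphismProperty Scheme.{u}} [IsZariskiLocalAtTarget P]
    [P.IsStableUnderBaseChange] [P.DescendsAlong (@Surjective ⊓ @Flat ⊓ @QuasiCompact)] (n : ℤ)
    (hP : ∀ (S : Scheme.{u}) (r : ℕ), P (Red.DSmap S (n • AddMonoidHom.id (Fin r → ℤ))).left)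
    {S : Scheme.{u}} {T : Over S} [GrpObj T] (h : Red.IsTorus T) : P (𝟙 T ^ n).left := by
  obtain ⟨S', f, hf, hs, hc, h⟩ := h
  refine FpqcLoc.of_fpqc_cover (𝟙 T ^ n).left (pullback.fst T.hom f) (TorusBc.qc_cover_bc f T.hom hc) fun z => ?_
  obtain ⟨U, hU, r, ⟨e⟩⟩ := h (pullback.snd T.hom f z)
  refine ⟨(pullback.snd T.hom f) ⁻¹ᵁ U, hU, ?_⟩
  let W := (pullback.snd T.hom f) ⁻¹ᵁ U
  have h1 : IsPullback (W.ι ≫ pullback.fst T.hom f) (pullback.snd T.hom f ∣_ U) T.hom (U.ι ≫ f) :=
    (isPullback_morphismRestrict (pullback.snd T.hom f) U).flip.paste_horiz (IsPullback.of_hasPullback T.hom f)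
  have h2 : h1.isoPullback.hom ≫ pullback.fst T.hom (U.ι ≫ f) = W.ι ≫ pullback.fst T.hom f := h1.isoPullback_hom_fst
  change P (pullback.snd (𝟙 T ^ n).left (W.ι ≫ pullback.fst T.hom f))
  rw [← h2]
  refine FpqcLoc.of_isPullback' (IsPullback.of_hasPullback _ _) ?_
  -- the base change of `[n]`
  have h3 : IsPullback (pullback.fst T.hom (U.ι ≫ f)) ((Over.pullback (U.ι ≫ f)).map (𝟙 T ^ n)).left (𝟙 T ^ n).left
      (pullback.fst T.hom (U.ι ≫ f)) := Sga3.H798.FpqcIso.isPullback_map_left (U.ι ≫ f) (𝟙 T ^ n)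
  have h4 : P ((Over.pullback (U.ι ≫ f)).map (𝟙 T ^ n)).left := by
    rw [Grpsch.AbBC.map_zpow_one]
    have h5 : (𝟙 ((Over.pullback (U.ι ≫ f)).obj T) ^ n) =
        e.hom.hom.hom ≫ Red.DSmap _ (n • AddMonoidHom.id (Fin r → ℤ)) ≫ e.inv.hom.hom := by
      have h6 : e.hom.hom.hom ≫ e.inv.hom.hom = 𝟙 _ := by
        have := congrArg (fun z => z.hom.hom) e.hom_inv_id
        exact this
      have h7 : Red.DSmap (U : Scheme.{u}) (AddMonoidHom.id (Fin r → ℤ)) = 𝟙 _ := DSmap_id _ _
      rw [DSmap_zsmul, h7, ← Category.assoc, GrpObj.comp_zpow, Category.comp_id, GrpObj.zpow_comp, h6]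
    rw [h5]
    have i1 : IsIso e.hom.hom.hom.left := inferInstanceAs (IsIso ((Grp.forget _ ⋙ Over.forget _).map e.hom))
    have i2 : IsIso e.inv.hom.hom.left := inferInstanceAs (IsIso ((Grp.forget _ ⋙ Over.forget _).map e.inv))
    rw [Over.comp_left, Over.comp_left, P.cancel_left_of_respectsIso, P.cancel_right_of_respectsIso]
    exact hP _ r
  exact (P.arrow_mk_iso_iff (Arrow.isoMk h3.isoPullback (Iso.refl _) (by simp))).mp h4

theorem zsmul_id_apply (r : ℕ) (n : ℤ) (x : Fin r → ℤ) : (n • AddMonoidHom.id (Fin r → ℤ)) x = n • x := rfl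

theorem injective_zsmul_id (r : ℕ) {n : ℤ} (hn : n ≠ 0) : Function.Injective (n • AddMonoidHom.id (Fin r → ℤ)) := by
  intro x y h
  rw [zsmul_id_apply, zsmul_id_apply] at h
  exact smul_right_injective _ hn h

theorem finite_quotient (r : ℕ) {n : ℤ} (hn : n ≠ 0) :
    Finite ((Fin r → ℤ) ⧸ (n • AddMonoidHom.id (Fin r → ℤ)).range) := by
  have h1 : AddGroup.FG ((Fin r → ℤ) ⧸ (n • AddMonoidHom.id (Fin r → ℤ)).range) := inferInstance
  have h2 : IsAddTorsion ((Fin r → ℤ) ⧸ (n • AddMonoidHom.id (Fin r → ℤ)).range) := by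
    intro x
    obtain ⟨x, rfl⟩ := QuotientAddGroup.mk_surjective x
    rw [isOfFinAddOrder_iff_nsmul_eq_zero]
    refine ⟨n.natAbs, Int.natAbs_pos.mpr hn, ?_⟩
    have h3 : n • (QuotientAddGroup.mk x : (Fin r → ℤ) ⧸ (n • AddMonoidHom.id (Fin r → ℤ)).range) = 0 := by
      rw [← QuotientAddGroup.mk_zsmul]
      exact (QuotientAddGroup.eq_zero_iff _).mpr ⟨x, rfl⟩
    rwa [natAbs_nsmul_eq_zero]
  exact AddCommGroup.finite_of_fg_isAddTorsion _ h2

set_option backward.isDefEq.respectTransparency.types false in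
theorem local_isFinite : IsZariskiLocalAtTarget @IsFinite.{u} := inferInstance

theorem local_flat : IsZariskiLocalAtTarget (@Flat.{u}) :=
  HasRingHomProperty.instIsZariskiLocalAtTarget @Flat (Q := RingHom.Flat)

/-- `[n]`, `n ≠ 0`, is finite on a torus. -/
theorem isFinite_pow {S : Scheme.{u}} {T : Over S} [GrpObj T] (h : Red.IsTorus T) {n : ℤ} (hn : n ≠ 0) :
    IsFinite (𝟙 T ^ n).left := by
  have := Groth.Agent.S0084.result.{u}
  have := local_isFinite.{u}
  refine prop_pow (P := @IsFinite.{u}) n (fun S r => ?_) h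
  have := finite_quotient r hn
  exact finite_DSmap S _ (injective_zsmul_id r hn)

/-- `[n]`, `n ≠ 0`, is flat on a torus. -/
theorem flat_pow {S : Scheme.{u}} {T : Over S} [GrpObj T] (h : Red.IsTorus T) {n : ℤ} (hn : n ≠ 0) :
    Flat (𝟙 T ^ n).left := by
  have := Groth.Agent.Grpsch.MulFlat.flat_descends.{u}
  have := local_flat.{u}
  exact prop_pow (P := @Flat.{u}) n (fun S r => Sga3.H827.DSFlat.flat_DSmap _ S (injective_zsmul_id r hn)) h

/-- `[n]`, `n ≠ 0`, is surjective on a torus. -/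
theorem surjective_pow {S : Scheme.{u}} {T : Over S} [GrpObj T] (h : Red.IsTorus T) {n : ℤ} (hn : n ≠ 0) :
    Surjective (𝟙 T ^ n).left :=
  prop_pow (P := @Surjective.{u}) n (fun S r => Sga3.H827.DSFlat.surjective_DSmap _ S (injective_zsmul_id r hn)) h

theorem lfp_pow {S : Scheme.{u}} {T : Over S} [GrpObj T] (h : Red.IsTorus T) (n : ℤ) :
    LocallyOfFinitePresentation (𝟙 T ^ n).left := by
  have := TorusAlgClosed.smooth_of_isTorus h
  have : LocallyOfFinitePresentation ((𝟙 T ^ n).left ≫ T.hom) := by rw [Over.w]; infer_instance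
  exact Groth.Agent.Flat2D.LfpComp.lfp_of_comp _ T.hom

/-- Multiplication by `n ≠ 0` on a torus is an epimorphism of sheaves of points for the fppf topology. -/
theorem epi_zsmul {S : Scheme.{u}} {T : Over S} [GrpObj T] [IsCommMonObj T] (h : Red.IsTorus T) {n : ℤ} (hn : n ≠ 0) :
    Epi (n • 𝟙 (CGrpSh.pts Scheme.fppfPrecoverage T)) := by
  have := flat_pow h hn
  have := surjective_pow h hn
  have := lfp_pow h n
  exact K454.MulEpi.epi_zsmul_of_fppf T n

/-- The kernel of `[n]`, `n ≠ 0`, on a torus is finite, flat and of finite presentation over the base. -/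
theorem torsion_props {S : Scheme.{u}} {T N : Over S} [GrpObj T] (h : Red.IsTorus T) {n : ℤ} (hn : n ≠ 0)
    {j : N ⟶ T} (hN : IsPullback j (toUnit N) (𝟙 T ^ n) η[T]) :
    IsFinite N.hom ∧ Flat N.hom ∧ LocallyOfFinitePresentation N.hom := by
  have h1 : IsPullback j.left (toUnit N).left (𝟙 T ^ n).left (η[T] : 𝟙_ (Over S) ⟶ T).left := hN.map (Over.forget S)
  have h2 : (toUnit N).left = N.hom := by
    have := Over.w (toUnit N)
    rw [← this]
    exact (Category.comp_id _).symm
  rw [h2] at h1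
  exact ⟨MorphismProperty.of_isPullback (P := @IsFinite) h1 (isFinite_pow h hn),
    MorphismProperty.of_isPullback (P := @Flat) h1 (flat_pow h hn),
    MorphismProperty.of_isPullback (P := @LocallyOfFinitePresentation) h1 (lfp_pow h n)⟩

end K454.TorPow
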