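import Groth.Agent.SGA1.K151.Amitsur
import Mathlib.LinearAlgebra.FreeModule.PID
import Mathlib.LinearAlgebra.TensorProduct.Basis
import Mathlib.LinearAlgebra.Dimension.StrongRankCondition
import Mathlib.LinearAlgebra.InvariantBasisNumber
import Mathlib.RingTheory.Flat.TorsionFree

/-!
# Multiplicative one-cocycles over a principal ideal domain are coboundaries
-/

set_option autoImplicit false

open TensorProduct K151

namespace K454.ToriAlg

universe u

variable {R B : Type u} [CommRing R] [CommRing B] [Algebra R B]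

/-- Over a principal ideal domain, a multiplicative one-cocycle of a faithfully flat extension is the coboundary of a
unit. -/
theorem exists_unit_of_pid [IsDomain R] [IsPrincipalIdealRing R] [Module.FaithfullyFlat R B] (u : B ⊗[R] B)
    (hunit : IsUnit u) (hu : Amitsur.p12 R B u * Amitsur.p23 R B u = Amitsur.p13 R B u) :
    ∃ k : B, IsUnit k ∧ (1 : B) ⊗ₜ[R] k = u * (k ⊗ₜ[R] (1 : B)) := by
  let K : Submodule R B :=
    { carrier := {k : B | (1 : B) ⊗ₜ[R] k = u * (k ⊗ₜ[R] (1 : B))}
      add_mem' := fun {a b} ha hb => by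
        simp only [Set.mem_ofPred_eq] at ha hb ⊢
        rw [tmul_add, add_tmul, mul_add, ha, hb]
      zero_mem' := by simp
      smul_mem' := fun r a ha => by
        simp only [Set.mem_ofPred_eq] at ha ⊢
        rw [tmul_smul, ha, ← smul_tmul', mul_smul_comm] }
  have hK : ∀ k : B, k ∈ K ↔ (1 : B) ⊗ₜ[R] k = u * (k ⊗ₜ[R] (1 : B)) := fun _ => Iff.rfl
  have hspan : Ideal.span (K : Set B) = ⊤ := Amitsur.span_eq_top u hunit hu
  have hcomm : ∀ m ∈ K, ∀ m' ∈ K, m ⊗ₜ[R] m' = m' ⊗ₜ[R] m := by
    intro m hm m' hm'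
    have e1 : m ⊗ₜ[R] m' = (1 ⊗ₜ[R] m') * (m ⊗ₜ[R] 1) := by simp
    have e2 : m' ⊗ₜ[R] m = (1 ⊗ₜ[R] m) * (m' ⊗ₜ[R] 1) := by simp
    rw [e1, e2, (hK _).mp hm, (hK _).mp hm']
    ring
  obtain ⟨n, b, m, hbm⟩ := Submodule.mem_span_set'.mp ((Ideal.eq_top_iff_one _).mp hspan)
  have hbm' : ∑ i, b i * (m i : B) = 1 := hbm
  let μ : B ⊗[R] K →ₗ[R] B := TensorProduct.lift ((LinearMap.mul R B).compl₂ K.subtype)
  have hμ : ∀ (x : B) (k : K), μ (x ⊗ₜ k) = x * (k : B) := fun x k => rfl
  have hinj : Function.Injective (K.subtype.lTensor B) :=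
    Module.Flat.lTensor_preserves_injective_linearMap _ K.injective_subtype
  have key : ∀ κ : B ⊗[R] K, κ = ∑ i, (μ κ * b i) ⊗ₜ[R] (⟨m i, (m i).2⟩ : K) := by
    intro κ
    induction κ with
    | zero => simp
    | add x y hx hy =>
      rw [map_add]
      simp only [add_mul, add_tmul, Finset.sum_add_distrib]
      rw [← hx, ← hy]
    | tmul x k =>
      apply hinj
      rw [map_sum]
      simp only [LinearMap.lTensor_tmul, Submodule.coe_subtype, hμ]
      have h1 : ∀ i, (x * (k : B) * b i) ⊗ₜ[R] (m i : B) = (x ⊗ₜ 1) * ((b i * (m i : B)) ⊗ₜ[R] (k : B)) := by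
        intro i
        have h2 : (x * (k : B) * b i) ⊗ₜ[R] (m i : B) = ((x * b i) ⊗ₜ 1) * ((k : B) ⊗ₜ[R] (m i : B)) := by
          rw [Algebra.TensorProduct.tmul_mul_tmul, one_mul]; ring_nf
        rw [h2, hcomm _ k.2 _ (m i).2]
        simp only [Algebra.TensorProduct.tmul_mul_tmul, one_mul, mul_assoc]
      rw [Finset.sum_congr rfl (fun i _ => h1 i), ← Finset.mul_sum, ← sum_tmul, hbm']
      simp
  have hμinj : Function.Injective μ := by
    rw [injective_iff_map_eq_zero]
    intro κ hκ
    rw [key κ, hκ]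
    simp
  have hfg : K.FG := by
    let K' : Submodule R B := Submodule.span R (Set.range fun i => (m i : B))
    have hle : K' ≤ K := Submodule.span_le.mpr (by rintro _ ⟨i, rfl⟩; exact (m i).2)
    have hs : Function.Surjective ((Submodule.inclusion hle).lTensor B) := by
      intro κ
      refine ⟨∑ i, (μ κ * b i) ⊗ₜ[R] (⟨m i, Submodule.subset_span ⟨i, rfl⟩⟩ : K'), ?_⟩
      rw [map_sum]
      exact (key κ).symm
    have hs' : Function.Surjective (Submodule.inclusion hle) :=
      (Module.FaithfullyFlat.lTensor_surjective_iff_surjective R B (Submodule.inclusion hle)).mp hs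
    have htop : K = K' := by
      refine le_antisymm (fun k hk => ?_) hle
      obtain ⟨⟨k', hk'⟩, h⟩ := hs' ⟨k, hk⟩
      have : k' = k := congrArg Subtype.val h
      exact this ▸ hk'
    rw [htop]
    exact Submodule.fg_span (Set.finite_range _)
  have hfin : Module.Finite R K := Module.Finite.iff_fg.mpr hfg
  have htf : Module.IsTorsionFree R B := inferInstance
  have htf' : Module.IsTorsionFree R K := inferInstance
  have hfree : Module.Free R K := inferInstance
  rcases subsingleton_or_nontrivial B with hB | hB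
  · exact ⟨1, isUnit_one, by
      have : Subsingleton (B ⊗[R] B) := by
        refine ⟨fun x y => ?_⟩
        have h0 : (1 : B ⊗[R] B) = 0 := by
          rw [Algebra.TensorProduct.one_def, Subsingleton.elim (1 : B) 0, zero_tmul]
        rw [← one_mul x, ← one_mul y, h0, zero_mul, zero_mul]
      exact Subsingleton.elim _ _⟩
  · let ι := Module.Free.ChooseBasisIndex R K
    let bK : Module.Basis ι R K := Module.Free.chooseBasis R K
    let e : (B ⊗[R] K) ≃ₗ[B] B :=
      LinearEquiv.ofBijective
        ({ toFun := μ, map_add' := map_add μ, map_smul' := by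
            intro c κ
            induction κ with
            | zero => simp
            | add x y hx hy => rw [smul_add, map_add, hx, hy, map_add, smul_add]
            | tmul x k => rw [smul_tmul', hμ, hμ]; simp [mul_assoc] } : B ⊗[R] K →ₗ[B] B)
        ⟨hμinj, fun x => ⟨∑ i, (x * b i) ⊗ₜ[R] (⟨m i, (m i).2⟩ : K), by
          change μ _ = x
          rw [map_sum]
          simp only [hμ, mul_assoc]
          rw [← Finset.mul_sum, hbm', mul_one]⟩⟩
    let b1 : Module.Basis ι B B := (bK.baseChange B).map e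
    have hcard : Fintype.card ι = 1 := by
      have := Module.finrank_eq_card_basis b1
      rw [Module.finrank_self] at this
      exact this.symm
    obtain ⟨i₀, hi₀⟩ := Fintype.card_eq_one_iff.mp hcard
    refine ⟨(bK i₀ : B), ?_, (hK _).mp (bK i₀).2⟩
    have hmem : ∀ k ∈ K, ∃ r : R, k = r • (bK i₀ : B) := by
      intro k hk
      refine ⟨bK.repr ⟨k, hk⟩ i₀, ?_⟩
      have h1 := bK.sum_repr ⟨k, hk⟩
      rw [Fintype.sum_eq_single i₀ (fun j hj => absurd (hi₀ j) hj)] at h1
      exact (congrArg Subtype.val h1).symm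
    have h2 : Ideal.span (K : Set B) ≤ Ideal.span {(bK i₀ : B)} := by
      rw [Ideal.span_le]
      intro k hk
      obtain ⟨r, hr⟩ := hmem k hk
      rw [hr, Algebra.smul_def]
      exact Ideal.mul_mem_left _ _ (Ideal.subset_span rfl)
    rw [hspan, top_le_iff] at h2
    exact Ideal.span_singleton_eq_top.mp h2

end K454.ToriAlg
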