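import Groth.Agent.SGA1.K151.GmGa
import Groth.Agent.Sga3B.DSAff
import Groth.Agent.AlgGrp.K408.CharUnit
import Groth.Agent.Sga3B.TorusAlgClosed
import Groth.Agent.AbSch.K454.ToriAlg
import Groth.Agent.AbSch.K454.LaurPID

/-!
# Extensions of `𝔾ₘ` by `𝔾ₘ` over an algebraically closed field split

* `exists_lift_pid`: points of `H` with values in a principal ideal domain lift to an extension `G` of `H` by `𝔾ₘ`;
* `exists_section_gm`: an extension of `𝔾ₘ` by `𝔾ₘ` over an algebraically closed field splits.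
-/

set_option autoImplicit false
universe u
open CategoryTheory CategoryTheory.Limits MonoidalCategory CartesianMonoidalCategory MonObj AlgebraicGeometry
open TensorProduct hiding lift

namespace K454.ToriField

open K151 K151.GmGa

section Lift

variable {S : Scheme.{u}} {G H : Over S} [GrpObj G] [IsCommMonObj G] [GrpObj H]

/-- Points of `H` with values in a principal ideal domain lift to an extension `G` of `H` by `𝔾ₘ`. -/
theorem exists_lift_pid (v : G ⟶ H) [IsMonHom v] [IsAffineHom v.left] [Flat v.left] [Surjective v.left]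
    (j : Red.Gm S ⟶ G) [IsMonHom j] [Mono j] (h0 : j ≫ v = 1)
    (hk : ∀ (X : Over S) (g : X ⟶ G), g ≫ v = 1 → ∃ n : X ⟶ Red.Gm S, n ≫ j = g)
    {R : Type u} [CommRing R] [IsDomain R] [IsPrincipalIdealRing R] (v₀ : Spec (CommRingCat.of R) ⟶ S)
    (h : Over.mk v₀ ⟶ H) : ∃ σ : Over.mk v₀ ⟶ G, σ ≫ v = h := by
  have a1 : IsAffineHom (Over.mk v.left : Over H.left).hom := inferInstanceAs (IsAffineHom v.left)
  have a2 : Flat (Over.mk v.left : Over H.left).hom := inferInstanceAs (Flat v.left)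
  have a3 : Surjective (Over.mk v.left : Over H.left).hom := inferInstanceAs (Surjective v.left)
  obtain ⟨B, _, _, _, ⟨x'⟩⟩ := exists_sp (Over.mk v.left : Over H.left) (R := R) h.left
  have hx' : x'.left ≫ v.left = Spec.map (CommRingCat.ofHom (algebraMap R B)) ≫ h.left := Over.w x'
  let x : sp v₀ B ⟶ G := Over.homMk x'.left (by
    have h1 := Over.w v
    have h2 : h.left ≫ H.hom = v₀ := Over.w h
    change x'.left ≫ G.hom = Spec.map (CommRingCat.ofHom (algebraMap R B)) ≫ v₀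
    rw [← h1, ← Category.assoc, hx', Category.assoc, h2])
  let t : sp v₀ B ⟶ Over.mk v₀ := Over.homMk (Spec.map (CommRingCat.ofHom (algebraMap R B))) rfl
  have hx : x ≫ v = t ≫ h := by
    ext1
    exact hx'
  let p₁ : sp v₀ (B ⊗[R] B) ⟶ sp v₀ B := spMap v₀ Algebra.TensorProduct.includeLeft
  let p₂ : sp v₀ (B ⊗[R] B) ⟶ sp v₀ B := spMap v₀ Algebra.TensorProduct.includeRight
  have hpb := isPullback_sp v₀ (B := B) (𝟙 _) _ (Category.comp_id _)
  have hp : p₁ ≫ t = p₂ ≫ t := by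
    ext1
    exact hpb.w
  let δ : sp v₀ (B ⊗[R] B) ⟶ G := (p₂ ≫ x) * (p₁ ≫ x)⁻¹
  have hδ : δ ≫ v = 1 := by
    simp only [δ, MonObj.mul_comp, GrpObj.inv_comp, Category.assoc, hx]
    rw [← Category.assoc, ← Category.assoc, hp, mul_inv_cancel]
  obtain ⟨n, hn⟩ := hk _ δ hδ
  let u : B ⊗[R] B := nf v₀ (Red.gmFn n)
  have hunit : IsUnit u := isUnit_nf v₀ (GmPts.isUnit_gmFn _)
  have hcoc : (spMap v₀ (Amitsur.p12 R B) ≫ n) * (spMap v₀ (Amitsur.p23 R B) ≫ n) =
      spMap v₀ (Amitsur.p13 R B) ≫ n := by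
    rw [← cancel_mono j, MonObj.mul_comp, Category.assoc, Category.assoc, Category.assoc, hn]
    simp only [δ, p₁, p₂, MonObj.comp_mul, GrpObj.comp_inv, spMap_comp_assoc]
    have e1 : (Amitsur.p12 R B).comp Algebra.TensorProduct.includeRight =
        (Amitsur.p23 R B).comp Algebra.TensorProduct.includeLeft := by ext; simp
    have e2 : (Amitsur.p23 R B).comp Algebra.TensorProduct.includeRight =
        (Amitsur.p13 R B).comp Algebra.TensorProduct.includeRight := by ext; simp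
    have e3 : (Amitsur.p12 R B).comp Algebra.TensorProduct.includeLeft =
        (Amitsur.p13 R B).comp Algebra.TensorProduct.includeLeft := by ext; simp
    rw [e1, e2, e3, _root_.mul_comm, _root_.mul_assoc, inv_mul_cancel_left]
  have hu : Amitsur.p12 R B u * Amitsur.p23 R B u = Amitsur.p13 R B u := by
    have h := congrArg (fun g => nf v₀ (Red.gmFn g)) hcoc
    simp only [GmPts.gmFn_mul, GmPts.gmFn_comp, nf_mul, nf_appTop] at h
    exact h
  obtain ⟨c, hc, hcu⟩ := ToriAlg.exists_unit_of_pid u hunit hu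
  let κ : sp v₀ B ⟶ Red.Gm S := GmPts.ptOfUnit (isUnit_fn v₀ hc).unit
  have hκ : p₂ ≫ κ = n * (p₁ ≫ κ) := by
    apply GmPts.gmFn_injective
    apply nf_injective
    dsimp only
    rw [GmPts.gmFn_mul, GmPts.gmFn_comp, GmPts.gmFn_comp, GmPts.gmFn_ptOfUnit, nf_mul, nf_appTop, nf_appTop]
    change Algebra.TensorProduct.includeRight (nf v₀ (fn v₀ c)) = nf v₀ (Red.gmFn n) *
      Algebra.TensorProduct.includeLeft (nf v₀ (fn v₀ c))
    rw [nf_fn]
    exact hcu
  let y : sp v₀ B ⟶ G := x * (κ ≫ j)⁻¹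
  have hy : p₁ ≫ y = p₂ ≫ y := by
    have h2 : p₂ ≫ x = δ * (p₁ ≫ x) := by simp [δ]
    simp only [y, MonObj.comp_mul, GrpObj.comp_inv]
    rw [h2, ← Category.assoc p₂, hκ, MonObj.mul_comp, hn, Category.assoc]
    rw [_root_.mul_inv, _root_.mul_comm δ, _root_.mul_assoc, mul_inv_cancel_left]
  have hyv : y ≫ v = t ≫ h := by
    simp only [y, MonObj.mul_comp, GrpObj.inv_comp, Category.assoc, h0, MonObj.comp_one, inv_one, _root_.mul_one, hx]
  have hy' : p₁.left ≫ y.left = p₂.left ≫ y.left := by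
    rw [← Over.comp_left, ← Over.comp_left, hy]
  have hdesc : ∀ {Z : Scheme.{u}} (g₁ g₂ : Z ⟶ (sp v₀ B).left), g₁ ≫ t.left = g₂ ≫ t.left →
      g₁ ≫ y.left = g₂ ≫ y.left := by
    intro Z g₁ g₂ h
    have e1 : hpb.lift g₁ g₂ h ≫ p₁.left = g₁ := hpb.lift_fst _ _ _
    have e2 : hpb.lift g₁ g₂ h ≫ p₂.left = g₂ := hpb.lift_snd _ _ _
    calc g₁ ≫ y.left = (hpb.lift g₁ g₂ h ≫ p₁.left) ≫ y.left := by rw [e1]
      _ = (hpb.lift g₁ g₂ h ≫ p₂.left) ≫ y.left := by rw [Category.assoc, Category.assoc, hy']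
      _ = g₂ ≫ y.left := by rw [e2]
  have b1 : Surjective t.left := surjective_spec (R := R) (B := B)
  have b2 : Flat t.left := flat_spec (R := R) (B := B)
  have b3 : QuasiCompact t.left := inferInstanceAs (QuasiCompact (Spec.map (CommRingCat.ofHom (algebraMap R B))))
  have hfac : t.left ≫ EffectiveEpi.desc t.left y.left hdesc = y.left := EffectiveEpi.fac _ _ _
  refine ⟨Over.homMk (EffectiveEpi.desc t.left y.left hdesc) ?_, ?_⟩
  · rw [← cancel_epi t.left, ← Category.assoc, hfac, Over.w]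
    rfl
  · ext1
    rw [← cancel_epi t.left]
    change t.left ≫ EffectiveEpi.desc t.left y.left hdesc ≫ v.left = t.left ≫ h.left
    rw [← Category.assoc, hfac, ← Over.comp_left, hyv]
    rfl

end Lift

section Norm

open Groth.Agent.Sga3B

variable {S : Scheme.{u}} {G H N : Over S} [GrpObj G] [IsCommMonObj G] [GrpObj H] [IsCommMonObj H] [GrpObj N]

/-- A section of an extension of `H` by `N` can be corrected to a homomorphism if pointed maps `H × H ⟶ N` are
homomorphisms. -/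
theorem exists_hom_of_section (v : G ⟶ H) [IsMonHom v] (j : N ⟶ G) [IsMonHom j] [Mono j]
    (hk : ∀ (X : Over S) (g : X ⟶ G), g ≫ v = 1 → ∃ n : X ⟶ N, n ≫ j = g)
    (hN : ∀ g : H ⊗ H ⟶ N, η[H ⊗ H] ≫ g = η[N] → IsMonHom g) (σ₁ : H ⟶ G) (h₁ : σ₁ ≫ v = 𝟙 _) :
    ∃ σ : H ⟶ G, IsMonHom σ ∧ σ ≫ v = 𝟙 _ := by
  let σ : H ⟶ G := σ₁ * ((1 : H ⟶ H) ≫ σ₁)⁻¹
  have h2 : σ ≫ v = 𝟙 _ := by
    simp only [σ, MonObj.mul_comp, GrpObj.inv_comp, Category.assoc, h₁, Category.comp_id, inv_one, _root_.mul_one]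
  have h3 : ∀ X : Over S, (1 : X ⟶ H) ≫ σ = 1 := by
    intro X
    simp only [σ, MonObj.comp_mul, GrpObj.comp_inv]
    rw [← Category.assoc, MonObj.comp_one, mul_inv_cancel]
  let f : H ⊗ H ⟶ G := ((fst _ _ * snd _ _) ≫ σ) * (fst _ _ ≫ σ)⁻¹ * (snd _ _ ≫ σ)⁻¹
  have hf : ∀ (X : Over S) (x y : X ⟶ H), lift x y ≫ f = ((x * y) ≫ σ) * (x ≫ σ)⁻¹ * (y ≫ σ)⁻¹ := by
    intro X x y
    simp only [f, MonObj.comp_mul, GrpObj.comp_inv, ← Category.assoc, lift_fst, lift_snd]
  have hfv : f ≫ v = 1 := by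
    simp only [f, MonObj.mul_comp, GrpObj.inv_comp, Category.assoc, h2, Category.comp_id]
    rw [_root_.mul_comm (fst _ _), mul_inv_cancel_right, mul_inv_cancel]
  obtain ⟨g, hg⟩ := hk _ f hfv
  have key : ∀ (X : Over S) (x y : X ⟶ H), x = 1 ∨ y = 1 → lift x y ≫ g = 1 := by
    intro X x y hxy
    rw [← cancel_mono j, Category.assoc, hg, hf, MonObj.one_comp]
    rcases hxy with rfl | rfl
    · rw [_root_.one_mul, h3, inv_one, _root_.mul_one, mul_inv_cancel]
    · rw [_root_.mul_one, h3, inv_one, _root_.mul_one, mul_inv_cancel]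
  have hg1 : IsMonHom g := by
    refine hN g ?_
    rw [MonObj.one_eq_one, MonObj.one_eq_one]
    have h4 : (1 : 𝟙_ (Over S) ⟶ H ⊗ H) = lift 1 1 := by
      apply CartesianMonoidalCategory.hom_ext
      · rw [lift_fst, MonObj.one_comp]
      · rw [lift_snd, MonObj.one_comp]
    rw [h4]
    exact key _ _ _ (Or.inl rfl)
  have hg2 : ∀ (X : Over S) (x y : X ⟶ H), lift x y ≫ g = 1 := by
    intro X x y
    have h4 : lift x y = lift x 1 * lift 1 y := by
      apply CartesianMonoidalCategory.hom_ext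
      · rw [MonObj.mul_comp, lift_fst, lift_fst, lift_fst, _root_.mul_one]
      · rw [MonObj.mul_comp, lift_snd, lift_snd, lift_snd, _root_.one_mul]
    rw [h4, MonObj.mul_comp, key _ _ _ (Or.inr rfl), key _ _ _ (Or.inl rfl), _root_.mul_one]
  refine ⟨σ, Pts.isMonHom_of_points σ fun X x y => ?_, h2⟩
  have h5 := hf X x y
  rw [← hg, ← Category.assoc, hg2, MonObj.one_comp] at h5
  rw [eq_comm, mul_inv_eq_one, mul_inv_eq_iff_eq_mul] at h5
  rw [h5, _root_.mul_comm]

end Norm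

section Field

open Groth.Agent Groth.Agent.Sga3B Groth.Agent.AlgGrp.K408.CharUnit

theorem smooth_gm (S : Scheme.{u}) : Smooth (Red.Gm S).hom :=
  TorusAlgClosed.prop_of_isSplitTorusWith (P := @Smooth) (M := ℤ) (T := Red.Gm S) inferInstance ⟨Iso.refl _⟩

theorem isIntegral_gm (k : Type u) [Field k] : IsIntegral (Red.Gm (Spec (CommRingCat.of k))).left := by
  have h1 : IsIntegral (Spec (CommRingCat.of (MonoidAlgebra k (Multiplicative ℤ)))) := inferInstance
  have h2 : IsIso (DSAff.dsTo k ℤ) := inferInstance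
  have h4 : IsIso (DSAff.dsTo k ℤ).left := inferInstanceAs (IsIso ((Over.forget _).map (DSAff.dsTo k ℤ)))
  have h3 : Nonempty (Red.Gm (Spec (CommRingCat.of k))).left :=
    ⟨(DSAff.dsFrom k ℤ).left (Classical.arbitrary (Spec (CommRingCat.of (MonoidAlgebra k (Multiplicative ℤ)))))⟩
  let f : (Red.Gm (Spec (CommRingCat.of k))).left ⟶ Spec (CommRingCat.of (MonoidAlgebra k (Multiplicative ℤ))) :=
    (DSAff.dsTo k ℤ).left
  have h5 : IsIso f := h4
  exact isIntegral_of_isOpenImmersion f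

variable {k : Type u} [Field k] [IsAlgClosed k]

/-- An extension of `𝔾ₘ` by `𝔾ₘ` over an algebraically closed field splits. -/
theorem exists_section_gm {G : Over (Spec (CommRingCat.of k))} [GrpObj G] [IsCommMonObj G]
    (v : G ⟶ Red.Gm (Spec (CommRingCat.of k))) [IsMonHom v] [IsAffineHom v.left] [Flat v.left] [Surjective v.left]
    (j : Red.Gm (Spec (CommRingCat.of k)) ⟶ G) [IsMonHom j] [Mono j] (h0 : j ≫ v = 1)
    (hk : ∀ (X : Over (Spec (CommRingCat.of k))) (g : X ⟶ G), g ≫ v = 1 →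
      ∃ n : X ⟶ Red.Gm (Spec (CommRingCat.of k)), n ≫ j = g) :
    ∃ σ : Red.Gm (Spec (CommRingCat.of k)) ⟶ G, IsMonHom σ ∧ σ ≫ v = 𝟙 _ := by
  have i1 := smooth_gm (Spec (CommRingCat.of k))
  have i2 := isIntegral_gm k
  have i3 : ConnectedSpace (Red.Gm (Spec (CommRingCat.of k))).left := inferInstance
  have i4 := connectedSpace_tensor (Red.Gm (Spec (CommRingCat.of k))) (Red.Gm (Spec (CommRingCat.of k)))
  obtain ⟨σ₀, h₀⟩ : ∃ σ₀ : Books.AffBridge.SpecOver k (MonoidAlgebra k (Multiplicative ℤ)) ⟶ G,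
      σ₀ ≫ v = DSAff.dsFrom k ℤ :=
    exists_lift_pid v j h0 hk (R := MonoidAlgebra k (Multiplicative ℤ))
      (Spec.map (CommRingCat.ofHom (algebraMap k (MonoidAlgebra k (Multiplicative ℤ))))) (DSAff.dsFrom k ℤ)
  refine exists_hom_of_section v j hk (fun g hg => isMonHom_of_one _ g hg) (DSAff.dsTo k ℤ ≫ σ₀) ?_
  rw [Category.assoc, h₀]
  exact DSAff.dsTo_dsFrom

end Field

end K454.ToriField
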